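import Groth.Agent.BlowCoh.PnVanishBase

/-!
# Powers of the anticanonical class on the blow-up of projective space
-/

set_option autoImplicit false
set_option linter.style.haveILetI false
set_option linter.unusedSectionVars false
set_option backward.isDefEq.respectTransparency false
set_option backward.isDefEq.respectTransparency.types false
set_option maxHeartbeats 400000

universe u

open CategoryTheory CategoryTheory.Limits AlgebraicGeometry TopologicalSpace Opposite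
open Groth.Agent.H23.PicMul

noncomputable section

namespace Groth.Agent.BlowCoh

open Groth.Agent

theorem subsingleton_of_cl {k : Type u} [Field k] {X : Scheme.{u}} [X.Over (Spec (CommRingCat.of k))] {A B : X.Modules} (h : PicF.cl A = PicF.cl B) (q : ℕ)
    (hB : Subsingleton (Coh.HH X B q)) : Subsingleton (Coh.HH X A q) :=
  @Equiv.subsingleton _ _ (PnEuler.hhIso k (cl_eq_iff.1 h).some q).toEquiv hB

variable {n : ℕ} {k : Type u} [Field k] [IsAlgClosed k] {X : Scheme.{u}} (π : X ⟶ CohB1.ProjSpace n k)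
  (Z : Closeds ↥(CohB1.ProjSpace n k)) (hπ : BlowUp.IsBlowUp π (Scheme.IdealSheafData.vanishingIdeal Z))

theorem cl_pow_anti {Hm : X.Modules} {c : ℤ} {d : ℕ} (hHm : Nonempty (Hm ≅ twA π Z c d)) (t : ℕ) :
    PicF.cl (CohB1.tensorPow Hm t) = PicF.cl (twA π Z (c * t) (d * t)) := by
  rw [cl_tensorPow, cl_eq_iff.2 hHm, cl_twA, cl_twA, mul_pow, pow_clT, pow_mul]

include hπ in
theorem exists_excInverse : ∃ L : X.Modules, PicF.IsInvertible L ∧ ClSub.IsInverseOf L (excMod π Z) := by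
  obtain ⟨L, hL, ⟨e⟩⟩ := H23.PicInv.exists_inverse (isInvertible_excMod π Z hπ)
  obtain ⟨c⟩ := H23.PicMul.comm L (excMod π Z)
  exact ⟨L, hL, ⟨c ≪≫ e⟩⟩

theorem cl_pow_anti_inverse {L : X.Modules} (hL : ClSub.IsInverseOf L (excMod π Z)) {Hm Hi : X.Modules}
    {c : ℤ} {d : ℕ} (hHm : Nonempty (Hm ≅ twA π Z c d)) (hHi : ClSub.IsInverseOf Hi Hm) (t : ℕ) :
    PicF.cl (CohB1.tensorPow Hi t) = PicF.cl (twB π L (-(c * t)) (d * t)) := by
  have h1 : PicF.cl L * PicF.cl (excMod π Z) = 1 := by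
    rw [← cl_tensor, one_def]; exact cl_eq_iff.2 hL
  have h2 : PicF.cl (CohB1.tensorPow Hi t) * PicF.cl (twA π Z (c * t) (d * t)) = 1 := by
    rw [← cl_pow_anti π Z hHm t, cl_tensorPow, cl_tensorPow, ← mul_pow, ← cl_tensor, cl_eq_iff.2 hHi, ← one_def,
      one_pow]
  refine left_inv_eq_right_inv h2 ?_
  rw [cl_twA, cl_twB, mul_mul_mul_comm, ← clT_add, add_neg_cancel, clT_zero, one_mul, ← mul_pow, mul_comm, h1,
    one_pow]

variable [X.Over (Spec (CommRingCat.of k))]
  (hπk : π ≫ CohB1.ProjSpace.toSpec n k = X ↘ Spec (CommRingCat.of k))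
  (hZf : (Z : Set ↥(CohB1.ProjSpace n k)).Finite) (hZc : ∀ z ∈ Z, IsClosed ({z} : Set ↥(CohB1.ProjSpace n k)))
  (hsub : (Z : Set ↥(CohB1.ProjSpace n k)).Subsingleton)

include hπ hπk hZf hZc hsub

theorem subsingleton_anti_pow (hn : 2 ≤ n) {Hm : X.Modules}
    (hHm : Nonempty (Hm ≅ twA π Z ((n : ℤ) + 1) (n - 1))) (t i : ℕ) (hi : 1 ≤ i) (hin : i + 1 ≤ n) :
    Subsingleton (Coh.HH X (CohB1.tensorPow Hm t) i) := by
  refine subsingleton_of_cl (k := k) (cl_pow_anti π Z hHm t) i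
    (subsingleton_twA π Z hπ hπk hn hZf hZc hsub _ _ i hi (fun _ => Or.inr ?_)
      (subsingleton_Tw _ i (fun h => by omega) (fun h => by omega)))
  push_cast
  have h : ((n - 1 : ℕ) : ℤ) * t ≤ ((n : ℤ) + 1) * t :=
    mul_le_mul_of_nonneg_right (by omega) (Int.natCast_nonneg t)
  omega

theorem subsingleton_anti_inverse_pow (hn : 2 ≤ n) {Hm Hi : X.Modules}
    (hHm : Nonempty (Hm ≅ twA π Z ((n : ℤ) + 1) (n - 1))) (hHi : ClSub.IsInverseOf Hi Hm) (t i : ℕ) (hi : 1 ≤ i)
    (hin : i + 1 ≤ n) : Subsingleton (Coh.HH X (CohB1.tensorPow Hi t) i) := by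
  obtain ⟨L, hLi, hL⟩ := exists_excInverse π Z hπ
  rcases Nat.eq_zero_or_pos t with rfl | ht
  · refine subsingleton_of_cl (k := k) ((cl_tensorPow Hi 0).trans ?_) i
      (subsingleton_twA_zero π Z hπ hπk hn hZf hZc 0 i (subsingleton_Tw 0 i (fun h => by omega) (fun h => by omega)))
    rw [pow_zero, cl_twA, clT_zero, pow_zero, one_mul]
  · refine subsingleton_of_cl (k := k) (cl_pow_anti_inverse π Z hL hHm hHi t) i
      (subsingleton_twB π Z hπ hπk hn hZf hZc hsub hLi hL _ _ ?_ i (by omega))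
    push_cast
    have h : ((n - 1 : ℕ) : ℤ) * t < ((n : ℤ) + 1) * t :=
      mul_lt_mul_of_pos_right (by omega) (by omega)
    omega

end Groth.Agent.BlowCoh
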