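import Groth.Agent.BlowCoh.H1Step

/-!
# Anticanonical twists of the kernel of a matrix of linear forms
-/

set_option autoImplicit false
set_option linter.style.haveILetI false
set_option linter.unusedSectionVars false
set_option backward.isDefEq.respectTransparency false
set_option backward.isDefEq.respectTransparency.types false
set_option maxHeartbeats 400000

universe u

open CategoryTheory CategoryTheory.Limits AlgebraicGeometry TopologicalSpace Opposite
open Groth.Agent.H23.PicMul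
open Groth.Agent.PnCoh.Finite (mapLin deltaLin)

noncomputable section

attribute [local instance] MvPolynomial.gradedAlgebra

namespace Groth.Agent.BlowCoh

open Groth.Agent

/-- `O(1)` is generated by the coordinates. -/
theorem exists_epi_free_Tw1 {n : ℕ} {k : Type u} [Field k] :
    ∃ ψ : FlatMod.freeMod (CohB1.ProjSpace n k) (n + 1) ⟶ Twist.twistProjSpace n k 1, Epi ψ := by
  suffices h : ∃ ψ : FlatMod.freeMod (CohB1.ProjSpace n k) (n + 1) ⟶ Twist.twistProjSpace n k ((1 : ℕ) : ℤ), Epi ψ by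
    exact h
  refine InvX.exists_epi_freeMod (s := fun j => Twist.globalOf (CohB1.polyGrading n k)
    ⟨MvPolynomial.X j, H6PnSm.X_mem_one n k j⟩) fun y => ?_
  obtain ⟨l, hl⟩ := mem_Dpl_cases y
  let U := Proj.basicOpen (CohB1.polyGrading n k) (MvPolynomial.X l : MvPolynomial (Fin (n + 1)) k)
  have hyl : y ∈ U := hl
  have hframe := TwistX.isFrame_res_globalOf (H6PnSm.X_mem_one n k l) (U := U) fun z => z.2
  refine eq_top_iff.2 fun m _ => ?_
  obtain ⟨r, hr⟩ := (hframe.germ_bijective hyl).2 m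
  rw [← hr]
  refine Submodule.smul_mem _ r (Submodule.subset_span ⟨l, ?_⟩)
  exact ((Twist.twistProjSpace n k ((1 : ℕ) : ℤ)).presheaf.germ_res_apply (homOfLE le_top) y hyl _).symm

variable {n : ℕ} {k : Type u} [Field k] [IsAlgClosed k] {X : Scheme.{u}} (π : X ⟶ CohB1.ProjSpace n k)
  (Z : Closeds ↥(CohB1.ProjSpace n k)) [X.Over (Spec (CommRingCat.of k))]
  (hπ : BlowUp.IsBlowUp π (Scheme.IdealSheafData.vanishingIdeal Z))
  (hπk : π ≫ CohB1.ProjSpace.toSpec n k = X ↘ Spec (CommRingCat.of k)) (hn : 3 ≤ n)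
  (hZf : (Z : Set ↥(CohB1.ProjSpace n k)).Finite) (hZc : ∀ z ∈ Z, IsClosed ({z} : Set ↥(CohB1.ProjSpace n k)))
  (hsub : (Z : Set ↥(CohB1.ProjSpace n k)).Subsingleton)

/-- A finite sum of copies of `π^*O(e)`. -/
def IsSumTw (A : X.Modules) (e : ℤ) : Prop :=
  ∃ r : ℕ, Nonempty (A ≅ ∐ fun _ : Fin r => (Scheme.Modules.pullback π).obj (Twist.twistProjSpace n k e))

variable {π}

theorem IsSumTw.subsingleton {A : X.Modules} {e : ℤ} (hA : IsSumTw π A e) {M B : X.Modules}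
    (hB : PicF.cl B = clT π e * PicF.cl M) (q : ℕ) (h : Subsingleton (Coh.HH X B q)) :
    Subsingleton (Coh.HH X ((DCoh.tensorBi.obj M).obj A) q) := by
  obtain ⟨r, hr⟩ := hA
  exact subsingleton_tensor_sigma k hr hB q h

theorem IsSumTw.isFinLocFree {A : X.Modules} {e : ℤ} (hA : IsSumTw π A e) : FlatMod.IsFinLocFree A := by
  obtain ⟨r, ⟨φ⟩⟩ := hA
  exact H23.PullPush.isFinLocFree_of_iso φ.symm (KFlatLib.isFinLocFree_sigma _ Finset.univ
    (fun i hi => absurd (Finset.mem_univ i) hi) fun _ => H23.PullPush.isFinLocFree_of_isInvertible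
      (PicClLib.isInvertible_pullback π (isInvertible_Tw (n := n) e)))

include hπ in
theorem isFinLocFree_twA (c : ℤ) (d : ℕ) : FlatMod.IsFinLocFree (twA π Z c d) :=
  H23.PullPush.isFinLocFree_of_isInvertible (isInvertible_twA π Z hπ c d)

theorem cl_twA_mul (c c' : ℤ) (d d' : ℕ) :
    PicF.cl (twA π Z c d) * PicF.cl (twA π Z c' d') = PicF.cl (twA π Z (c + c') (d + d')) := by
  rw [cl_twA, cl_twA, cl_twA, clT_add, pow_add, mul_mul_mul_comm]

theorem clT_mul_twA (e c : ℤ) (d : ℕ) :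
    clT π e * PicF.cl (twA π Z c d) = PicF.cl (twA π Z (c + e) d) := by
  rw [cl_twA, cl_twA, clT_add, mul_comm (clT π c) (clT π e), mul_assoc]

variable {A B C : X.Modules} {f : A ⟶ B} {g : B ⟶ C} {w : f ≫ g = 0}
  (hS : (ShortComplex.mk f g w).ShortExact) (hB : IsSumTw π B 1) (hC : IsSumTw π C 2)

include hπ hπk hn hZf hZc hsub hS hB hC

/-- Twisting up by a generated invertible module keeps `H^1` of the kernel zero. -/
theorem h1_twist_step {N : ℕ} (hN : 1 ≤ N) {c c₁ : ℤ} {d d₁ : ℕ} (ψ : FlatMod.freeMod X (N + 1) ⟶ twA π Z c₁ d₁)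
    [Epi ψ] {G' : X.Modules} (hinv : ClSub.IsInverseOf (twA π Z c₁ d₁) G') (hd : (d + d₁ : ℕ) ≤ c + c₁ + 1)
    (hW : Subsingleton (Coh.HH X ((DCoh.tensorBi.obj (twA π Z c d)).obj A) 1))
    (hp : ∀ p, 1 ≤ p → p ≤ N → ∃ D : X.Modules, PicF.cl D = PicF.cl (twA π Z (c + 2) d) * PicF.cl G' ^ p ∧
      Subsingleton (Coh.HH X D p)) :
    Subsingleton (Coh.HH X ((DCoh.tensorBi.obj (twA π Z (c + c₁) (d + d₁))).obj A) 1) := by
  haveI := isLocallyNoetherian_blow π Z hπ hπk hZf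
  have hG' : PicF.IsInvertible G' := AmpleNeg.isInvertible_inverse (isInvertible_twA π Z hπ c₁ d₁) hinv
  have hK : Subsingleton (Coh.HH X
      ((DCoh.tensorBi.obj ((DCoh.tensorBi.obj (twA π Z c d)).obj C)).obj (kernel ψ)) 1) := by
    refine koszul_h1 k hG' hinv ψ hN (isInvertible_twA π Z hπ c₁ d₁)
      (KFlatLib.isFinLocFree_tensor (isFinLocFree_twA Z hπ c d) hC.isFinLocFree) fun p hp₁ hp₂ => ?_
    obtain ⟨D, hD, hDs⟩ := hp p hp₁ hp₂
    refine subsingleton_of_cl (k := k) (B := (DCoh.tensorBi.obj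
      (CohB1.tensorMod (twA π Z c d) (CohB1.tensorPow G' p))).obj C) ?_ p (hC.subsingleton (B := D) ?_ p hDs)
    · simp only [cl_tensor, cl_tbi, cl_tensorPow]
      ac_rfl
    · rw [hD, ← clT_mul_twA Z 2 c d]
      simp only [cl_tensor, cl_tensorPow]
      ac_rfl
  have hB' : Subsingleton (Coh.HH X
      ((DCoh.tensorBi.obj (twA π Z c₁ d₁)).obj ((DCoh.tensorBi.obj (twA π Z c d)).obj B)) 1) := by
    refine subsingleton_of_cl (k := k) (B := (DCoh.tensorBi.obj (twA π Z (c + c₁) (d + d₁))).obj B) ?_ 1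
      (hB.subsingleton (B := twA π Z (c + c₁ + 1) (d + d₁)) (clT_mul_twA Z 1 _ _).symm 1
        (subsingleton_twA π Z hπ hπk (by omega) hZf hZc hsub _ _ 1 le_rfl (fun _ => Or.inr (by omega))
          (subsingleton_Tw _ 1 (fun h => by omega) (fun h => by omega))))
    rw [cl_tbi, cl_tbi, cl_tbi, ← cl_twA_mul, mul_comm (PicF.cl (twA π Z c d)) (PicF.cl (twA π Z c₁ d₁)), mul_assoc]
  refine subsingleton_of_cl (k := k) ?_ 1 (h1_step k _ _ _
    (CurveTensor.shortExact_tensor (isFinLocFree_twA Z hπ c d) f g w hS) ψ (isFinLocFree_twA Z hπ c₁ d₁)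
    (KFlatLib.isFinLocFree_tensor (isFinLocFree_twA Z hπ c d) hC.isFinLocFree) hW hB' hK)
  rw [cl_tbi, cl_tbi, cl_tbi, ← cl_twA_mul, mul_comm (PicF.cl (twA π Z c d)) (PicF.cl (twA π Z c₁ d₁)), mul_assoc]

omit hS hB hC hZc hsub in
theorem exists_gen_one : ∃ ψ : FlatMod.freeMod X (n + 1) ⟶ twA π Z 1 0, Epi ψ := by
  haveI := isLocallyNoetherian_blow π Z hπ hπk hZf
  obtain ⟨ψ, hψ⟩ := exists_epi_free_Tw1 (n := n) (k := k)
  obtain ⟨q⟩ := AVPoinc.nonempty_pullback_freeMod π (n + 1)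
  obtain ⟨e⟩ := (cl_eq_iff (A := (Scheme.Modules.pullback π).obj (Twist.twistProjSpace n k 1))
    (B := twA π Z 1 0)).1 (by rw [cl_twA, pow_zero, mul_one]; rfl)
  exact ⟨q.inv ≫ (Scheme.Modules.pullback π).map ψ ≫ e.hom, inferInstance⟩

end Groth.Agent.BlowCoh
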