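import Groth.Agent.BlowCoh.AntiKernel

/-!
# The kernel of a matrix of linear forms is aCM on the blow-up at a point
-/

set_option autoImplicit false
set_option linter.style.haveILetI false
set_option linter.unusedSectionVars false
set_option backward.isDefEq.respectTransparency false
set_option backward.isDefEq.respectTransparency.types false
set_option maxHeartbeats 400000

universe u

open CategoryTheory CategoryTheory.Limits AlgebraicGeometry TopologicalSpace Opposite
open Groth.Agent.H23.PicMul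
open Groth.Agent.PnCoh.Finite (mapLin deltaLin)

noncomputable section

namespace Groth.Agent.BlowCoh

open Groth.Agent

variable {n : ℕ} {k : Type u} [Field k] [IsAlgClosed k] {X : Scheme.{u}} {π : X ⟶ CohB1.ProjSpace n k}
  (Z : Closeds ↥(CohB1.ProjSpace n k)) [X.Over (Spec (CommRingCat.of k))]
  (hπ : BlowUp.IsBlowUp π (Scheme.IdealSheafData.vanishingIdeal Z))
  (hπk : π ≫ CohB1.ProjSpace.toSpec n k = X ↘ Spec (CommRingCat.of k)) (hn : 3 ≤ n)
  (hZf : (Z : Set ↥(CohB1.ProjSpace n k)).Finite) (hZc : ∀ z ∈ Z, IsClosed ({z} : Set ↥(CohB1.ProjSpace n k)))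
  (hsub : (Z : Set ↥(CohB1.ProjSpace n k)).Subsingleton)
  {A B C : X.Modules} {f : A ⟶ B} {g : B ⟶ C} {w : f ≫ g = 0}
  (hS : (ShortComplex.mk f g w).ShortExact) (hB : IsSumTw π B 1) (hC : IsSumTw π C 2)

include hπ hπk hn hZf hZc hsub hS hB hC

theorem h1_kernel (hA : Subsingleton (Coh.HH X A 1)) (c d : ℕ) (hdc : d ≤ c) :
    Subsingleton (Coh.HH X ((DCoh.tensorBi.obj (twA π Z (c : ℤ) d)).obj A) 1) := by
  obtain ⟨L, hLi, hL⟩ := exists_excInverse π Z hπ
  have h1 : PicF.cl L * PicF.cl (excMod π Z) = 1 := by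
    rw [← cl_tensor, H23.PicMul.one_def]; exact cl_eq_iff.2 hL
  have hinv : ∀ c₁ d₁, ClSub.IsInverseOf (twA π Z c₁ d₁) (twB π L (-c₁) d₁) := fun c₁ d₁ =>
    cl_eq_iff.1 (by rw [cl_tensor, cl_twA, cl_twB, mul_mul_mul_comm, ← clT_add, add_neg_cancel, clT_zero, one_mul,
      ← mul_pow, mul_comm, h1, one_pow, H23.PicMul.one_def])
  have base : Subsingleton (Coh.HH X ((DCoh.tensorBi.obj (twA π Z 0 0)).obj A) 1) :=
    subsingleton_of_cl (k := k) (by rw [cl_tbi, cl_twA, clT_zero, pow_zero, one_mul, one_mul]) 1 hA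
  have stepC : ∀ (c d : ℕ), d ≤ c → Subsingleton (Coh.HH X ((DCoh.tensorBi.obj (twA π Z (c : ℤ) d)).obj A) 1) →
      Subsingleton (Coh.HH X ((DCoh.tensorBi.obj (twA π Z ((c + 1 : ℕ) : ℤ) d)).obj A) 1) := fun c d hdc hW => by
    obtain ⟨ψ, hψ⟩ := exists_gen_one (π := π) Z hπ hπk hn hZf
    have h := h1_twist_step (π := π) Z hπ hπk hn hZf hZc hsub hS hB hC (show 1 ≤ n by omega) ψ (hinv 1 0)
      (c := (c : ℤ)) (d := d) (by omega) hW fun p hp₁ hp₂ =>
        ⟨twA π Z ((c : ℤ) + 2 - p) d, by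
          rw [cl_twA, cl_twA, cl_twB, pow_zero, mul_one, pow_clT, mul_right_comm, ← clT_add]
          congr 2
          ring,
          subsingleton_twA π Z hπ hπk (by omega) hZf hZc hsub _ _ p hp₁ (fun hp => Or.inr (by omega))
            (subsingleton_Tw _ p (fun h => by omega) (fun h => by omega))⟩
    exact subsingleton_of_cl (k := k) (by rw [cl_tbi, cl_tbi, Nat.cast_succ]; simp only [add_zero]) 1 h
  have up : ∀ d e : ℕ, Subsingleton (Coh.HH X ((DCoh.tensorBi.obj (twA π Z (d : ℤ) d)).obj A) 1) →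
      Subsingleton (Coh.HH X ((DCoh.tensorBi.obj (twA π Z ((d + e : ℕ) : ℤ) d)).obj A) 1) := fun d e h => by
    induction e with
    | zero => exact h
    | succ e ih => exact stepC (d + e) d (Nat.le_add_right d e) ih
  rcases hsub.eq_empty_or_singleton with hZ0 | ⟨p, hZ1⟩
  · have hI : PicF.cl (excMod π Z) = 1 := by
      refine SurfRR.cl_idealMod_of_support_empty ?_
      rw [Scheme.IdealSheafData.support_comap, TopologicalSpace.Closeds.coe_preimage,
        Scheme.IdealSheafData.coe_support_vanishingIdeal, hZ0, Set.preimage_empty]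
    refine subsingleton_of_cl (k := k) ?_ 1 (up 0 c base)
    rw [cl_tbi, cl_tbi, cl_twA, cl_twA, hI, one_pow, one_pow, zero_add]
  have hp : IsClosed ({p} : Set ↥(CohB1.ProjSpace n k)) := hZ1 ▸ Z.isClosed
  obtain ⟨n', rfl⟩ := Nat.exists_eq_add_of_le' (show 1 ≤ n by omega)
  obtain ⟨ψ, hψ⟩ := exists_gen_point π Z hπ hp (Closeds.ext hZ1)
  have diag : ∀ j : ℕ, Subsingleton (Coh.HH X ((DCoh.tensorBi.obj (twA π Z (j : ℤ) j)).obj A) 1) := fun j => by
    induction j with
    | zero => exact base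
    | succ j ih =>
      have h := h1_twist_step (π := π) Z hπ hπk hn hZf hZc hsub hS hB hC (show 1 ≤ n' by omega) ψ (hinv 1 1)
        (c := (j : ℤ)) (d := j) (by omega) ih fun q hq₁ hq₂ => by
          rcases Nat.lt_or_ge j q with hjq | hjq
          · refine ⟨twB π L ((j : ℤ) + 2 - q) (q - j), ?_, subsingleton_twB_small π Z hπ hπk (by omega) hZf hZc
              hL _ (by omega) q (subsingleton_Tw _ q (fun h => by omega) (fun h => by omega))⟩
            obtain ⟨r, rfl⟩ := Nat.exists_eq_add_of_le hjq.le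
            rw [cl_twA, cl_twB, cl_twB, pow_one, mul_pow, pow_clT, mul_mul_mul_comm, ← clT_add,
              Nat.add_sub_cancel_left, pow_add (PicF.cl L), ← mul_assoc (PicF.cl (excMod π Z) ^ j), ← mul_pow,
              mul_comm (PicF.cl (excMod π Z)), h1, one_pow, one_mul]
            congr 2
            push_cast
            ring
          · refine ⟨twA π Z ((j : ℤ) + 2 - q) (j - q), ?_, subsingleton_twA π Z hπ hπk (by omega) hZf hZc hsub _ _ q
              hq₁ (fun hq => Or.inr (by omega)) (subsingleton_Tw _ q (fun h => by omega) (fun h => by omega))⟩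
            obtain ⟨r, rfl⟩ := Nat.exists_eq_add_of_le' hjq
            rw [cl_twA, cl_twA, cl_twB, pow_one, mul_pow, pow_clT, mul_mul_mul_comm, ← clT_add,
              Nat.add_sub_cancel, pow_add (PicF.cl (excMod π Z)), mul_assoc, ← mul_pow,
              mul_comm (PicF.cl (excMod π Z)), h1, one_pow, mul_one]
            congr 2
            push_cast
            ring
      exact subsingleton_of_cl (k := k) (by rw [cl_tbi, cl_tbi, Nat.cast_succ]) 1 h
  obtain ⟨e, rfl⟩ := Nat.exists_eq_add_of_le hdc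
  exact up d e (diag d)

theorem h1_of_surjective (hs : Function.Surjective (mapLin k g 0)) : Subsingleton (Coh.HH X A 1) := by
  have hB1 : Subsingleton (Coh.HH X B 1) := by
    refine subsingleton_of_cl (k := k) (B := (DCoh.tensorBi.obj (twA π Z 0 0)).obj B) ?_ 1
      (hB.subsingleton (B := twA π Z 1 0) (by rw [clT_mul_twA, zero_add]) 1
        (subsingleton_twA π Z hπ hπk (by omega) hZf hZc hsub 1 0 1 le_rfl (fun _ => Or.inl rfl)
          (subsingleton_Tw 1 1 (fun h => by omega) (fun h => by omega))))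
    rw [cl_tbi, cl_twA, clT_zero, pow_zero, one_mul, one_mul]
  refine subsingleton_of_forall_eq 0 fun x => ?_
  obtain ⟨z, rfl⟩ := PnEuler.exact₁ k hS 0 (hB1.elim _ 0 : mapLin k _ (0 + 1) x = 0)
  obtain ⟨y, rfl⟩ := hs z
  exact Jets.deltaLin_map_g k hS y

theorem kernel_anti_pow (hA : Subsingleton (Coh.HH X A 1)) (t i : ℕ) (hi : 1 ≤ i) (hin : i + 1 ≤ n) :
    Subsingleton (Coh.HH X ((DCoh.tensorBi.obj (twA π Z (((n : ℤ) + 1) * t) ((n - 1) * t))).obj A) i) := by
  have hd : (n - 1) * t ≤ (n + 1) * t := Nat.mul_le_mul_right t (by omega)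
  rw [show ((n : ℤ) + 1) * t = (((n + 1) * t : ℕ) : ℤ) by push_cast; ring]
  obtain ⟨q, rfl⟩ := Nat.exists_eq_add_of_le' hi
  rcases Nat.eq_zero_or_pos q with rfl | hq
  · exact h1_kernel Z hπ hπk hn hZf hZc hsub hS hB hC hA _ _ hd
  have hcl : ∀ e : ℤ, PicF.cl (twA π Z ((((n + 1) * t : ℕ) : ℤ) + e) ((n - 1) * t)) =
      clT π e * PicF.cl (twA π Z (((n + 1) * t : ℕ) : ℤ) ((n - 1) * t)) := fun e => (clT_mul_twA Z e _ _).symm
  refine PnEuler.subsingleton_X₁_succ k (CurveTensor.shortExact_tensor (isFinLocFree_twA Z hπ _ _) f g w hS) q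
    (hB.subsingleton (hcl 1) (q + 1) ?_) (hC.subsingleton (hcl 2) q ?_)
  · exact subsingleton_twA π Z hπ hπk (by omega) hZf hZc hsub _ _ _ (by omega) (fun h => by omega)
      (subsingleton_Tw _ _ (fun h => by omega) (fun h => by omega))
  · exact subsingleton_twA π Z hπ hπk (by omega) hZf hZc hsub _ _ _ hq (fun h => Or.inr (by omega))
      (subsingleton_Tw _ _ (fun h => by omega) (fun h => by omega))

theorem kernel_anti_inverse_pow (hA : Subsingleton (Coh.HH X A 1)) {L : X.Modules} (hLi : PicF.IsInvertible L)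
    (hL : ClSub.IsInverseOf L (excMod π Z)) (t i : ℕ) (hi : 1 ≤ i) (hin : i + 1 ≤ n) :
    Subsingleton (Coh.HH X ((DCoh.tensorBi.obj (twB π L (-(((n : ℤ) + 1) * t)) ((n - 1) * t))).obj A) i) := by
  rcases Nat.eq_zero_or_pos t with rfl | ht
  · have h := kernel_anti_pow Z hπ hπk hn hZf hZc hsub hS hB hC hA 0 i hi hin
    exact subsingleton_of_cl (k := k) (by
      rw [cl_tbi, cl_tbi, cl_twA, cl_twB, Nat.cast_zero, mul_zero, mul_zero, neg_zero, pow_zero, pow_zero]) i h
  obtain ⟨q, rfl⟩ := Nat.exists_eq_add_of_le' hi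
  have hlin : ((n - 1 : ℕ) : ℤ) * t + 2 * t = ((n : ℤ) + 1) * t := by
    rw [← add_mul]; congr 1; omega
  have hbt : (((n - 1) * t : ℕ) : ℤ) = ((n - 1 : ℕ) : ℤ) * t := by push_cast; ring
  have hcl : ∀ e : ℤ, PicF.cl (twB π L (-(((n : ℤ) + 1) * t) + e) ((n - 1) * t)) =
      clT π e * PicF.cl (twB π L (-(((n : ℤ) + 1) * t)) ((n - 1) * t)) := fun e => by
    rw [cl_twB, cl_twB, clT_add, mul_comm (clT π _) (clT π e), mul_assoc]
  have hM : FlatMod.IsFinLocFree (twB π L (-(((n : ℤ) + 1) * t)) ((n - 1) * t)) :=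
    H23.PullPush.isFinLocFree_of_isInvertible (H23.PicMul.isInvertible_tensor
      (PicClLib.isInvertible_pullback π (isInvertible_Tw (n := n) _)) (H23.PicMul.isInvertible_tensorPow hLi _))
  refine PnEuler.subsingleton_X₁_succ k (CurveTensor.shortExact_tensor hM f g w hS) q
    (hB.subsingleton (hcl 1) (q + 1) ?_) (hC.subsingleton (hcl 2) q ?_)
  · exact subsingleton_twB π Z hπ hπk (by omega) hZf hZc hsub hLi hL _ _ (by omega) (q + 1) (by omega)
  · rcases Nat.lt_or_ge 1 t with ht' | ht'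
    · exact subsingleton_twB π Z hπ hπk (by omega) hZf hZc hsub hLi hL _ _ (by omega) q (by omega)
    · obtain rfl : t = 1 := by omega
      exact subsingleton_twB_small π Z hπ hπk (by omega) hZf hZc hL _ (by omega) q
        (subsingleton_Tw _ q (fun h => by omega) (fun h => by omega))

end Groth.Agent.BlowCoh
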