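import Groth.Agent.BlowCoh.AntiCanon

/-!
# Anticanonical twists of cokernels and kernels between sums of line bundles
-/

set_option autoImplicit false
set_option linter.style.haveILetI false
set_option linter.unusedSectionVars false
set_option backward.isDefEq.respectTransparency false
set_option backward.isDefEq.respectTransparency.types false
set_option maxHeartbeats 400000

universe u

open CategoryTheory CategoryTheory.Limits AlgebraicGeometry TopologicalSpace Opposite
open Groth.Agent.H23.PicMul
open Groth.Agent.PnCoh.Finite (mapLin)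

noncomputable section

namespace Groth.Agent.BlowCoh

open Groth.Agent

section General

variable {X : Scheme.{u}} (k : Type u) [Field k] [X.Over (Spec (CommRingCat.of k))]

theorem cl_tbi (M A : X.Modules) : PicF.cl ((DCoh.tensorBi.obj M).obj A) = PicF.cl M * PicF.cl A := by
  rw [← cl_tensor]; exact cl_eq_iff.2 ⟨(Jets.tbiIso M A).symm⟩

include k in
theorem subsingleton_tensor_sigma {A T M : X.Modules} {r : ℕ} (hA : Nonempty (A ≅ ∐ fun _ : Fin r => T))
    {B : X.Modules} (hB : PicF.cl B = PicF.cl T * PicF.cl M) (q : ℕ) (h : Subsingleton (Coh.HH X B q)) :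
    Subsingleton (Coh.HH X ((DCoh.tensorBi.obj M).obj A) q) := by
  obtain ⟨a⟩ := hA
  obtain ⟨b⟩ := (cl_eq_iff (A := (DCoh.tensorBi.obj M).obj T) (B := B)).1 (by rw [cl_tbi, hB, mul_comm])
  let e := (DCoh.tensorBi.obj M).mapIso a ≪≫ PreservesCoproduct.iso (DCoh.tensorBi.obj M) _ ≪≫
    Sigma.mapIso fun _ : Fin r => b
  exact @Equiv.subsingleton _ _ (PnEuler.hhIso k e q).toEquiv (PnEuler.subsingleton_sigma k B r q h)

include k in
/-- The cohomology of a twisted cokernel. -/
theorem subsingleton_tensor_cokernel {A B M : X.Modules} (f : A ⟶ B) [Mono f] (hM : FlatMod.IsFinLocFree M) (q : ℕ)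
    (hB : Subsingleton (Coh.HH X ((DCoh.tensorBi.obj M).obj B) q))
    (hA : Subsingleton (Coh.HH X ((DCoh.tensorBi.obj M).obj A) (q + 1))) :
    Subsingleton (Coh.HH X (CohB1.tensorMod (cokernel f) M) q) := by
  have hS : (ShortComplex.mk f (cokernel.π f) (cokernel.condition f)).ShortExact :=
    ShortComplex.ShortExact.mk' (ShortComplex.exact_of_g_is_cokernel _ (cokernelIsCokernel f)) inferInstance
      inferInstance
  have h := PnEuler.subsingleton_X₃ k (CurveTensor.shortExact_tensor hM f (cokernel.π f) _ hS) q hB hA
  exact subsingleton_of_cl (k := k) (by rw [cl_tensor, cl_tbi, mul_comm]) q h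

end General

end Groth.Agent.BlowCoh
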