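import Groth.Agent.BlowCoh.PnTwist
import Groth.Agent.PnCoh.PushNat

/-!
# Twists on the blow-up of projective space at a point
-/

set_option autoImplicit false
set_option linter.style.haveILetI false
set_option linter.unusedSectionVars false
set_option backward.isDefEq.respectTransparency false
set_option backward.isDefEq.respectTransparency.types false
set_option maxHeartbeats 400000

universe u

open CategoryTheory CategoryTheory.Limits AlgebraicGeometry TopologicalSpace Opposite

noncomputable section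

namespace Groth.Agent.BlowCoh

open Groth.Agent

variable {n : ℕ} {k : Type u} [Field k] [IsAlgClosed k] {p : ↥(CohB1.ProjSpace n k)}
  (hp : IsClosed ({p} : Set ↥(CohB1.ProjSpace n k))) {X : Scheme.{u}} [X.Over (Spec (CommRingCat.of k))]
  (σ : X ⟶ CohB1.ProjSpace n k) (hσk : σ ≫ CohB1.ProjSpace.toSpec n k = X ↘ Spec (CommRingCat.of k))
  (hσ : BlowUp.IsBlowUp σ (Scheme.IdealSheafData.vanishingIdeal ⟨{p}, hp⟩))

/-- The line bundle `σ^*O(d) ⊗ I_E^b`. -/
abbrev blowTwist (d : ℤ) (b : ℕ) : X.Modules :=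
  CohB1.tensorMod ((Scheme.Modules.pullback σ).obj (Twist.twistProjSpace n k d))
    (ClSub.idealMod ((BlowUp.exceptional σ (Scheme.IdealSheafData.vanishingIdeal ⟨{p}, hp⟩)) ^ b))

include hσk hσ in
theorem nonempty_blowTwist_equiv (hn : 0 < n) (d : ℤ) (b q : ℕ) :
    Nonempty (Coh.HH X (blowTwist hp σ d b) q ≃ₗ[k]
      Coh.HH (CohB1.ProjSpace n k) (twIdeal hp d b) q) := by
  have hg : HasGood (Scheme.IdealSheafData.vanishingIdeal ⟨{p}, hp⟩) n :=
    hasGood_Pn_points hn ⟨{p}, hp⟩ (Set.finite_singleton p) fun z hz => Set.mem_singleton_iff.1 hz ▸ hp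
  obtain ⟨e⟩ := PnCoh.nonempty_linearEquiv_of_natPushEquiv k σ hσk _ q
    (natPushEquiv_twist hg hσ hn (isInvertible_Tw (n := n) d) b q)
  obtain ⟨e'⟩ := nonempty_pushforward_twist hg hσ hn (isInvertible_Tw (n := n) (k := k) d) b
  exact ⟨e.trans (PnEuler.hhIso k e' q)⟩

include hσk hσ in
theorem finrank_blowTwist (hn : 0 < n) (d : ℤ) (b q : ℕ) :
    Module.finrank k (Coh.HH X (blowTwist hp σ d b) q) =
      Module.finrank k (Coh.HH (CohB1.ProjSpace n k) (twIdeal hp d b) q) := by
  obtain ⟨e⟩ := nonempty_blowTwist_equiv hp σ hσk hσ hn d b q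
  exact e.finrank_eq

end Groth.Agent.BlowCoh
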