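import Groth.Agent.TwistFlat.Converse
import Groth.Agent.OmegaLib.IdealMod
import Groth.Agent.ModPairLib.Limit
import Groth.Agent.ExtShX.KoszulConormal
import Groth.Agent.PPSheaf.GrCoh
import Groth.Agent.Big.Cartier
import Groth.Agent.InvUfdLib.Extend

/-!
# The canonical section of the inverse of an invertible ideal
-/

set_option autoImplicit false
set_option linter.style.haveILetI false
set_option linter.unusedSectionVars false
set_option backward.isDefEq.respectTransparency false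
set_option backward.isDefEq.respectTransparency.types false
set_option maxHeartbeats 400000

universe u

open CategoryTheory AlgebraicGeometry TopologicalSpace Opposite
open Groth.Agent.AModX

noncomputable section

namespace Groth.Agent.BlowCoh

open Groth.Agent

variable {X : Scheme.{u}}

/-- Locally a generator of the ideal times a frame. -/
def IsCanonical (K : X.IdealSheafData) {L : X.Modules} (s : Γ(L, ⊤)) : Prop :=
  ∀ x : X, ∀ V : X.Opens, x ∈ V → ∃ (W : X.affineOpens) (_ : W.1 ≤ V) (_ : x ∈ W.1) (ℓ : Γ(L, W.1))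
    (h : Γ(X, W.1)), InvX.IsFrame ℓ ∧ K.ideal W = Ideal.span {h} ∧ res L le_top s = h • ℓ

theorem exists_isCanonical {K : X.IdealSheafData} (hK : BlowUp.IsEffCartierIdeal K) {L : X.Modules}
    (hLq : Coh.IsQCoh L) (hL : ClSub.IsInverseOf L (ClSub.idealMod K)) :
    ∃ s : Γ(L, ⊤), IsCanonical K s := by
  classical
  obtain ⟨e⟩ := hL
  have hJ := Big.isInvertible_ideal hK
  have hJq : Coh.IsQCoh (ClSub.idealMod K) := PPSheaf.GrCoh.isQCoh_idealMod K
  let F : ∀ V : X.Opens, Γ(L, V) → Γ(ClSub.idealMod K, V) → Γ(X, V) := fun V w g => e.hom.app V (InvX.tmul w g)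
  have hbij : ∀ {V : X.Opens}, IsAffineOpen V → ∀ {g : Γ(ClSub.idealMod K, V)}, InvX.IsFrame g →
      Function.Bijective fun w => F V w g := fun {V} hV {g} hg =>
    (ConcreteCategory.bijective_of_isIso (e.hom.app V)).comp (TwistFlat.bijective_tmul_frame hLq hJq hV hg)
  have hres : ∀ {V V' : X.Opens} (i : V' ≤ V) (w : Γ(L, V)) (g : Γ(ClSub.idealMod K, V)),
      F V' (res L i w) (res _ i g) = resR i (F V w g) := fun {V V'} i w g => by
    show e.hom.app V' _ = _
    rw [← InvX.res_tmul, app_res]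
    rfl
  have hlin : ∀ {V : X.Opens} (r : Γ(X, V)) (w : Γ(L, V)) (g : Γ(ClSub.idealMod K, V)),
      F V (r • w) g = r * F V w g := fun {V} r w g => by
    show e.hom.app V _ = _
    rw [InvX.tmul_smul_left, Scheme.Modules.Hom.app_smul]
    rfl
  have hlin' : ∀ {V : X.Opens} (r : Γ(X, V)) (w : Γ(L, V)) (g : Γ(ClSub.idealMod K, V)),
      F V w (r • g) = r * F V w g := fun {V} r w g => by
    show e.hom.app V _ = _
    rw [InvX.tmul_smul_right, Scheme.Modules.Hom.app_smul]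
    rfl
  have hframe : ∀ {V : X.Opens}, IsAffineOpen V → ∀ {g : Γ(ClSub.idealMod K, V)}, InvX.IsFrame g →
      ∀ ℓ : Γ(L, V), F V ℓ g = 1 → InvX.IsFrame ℓ := fun {V} hV {g} hg ℓ hℓ => by
    refine ExtShX.isFrame_of_affine fun V' hV' hV'a => ?_
    refine (Function.Bijective.of_comp_iff' (hbij hV'a (hg.res hV')) _).1 ?_
    have : (fun w => F V' w (res _ hV' g)) ∘ (fun r : Γ(X, V') => r • res L hV' ℓ) = id := funext fun r => by
      show F V' (r • res L hV' ℓ) (res _ hV' g) = r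
      rw [hlin, hres, hℓ, map_one, mul_one]
    rw [this]
    exact Function.bijective_id
  have hex : ∀ x : X, ∃ (W : X.affineOpens) (_ : x ∈ W.1) (g : Γ(ClSub.idealMod K, W.1)), InvX.IsFrame g := by
    intro x
    obtain ⟨U, hxU, g, hg⟩ := InvX.exists_frame hJ x
    obtain ⟨_, ⟨W, hW, rfl⟩, hxW, hWU⟩ := X.isBasis_affineOpens.exists_subset_of_mem_open hxU U.2
    exact ⟨⟨W, hW⟩, hxW, res _ hWU g, hg.res _⟩
  choose W hxW g hg using hex
  choose w hw using fun x => (hbij (W x).2 (hg x)).2 (OmegaSh.idealSect K (W x).1 (g x))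
  have hwres : ∀ (x : X) {V : X.Opens} (i : V ≤ (W x).1),
      F V (res L i (w x)) (res _ i (g x)) = OmegaSh.idealSect K V (res _ i (g x)) := fun x V i => by
    rw [hres]
    exact (congrArg (resR i) (hw x)).trans (OmegaLib.idealSect_map K i (g x)).symm
  obtain ⟨s, hs, -⟩ := existsUnique_glue (M := L) (V := ⊤) (fun x : X => (W x).1) (fun _ => le_top)
    (fun x _ => ⟨x, hxW x⟩) w fun x y => eq_of_locally _ _ fun p hp => by
      obtain ⟨_, ⟨V, hV, rfl⟩, hpV, hVW⟩ := X.isBasis_affineOpens.exists_subset_of_mem_open hp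
        ((W x).1 ⊓ (W y).1).2
      refine ⟨V, hVW, hpV, ?_⟩
      have hx : V ≤ (W x).1 := fun z hz => (hVW hz).1
      have hy : V ≤ (W y).1 := fun z hz => (hVW hz).2
      rw [res_res, res_res]
      refine (hbij hV ((hg x).res hx)).1 ?_
      obtain ⟨c, hc⟩ := (hg y).exists_coord hy (res _ hx (g x))
      show F V (res L hx (w x)) (res _ hx (g x)) = F V (res L hy (w y)) (res _ hx (g x))
      rw [hwres, hc, hlin', hwres, OmegaLib.idealSect_smul]
  refine ⟨s, fun x V hxV => ?_⟩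
  obtain ⟨_, ⟨W', hW', rfl⟩, hxW', hW'V⟩ := X.isBasis_affineOpens.exists_subset_of_mem_open
    (show x ∈ (((W x).1 ⊓ V : X.Opens) : Set X) from ⟨hxW x, hxV⟩) ((W x).1 ⊓ V).2
  have i : W' ≤ (W x).1 := fun z hz => (hW'V hz).1
  obtain ⟨ℓ, hℓ⟩ := (hbij hW' ((hg x).res i)).2 1
  refine ⟨⟨W', hW'⟩, fun z hz => (hW'V hz).2, hxW', ℓ, OmegaSh.idealSect K W' (res _ i (g x)),
    hframe hW' ((hg x).res i) ℓ hℓ, ?_, ?_⟩
  · refine le_antisymm (fun r hr => ?_)
      ((Ideal.span_singleton_le_iff_mem _).2 (OmegaLib.idealSect_mem K ⟨W', hW'⟩ _))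
    obtain ⟨t, ht⟩ := OmegaLib.exists_of_mem K ⟨W', hW'⟩ r hr
    obtain ⟨c, hc⟩ := ((hg x).res i).exists_coord le_rfl t
    rw [res_self] at hc
    rw [← ht, hc, OmegaLib.idealSect_smul]
    exact Ideal.mul_mem_left _ c (Ideal.mem_span_singleton_self _)
  · refine (hbij hW' ((hg x).res i)).1 ?_
    show F W' (res L le_top s) _ = F W' _ _
    rw [← res_res (le_top : (W x).1 ≤ ⊤) i s, hs x, hwres, hlin]
    show _ = _ * F W' ℓ _
    rw [show F W' ℓ (res (ClSub.idealMod K) i (g x)) = 1 from hℓ, mul_one]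

/-- Being canonical restricts to open subschemes. -/
theorem IsCanonical.restrict {K : X.IdealSheafData} {L : X.Modules} {s : Γ(L, ⊤)} (hs : IsCanonical K s)
    (Z : X.Opens) :
    IsCanonical (K.comap Z.ι) (show Γ(L.restrict Z.ι, ⊤) from res L le_top s) := fun x V hxV => by
  obtain ⟨W, hWV, hxW, ℓ, h, hℓ, hh, hsh⟩ := hs (Z.ι x) (Z.ι ''ᵁ V) ⟨x, hxV, rfl⟩
  have hWZ : W.1 ≤ Z := hWV.trans (Z.ι_image_le V)
  let W' : Z.toScheme.affineOpens := ⟨Z.ι ⁻¹ᵁ W.1, W.2.preimage_of_isOpenImmersion Z.ι (by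
    rw [Scheme.Opens.opensRange_ι]; exact hWZ)⟩
  have hW' : Z.ι ''ᵁ W'.1 ≤ W.1 := by rintro _ ⟨y, hy, rfl⟩; exact hy
  refine ⟨W', fun y hy => ?_, hxW, (show Γ(L.restrict Z.ι, W'.1) from res L hW' ℓ),
    (show Γ(Z.toScheme, W'.1) from resR hW' h), InvUfdLib.isFrame_restrict Z.ι (hℓ.res hW'), ?_, ?_⟩
  · obtain ⟨z, hz, hzy⟩ := hWV hy
    exact Z.ι.isOpenEmbedding.injective hzy ▸ hz
  · rw [ModPairLib.ideal_comap K Z.ι W W' le_rfl, hh, Ideal.map_span, Set.image_singleton]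
    congr 2
    rw [Scheme.Hom.appLE, Scheme.Opens.ι_app]
    show (X.presheaf.map _ ≫ X.presheaf.map _).hom h = (X.presheaf.map (homOfLE hW').op).hom h
    rw [← Functor.map_comp]
    rfl
  · refine Eq.trans (b := res L hW' (res L le_top s)) ?_ ?_
    · refine Eq.trans (b := res L (le_top : Z.ι ''ᵁ W'.1 ≤ ⊤) s) ?_ (res_res _ hW' s).symm
      exact res_res (le_top : Z.ι ''ᵁ ⊤ ≤ ⊤) (Z.ι.image_mono le_top) s
    · rw [hsh, res_smul]
      refine Eq.trans ?_ (InvUfdLib.restrict_smul_def Z.ι _ _).symm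
      rw [Scheme.Opens.ι_appIso]
      rfl

end Groth.Agent.BlowCoh
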