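import Groth.Prelude.Def_CAlgX
import Groth.Agent.LocalCrit.Complete
import Groth.Agent.QCoh.Ab.Cech
import Mathlib.RingTheory.Filtration
import Mathlib.RingTheory.Localization.Away.Basic

/-!
# The Čech complex of the powers of the exceptional ideal of a blow-up

For a sequence `a : Fin d → A` of non-zero-divisors, cochains on tuples with values in
`A[1/(a₀⋯)]`, the value at a tuple with image `S` lying in `a_S^{-k} I^(n + k|S|)`.
For a quasi-regular sequence in a Noetherian ring these complexes are exact when `-d < n`.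
-/

set_option autoImplicit false
set_option linter.unusedSectionVars false

universe u

open MvPolynomial Groth.Agent.QCoh.Ab

noncomputable section

namespace Groth.Agent.BlowCoh

variable {A : Type u} [CommRing A] {d : ℕ} (a : Fin d → A)

/-- The ideal of the centre. -/
abbrev ctr : Ideal A := Ideal.span (Set.range a)

/-- The ring where all the generators are inverted. -/
abbrev Lau : Type u := Localization.Away (∏ i, a i)

theorem isUnit_gen (i : Fin d) : IsUnit (algebraMap A (Lau a) (a i)) :=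
  isUnit_of_dvd_unit (map_dvd _ (Finset.dvd_prod_of_mem a (Finset.mem_univ i)))
    (IsLocalization.Away.algebraMap_isUnit (∏ i, a i))

/-- The Laurent monomial with exponent `e`. -/
def mon (e : Fin d → ℤ) : Lau a := ((∏ i, (isUnit_gen a i).unit ^ e i : (Lau a)ˣ) : Lau a)

theorem mon_add (e e' : Fin d → ℤ) : mon a (e + e') = mon a e * mon a e' := by
  rw [mon, mon, mon, ← Units.val_mul, ← Finset.prod_mul_distrib]
  simp [zpow_add]

theorem mon_zero : mon a (0 : Fin d → ℤ) = 1 := by simp [mon]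

theorem mon_natCast (m : Fin d → ℕ) :
    mon a (fun i => (m i : ℤ)) = algebraMap A (Lau a) (∏ i, a i ^ m i) := by
  rw [mon, Units.coe_prod, map_prod]
  refine Finset.prod_congr rfl fun i _ => ?_
  simp

theorem isUnit_mon (e : Fin d → ℤ) : IsUnit (mon a e) := Units.isUnit _

theorem algebraMap_injective (ha : ∀ i, a i ∈ nonZeroDivisors A) :
    Function.Injective (algebraMap A (Lau a)) :=
  IsLocalization.injective (M := Submonoid.powers (∏ i, a i)) (Lau a)
    ((Submonoid.powers_le).2 (Submonoid.prod_mem _ fun i _ => ha i))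

theorem prod_pow_mem (m : Fin d → ℕ) : ∏ i, a i ^ m i ∈ ctr a ^ (∑ i, m i) := by
  rw [← Finset.prod_pow_eq_pow_sum]
  exact Ideal.prod_mem_prod fun i _ => Ideal.pow_mem_pow (Ideal.subset_span (Set.mem_range_self i)) _

/-- The exponent `-k` on `S`. -/
def negOn (k : ℕ) (S : Finset (Fin d)) : Fin d → ℤ := fun i => if i ∈ S then -(k : ℤ) else 0

theorem sum_negOn (k : ℕ) (S : Finset (Fin d)) : ∑ i, negOn k S i = -((k * S.card : ℕ) : ℤ) := by
  simp [negOn, Finset.sum_ite_mem, mul_comm]

/-- The elements of level `k` and degree `n` on `S`. -/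
def Lev (k : ℕ) (n : ℤ) (S : Finset (Fin d)) : Submodule A (Lau a) :=
  Submodule.map ((LinearMap.mulLeft A (mon a (negOn k S))).comp (Algebra.linearMap A (Lau a)))
    (ctr a ^ (n + (k * S.card : ℕ)).toNat)

theorem mem_Lev {k : ℕ} {n : ℤ} {S : Finset (Fin d)} {u : Lau a} :
    u ∈ Lev a k n S ↔ ∃ x ∈ ctr a ^ (n + (k * S.card : ℕ)).toNat,
      mon a (negOn k S) * algebraMap A (Lau a) x = u := Iff.rfl

/-- A monomial with small negative part lies in the level. -/
theorem mon_mem {k : ℕ} {n : ℤ} {S : Finset (Fin d)} {e : Fin d → ℤ} (hS : ∀ i ∈ S, -(k : ℤ) ≤ e i)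
    (h0 : ∀ i ∉ S, 0 ≤ e i) {j : ℕ} (hn : n ≤ ∑ i, e i + j) {x : A} (hx : x ∈ ctr a ^ j) :
    mon a e * algebraMap A (Lau a) x ∈ Lev a k n S := by
  have hm : ∀ i, 0 ≤ e i - negOn k S i := fun i => by
    by_cases hi : i ∈ S
    · have := hS i hi; simp only [negOn, if_pos hi]; omega
    · have := h0 i hi; simp only [negOn, if_neg hi]; omega
  let m : Fin d → ℕ := fun i => (e i - negOn k S i).toNat
  have hme : e = negOn k S + fun i => (m i : ℤ) := funext fun i => by
    have := hm i
    simp only [Pi.add_apply, m]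
    omega
  refine (mem_Lev a).2 ⟨(∏ i, a i ^ m i) * x, ?_, ?_⟩
  · have hsum : ∑ i, e i = -((k * S.card : ℕ) : ℤ) + ((∑ i, m i : ℕ) : ℤ) := by
      conv_lhs => rw [hme]
      simp only [Pi.add_apply, Finset.sum_add_distrib, sum_negOn, Nat.cast_sum]
    refine Ideal.pow_le_pow_right (show (n + (k * S.card : ℕ)).toNat ≤ (∑ i, m i) + j by omega) ?_
    rw [pow_add]
    exact Ideal.mul_mem_mul (prod_pow_mem a m) hx
  · rw [map_mul, ← mon_natCast, ← mul_assoc, ← mon_add, ← hme]

theorem Lev_mono {k : ℕ} {n n' : ℤ} {S T : Finset (Fin d)} (hST : S ⊆ T) (hn : n' ≤ n) :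
    Lev a k n S ≤ Lev a k n' T := by
  intro u hu
  obtain ⟨x, hx, rfl⟩ := (mem_Lev a).1 hu
  refine mon_mem a (fun i _ => ?_) (fun i hi => ?_) ?_ hx
  · simp only [negOn]; split_ifs <;> omega
  · simp [negOn, show i ∉ S from fun h => hi (hST h)]
  · rw [sum_negOn]; omega

/-- Exponents occurring in degree `n` on `S`. -/
def Allowed (k : ℕ) (n : ℤ) (S : Finset (Fin d)) (e : Fin d → ℤ) : Prop :=
  ∑ i, e i = n ∧ (∀ i ∈ S, -(k : ℤ) ≤ e i) ∧ ∀ i ∉ S, 0 ≤ e i

theorem Allowed.mono {k : ℕ} {n : ℤ} {S T : Finset (Fin d)} (hST : S ⊆ T) {e : Fin d → ℤ}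
    (h : Allowed k n S e) : Allowed k n T e :=
  ⟨h.1, fun i _ => by
    by_cases hi : i ∈ S
    · exact h.2.1 i hi
    · have := h.2.2 i hi; omega, fun i hi => h.2.2 i fun h' => hi (hST h')⟩

/-- A combination of monomials. -/
def lc : ((Fin d → ℤ) →₀ A) →ₗ[A] Lau a := Finsupp.linearCombination A (mon a)

theorem lc_apply (c : (Fin d → ℤ) →₀ A) :
    lc a c = ∑ e ∈ c.support, mon a e * algebraMap A (Lau a) (c e) := by
  rw [lc, Finsupp.linearCombination_apply, Finsupp.sum]
  exact Finset.sum_congr rfl fun e _ => by rw [Algebra.smul_def, mul_comm]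

theorem lc_mem_succ {k : ℕ} {n : ℤ} {S : Finset (Fin d)} {c : (Fin d → ℤ) →₀ A}
    (hc : ∀ e ∈ c.support, Allowed k n S e) (hI : ∀ e, c e ∈ ctr a) : lc a c ∈ Lev a k (n + 1) S := by
  rw [lc_apply]
  refine Submodule.sum_mem _ fun e he => ?_
  obtain ⟨h1, h2, h3⟩ := hc e he
  exact mon_mem a h2 h3 (j := 1) (by rw [h1]; simp) (by rw [pow_one]; exact hI e)

theorem lc_mem {k : ℕ} {n : ℤ} {S : Finset (Fin d)} {c : (Fin d → ℤ) →₀ A}
    (hc : ∀ e ∈ c.support, Allowed k n S e) : lc a c ∈ Lev a k n S := by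
  rw [lc_apply]
  refine Submodule.sum_mem _ fun e he => ?_
  obtain ⟨h1, h2, h3⟩ := hc e he
  exact mon_mem a h2 h3 (j := 0) (by rw [h1]; simp)
    (x := c e) (by rw [pow_zero, Ideal.one_eq_top]; exact Submodule.mem_top)

/-- Every element is a combination of monomials, up to one degree more. -/
theorem exists_lc {k : ℕ} {n : ℤ} {S : Finset (Fin d)} {u : Lau a} (hu : u ∈ Lev a k n S) :
    ∃ c : (Fin d → ℤ) →₀ A, (∀ e ∈ c.support, Allowed k n S e) ∧ u - lc a c ∈ Lev a k (n + 1) S := by
  classical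
  by_cases hN : n + (k * S.card : ℕ) < 0
  · refine ⟨0, fun e he => by simp at he, ?_⟩
    rw [map_zero, sub_zero]
    obtain ⟨x, hx, rfl⟩ := (mem_Lev a).1 hu
    refine (mem_Lev a).2 ⟨x, ?_, rfl⟩
    rw [show (n + 1 + (k * S.card : ℕ)).toNat = 0 by omega, pow_zero, Ideal.one_eq_top]
    exact Submodule.mem_top
  · obtain ⟨x, hx, rfl⟩ := (mem_Lev a).1 hu
    obtain ⟨N, hNn⟩ : ∃ N : ℕ, n + (k * S.card : ℕ) = (N : ℤ) := Int.eq_ofNat_of_zero_le (by omega)
    rw [hNn, Int.toNat_natCast] at hx
    obtain ⟨F, hF, rfl⟩ := LocalCrit.exists_isHomogeneous_eval_eq a hx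
    let g : (Fin d →₀ ℕ) → (Fin d → ℤ) := fun m => negOn k S + fun i => (m i : ℤ)
    refine ⟨∑ m ∈ F.support, Finsupp.single (g m) (F.coeff m), fun e he => ?_, ?_⟩
    · obtain ⟨m, hm, hem⟩ := Finset.mem_biUnion.1 (Finsupp.support_finsetSum he)
      rw [Finset.mem_singleton.1 (Finsupp.support_single_subset hem)]
      have hdeg : ∑ i, m i = N := by
        have := hF (mem_support_iff.1 hm)
        rw [← this, Finsupp.weight_apply, Finsupp.sum_fintype] <;> simp
      refine ⟨?_, fun i hi => ?_, fun i hi => ?_⟩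
      · simp only [g, Pi.add_apply, Finset.sum_add_distrib, sum_negOn]
        rw [← Nat.cast_sum, hdeg]
        omega
      · simp only [g, Pi.add_apply, negOn, if_pos hi]; omega
      · simp only [g, Pi.add_apply, negOn, if_neg hi]; omega
    · have h : lc a (∑ m ∈ F.support, Finsupp.single (g m) (F.coeff m)) =
          mon a (negOn k S) * algebraMap A (Lau a) (eval a F) := by
        rw [map_sum, eval_eq', map_sum, Finset.mul_sum]
        refine Finset.sum_congr rfl fun m _ => ?_
        rw [lc, Finsupp.linearCombination_single, Algebra.smul_def, map_mul, ← mon_natCast]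
        simp only [g, mon_add]
        ring
      rw [h, sub_self]
      exact Submodule.zero_mem _

/-- Monomials are independent modulo one degree more. -/
theorem coeff_mem (ha : ∀ i, a i ∈ nonZeroDivisors A) (hq : CAlgX.IsQuasiRegular a) {k : ℕ} {n : ℤ}
    {S : Finset (Fin d)} {c : (Fin d → ℤ) →₀ A} (hc : ∀ e ∈ c.support, Allowed k n S e)
    (h : lc a c ∈ Lev a k (n + 1) S) (e : Fin d → ℤ) : c e ∈ ctr a := by
  classical
  by_cases he : c e = 0
  · rw [he]; exact Submodule.zero_mem _
  let g : (Fin d → ℤ) → (Fin d →₀ ℕ) := fun e => Finsupp.equivFunOnFinite.symm fun i => (e i - negOn k S i).toNat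
  have hg : ∀ e ∈ c.support, ∀ i, (g e i : ℤ) = e i - negOn k S i := fun e he i => by
    have hge : g e i = (e i - negOn k S i).toNat := rfl
    rw [hge]
    obtain ⟨-, h2, h3⟩ := hc e he
    by_cases hi : i ∈ S
    · have := h2 i hi; simp only [negOn, if_pos hi]; omega
    · have := h3 i hi; simp only [negOn, if_neg hi]; omega
  have hsum : ∀ e ∈ c.support, ((∑ i, g e i : ℕ) : ℤ) = n + (k * S.card : ℕ) := fun e he => by
    rw [Nat.cast_sum, Finset.sum_congr rfl (fun i _ => hg e he i), Finset.sum_sub_distrib, sum_negOn,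
      (hc e he).1, sub_neg_eq_add]
  obtain ⟨N, hN⟩ : ∃ N : ℕ, n + (k * S.card : ℕ) = (N : ℤ) :=
    ⟨_, (hsum e (Finsupp.mem_support_iff.2 he)).symm⟩
  let F : MvPolynomial (Fin d) A := ∑ e ∈ c.support, monomial (g e) (c e)
  have hF : F.IsHomogeneous N := IsHomogeneous.sum _ _ _ fun e he => isHomogeneous_monomial _ (by
    have h1 := hsum e he
    rw [hN, Nat.cast_inj] at h1
    rw [← h1, Finsupp.degree_eq_sum])
  have hev : mon a (negOn k S) * algebraMap A (Lau a) (eval a F) = lc a c := by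
    rw [lc_apply, map_sum, map_sum, Finset.mul_sum]
    refine Finset.sum_congr rfl fun e he => ?_
    rw [eval_monomial, map_mul, Finsupp.prod_fintype _ _ (fun i => pow_zero _), ← mon_natCast, ← mul_assoc,
      mul_comm (mon a (negOn k S)), mul_assoc, ← mon_add, mul_comm]
    congr 2
    funext i
    simp only [Pi.add_apply, hg e he i]
    ring
  obtain ⟨x, hx, hxe⟩ := (mem_Lev a).1 h
  rw [← hev] at hxe
  have hFx : eval a F = x := algebraMap_injective a ha ((isUnit_mon a _).mul_left_cancel hxe.symm)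
  rw [show (n + 1 + (k * S.card : ℕ)).toNat = N + 1 by omega, ← hFx] at hx
  have hcoe := hq N F hF hx (g e)
  have : F.coeff (g e) = c e := by
    rw [coeff_sum, Finset.sum_eq_single e (fun e' he' hne => ?_)
      (fun h' => absurd (Finsupp.mem_support_iff.2 he) h'), coeff_monomial, if_pos rfl]
    rw [coeff_monomial, if_neg fun hgg => hne (funext fun i => ?_)]
    have h1 := hg e' he' i
    have h2 := hg e (Finsupp.mem_support_iff.2 he) i
    rw [hgg] at h1
    omega
  rwa [this] at hcoe

/-- The image of a tuple. -/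
def rng {q : ℕ} (σ : Fin q → Fin d) : Finset (Fin d) := Finset.univ.image σ

theorem rng_succAbove {q : ℕ} (τ : Fin (q + 1) → Fin d) (b : Fin (q + 1)) :
    rng (fun i => τ (b.succAbove i)) ⊆ rng τ := by
  intro x hx
  obtain ⟨i, -, rfl⟩ := Finset.mem_image.1 hx
  exact Finset.mem_image.2 ⟨_, Finset.mem_univ _, rfl⟩

theorem rng_cons {q : ℕ} (i : Fin d) (σ : Fin q → Fin d) :
    rng (Fin.cons i σ : Fin (q + 1) → Fin d) = insert i (rng σ) := by
  ext x
  simp [rng, Fin.exists_fin_succ, eq_comm]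

/-- Supported cochains. -/
def Supp (k : ℕ) (n : ℤ) {q : ℕ} (z : (Fin q → Fin d) → Lau a) : Prop := ∀ σ, z σ ∈ Lev a k n (rng σ)

theorem delta_linear {M N : Type*} [AddCommGroup M] [AddCommGroup N] (L : M →+ N) {q : ℕ}
    (f : (Fin q → Fin d) → M) (τ : Fin (q + 1) → Fin d) : L (delta f τ) = delta (fun σ => L (f σ)) τ := by
  simp [delta, map_sum, map_zsmul]

theorem delta_sub' {M : Type*} [AddCommGroup M] {q : ℕ}
    (f g : (Fin q → Fin d) → M) (τ : Fin (q + 1) → Fin d) :
    delta (fun σ => f σ - g σ) τ = delta f τ - delta g τ := by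
  simp [delta, smul_sub, Finset.sum_sub_distrib]

theorem supp_delta {k : ℕ} {n : ℤ} {q : ℕ} {z : (Fin q → Fin d) → Lau a} (hz : Supp a k n z) :
    Supp a k n (delta z) := fun τ =>
  Submodule.sum_mem _ fun b _ => zsmul_mem (Lev_mono a (rng_succAbove τ b) le_rfl (hz _)) _

open Classical in
/-- A coordinate with a nonnegative exponent. -/
def idx [Nonempty (Fin d)] (e : Fin d → ℤ) : Fin d :=
  if h : ∃ i, 0 ≤ e i then h.choose else Classical.arbitrary _

theorem idx_nonneg_of_exists [Nonempty (Fin d)] {e : Fin d → ℤ} (h : ∃ i, 0 ≤ e i) : 0 ≤ e (idx e) := by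
  rw [idx, dif_pos h]
  exact h.choose_spec

theorem idx_nonneg [Nonempty (Fin d)] {e : Fin d → ℤ} (he : -(d : ℤ) < ∑ i, e i) : 0 ≤ e (idx e) := by
  have h : ∃ i, 0 ≤ e i := by
    by_contra h
    push Not at h
    have h1 : ∑ i, e i ≤ ∑ _i : Fin d, (-1 : ℤ) := Finset.sum_le_sum fun i _ => by have := h i; omega
    simp at h1
    omega
  rw [idx, dif_pos h]
  exact h.choose_spec

/-- A cocycle is a coboundary up to one degree more. -/
theorem step (ha : ∀ i, a i ∈ nonZeroDivisors A) (hq : CAlgX.IsQuasiRegular a) {k : ℕ} {n : ℤ}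
    [Nonempty (Fin d)] {q : ℕ} (hn : -(d : ℤ) < n ∨ q + 1 < d) (z : (Fin (q + 1) → Fin d) → Lau a)
    (hz : Supp a k n z) (hd : ∀ τ, delta z τ = 0) :
    ∃ w : (Fin q → Fin d) → Lau a, Supp a k n w ∧ Supp a k (n + 1) fun σ => z σ - delta w σ := by
  classical
  choose c hc hcr using fun σ => exists_lc a (hz σ)
  have hδ : ∀ τ e, delta c τ e ∈ ctr a := fun τ e => by
    refine coeff_mem a ha hq (S := rng τ) (n := n) (k := k) (fun e he => ?_) ?_ e
    · by_contra hne
      refine Finsupp.mem_support_iff.1 he ?_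
      rw [show delta c τ e = delta (fun σ => c σ e) τ from delta_linear (Finsupp.applyAddHom e) c τ]
      refine Finset.sum_eq_zero fun b _ => ?_
      show _ • c (fun i => τ (b.succAbove i)) e = 0
      rw [show c (fun i => τ (b.succAbove i)) e = 0 from ?_, smul_zero]
      by_contra h
      exact hne ((hc _ e (Finsupp.mem_support_iff.2 h)).mono (rng_succAbove τ b))
    · have h := delta_linear (lc a).toAddMonoidHom c τ
      have h2 : delta (fun σ => z σ - lc a (c σ)) τ ∈ Lev a k (n + 1) (rng τ) := supp_delta a hcr τ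
      rw [delta_sub', hd, zero_sub, Submodule.neg_mem_iff] at h2
      exact h.symm ▸ h2
  let c' : (Fin q → Fin d) → ((Fin d → ℤ) →₀ A) := fun σ =>
    ∑ i, (c (Fin.cons i σ)).filter fun e => idx e = i
  have hc'e : ∀ σ e, c' σ e = c (Fin.cons (idx e) σ) e := fun σ e => by
    simp [c', Finsupp.finsetSum_apply, Finsupp.filter_apply]
  have hc' : ∀ σ, ∀ e ∈ (c' σ).support, Allowed k n (rng σ) e := fun σ e he => by
    rw [Finsupp.mem_support_iff, hc'e] at he
    obtain ⟨h1, h2, h3⟩ := hc _ e (Finsupp.mem_support_iff.2 he)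
    have h0 : 0 ≤ e (idx e) := hn.elim (fun hn => idx_nonneg (by rw [h1]; exact hn)) fun hn => by
      have hcard : (rng (Fin.cons (idx e) σ : Fin (q + 1) → Fin d)).card < d :=
        (Finset.card_image_le.trans_eq (by simp)).trans_lt hn
      obtain ⟨i, -, hi⟩ := Finset.exists_mem_notMem_of_card_lt_card
        (s := rng (Fin.cons (idx e) σ : Fin (q + 1) → Fin d)) (t := (Finset.univ : Finset (Fin d))) (by simpa using hcard)
      exact idx_nonneg_of_exists ⟨i, h3 i hi⟩
    simp only [rng_cons, Finset.mem_insert, not_or] at h2 h3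
    refine ⟨h1, fun i hi => h2 i (Or.inr hi), fun i hi => ?_⟩
    by_cases hii : i = idx e
    · rw [hii]; exact h0
    · exact h3 i ⟨hii, hi⟩
  refine ⟨fun σ => lc a (c' σ), fun σ => lc_mem a (hc' σ), fun τ => ?_⟩
  have heq : z τ - delta (fun σ => lc a (c' σ)) τ =
      (z τ - lc a (c τ)) + lc a (c τ - delta c' τ) := by
    rw [map_sub, show delta (fun σ => lc a (c' σ)) τ = lc a (delta c' τ) from
      (delta_linear (lc a).toAddMonoidHom c' τ).symm]
    abel
  show z τ - delta (fun σ => lc a (c' σ)) τ ∈ Lev a k (n + 1) (rng τ)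
  rw [heq]
  refine Submodule.add_mem _ (hcr τ) (lc_mem_succ a (fun e he => ?_) fun e => ?_)
  · by_contra hne
    refine Finsupp.mem_support_iff.1 he ?_
    have h1 : c τ e = 0 := by
      by_contra h
      exact hne (hc τ e (Finsupp.mem_support_iff.2 h))
    rw [Finsupp.sub_apply, h1, zero_sub, neg_eq_zero,
      show delta c' τ e = delta (fun σ => c' σ e) τ from delta_linear (Finsupp.applyAddHom e) c' τ]
    refine Finset.sum_eq_zero fun b _ => ?_
    show _ • c' (fun i => τ (b.succAbove i)) e = 0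
    rw [show c' (fun i => τ (b.succAbove i)) e = 0 from ?_, smul_zero]
    by_contra h
    exact hne ((hc' _ e (Finsupp.mem_support_iff.2 h)).mono (rng_succAbove τ b))
  · have h := hδ (Fin.cons (idx e) τ) e
    rw [show delta c (Fin.cons (idx e) τ) e = delta (fun σ => c σ e) (Fin.cons (idx e) τ) from
      delta_linear (Finsupp.applyAddHom e) c _, delta_cons] at h
    rw [Finsupp.sub_apply, show delta c' τ e = delta (fun σ => c' σ e) τ from
      delta_linear (Finsupp.applyAddHom e) c' τ]
    simpa only [hc'e] using h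

theorem step_iterate (ha : ∀ i, a i ∈ nonZeroDivisors A) (hq : CAlgX.IsQuasiRegular a) {k : ℕ} {n : ℤ}
    [Nonempty (Fin d)] {q : ℕ} (hn : -(d : ℤ) < n ∨ q + 1 < d) (z : (Fin (q + 1) → Fin d) → Lau a) (hz : Supp a k n z)
    (hd : ∀ τ, delta z τ = 0) : ∀ m : ℕ,
    ∃ w : (Fin q → Fin d) → Lau a, Supp a k n w ∧ Supp a k (n + m) fun σ => z σ - delta w σ
  | 0 => ⟨fun _ => 0, fun σ => Submodule.zero_mem _, fun σ => by simpa [delta] using hz σ⟩
  | m + 1 => by
    obtain ⟨w, hw, hzw⟩ := step_iterate ha hq hn z hz hd m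
    have hd' : ∀ τ, delta (fun σ => z σ - delta w σ) τ = 0 := fun τ => by
      rw [delta_sub', hd, delta_delta, sub_zero]
    obtain ⟨w', hw', hzw'⟩ := step a ha hq (hn.imp (fun h => show -(d : ℤ) < n + (m : ℤ) by omega) id) _ hzw hd'
    refine ⟨fun σ => w σ + w' σ,
      fun σ => Submodule.add_mem _ (hw σ) (Lev_mono a (Finset.Subset.refl _) (by omega) (hw' σ)), fun σ => ?_⟩
    have h : z σ - delta (fun σ => w σ + w' σ) σ = z σ - delta w σ - delta w' σ := by
      simp only [delta, smul_add, Finset.sum_add_distrib]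
      abel
    show z σ - delta (fun σ => w σ + w' σ) σ ∈ Lev a k (n + ((m + 1 : ℕ) : ℤ)) (rng σ)
    rw [h, Nat.cast_add, Nat.cast_one, ← add_assoc]
    exact hzw' σ

theorem Supp.add {k : ℕ} {n : ℤ} {q : ℕ} {z z' : (Fin q → Fin d) → Lau a} (h : Supp a k n z)
    (h' : Supp a k n z') : Supp a k n (fun σ => z σ + z' σ) := fun σ => Submodule.add_mem _ (h σ) (h' σ)

/-- Coordinates of a cochain of level `k`. -/
def coord (k : ℕ) (q : ℕ) : ((Fin q → Fin d) → A) →ₗ[A] ((Fin q → Fin d) → Lau a) :=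
  LinearMap.pi fun σ =>
    (LinearMap.mulLeft A (mon a (negOn k (rng σ)))).comp ((Algebra.linearMap A (Lau a)).comp (LinearMap.proj σ))

theorem coord_apply (k : ℕ) {q : ℕ} (x : (Fin q → Fin d) → A) (σ : Fin q → Fin d) :
    coord a k q x σ = mon a (negOn k (rng σ)) * algebraMap A (Lau a) (x σ) := rfl

/-- Cocycles in coordinates. -/
def cocycles (k : ℕ) (q : ℕ) : Submodule A ((Fin (q + 1) → Fin d) → A) where
  carrier := {x | ∀ τ, delta (coord a k (q + 1) x) τ = 0}
  zero_mem' τ := by simp [delta]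
  add_mem' {x y} hx hy τ := by
    have h1 := hx τ
    have h2 := hy τ
    simp only [delta] at h1 h2 ⊢
    simp only [map_add, Pi.add_apply, smul_add, Finset.sum_add_distrib]
    rw [h1, h2, add_zero]
  smul_mem' r x hx τ := by
    have h := hx τ
    simp only [delta, map_smul, Pi.smul_apply] at *
    rw [← smul_zero r, ← h, Finset.smul_sum]
    exact Finset.sum_congr rfl fun b _ => (smul_comm r _ _).symm

theorem exists_pow_factor {k R : ℕ} (hR : d * k < R) {r : A} (hr : r ∈ ctr a ^ R)
    (P : A → Prop) (h0 : P 0) (hadd : ∀ x y, P x → P y → P (x + y))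
    (h : ∀ (i : Fin d) (r' : A), r' ∈ ctr a ^ (R - k) → P (a i ^ k * r')) : P r := by
  classical
  obtain ⟨F, hF, rfl⟩ := LocalCrit.exists_isHomogeneous_eval_eq a hr
  rw [eval_eq']
  refine Finset.sum_induction _ P hadd h0 fun m hm => ?_
  have hdeg : ∑ i, m i = R := by
    have := hF (mem_support_iff.1 hm)
    rw [← this, Finsupp.weight_apply, Finsupp.sum_fintype] <;> simp
  obtain ⟨i, hi⟩ : ∃ i, k ≤ m i := by
    by_contra hne
    push Not at hne
    have : ∑ i, m i ≤ ∑ _i : Fin d, k := Finset.sum_le_sum fun i _ => (hne i).le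
    simp at this
    omega
  let m' : Fin d → ℕ := Function.update (m : Fin d → ℕ) i (m i - k)
  have hprod : ∏ j, a j ^ m j = a i ^ k * ∏ j, a j ^ m' j := by
    rw [← Finset.mul_prod_erase _ _ (Finset.mem_univ i), ← Finset.mul_prod_erase _ _ (Finset.mem_univ i),
      ← mul_assoc]
    congr 1
    · simp only [m', Function.update_self, ← pow_add]
      congr 1
      omega
    · exact Finset.prod_congr rfl fun j hj => by
        simp only [m', Function.update_of_ne (Finset.ne_of_mem_erase hj)]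
  have hm' : ∑ j, m' j = R - k := by
    have h1 := Finset.add_sum_erase Finset.univ (fun j => m' j) (Finset.mem_univ i)
    have h2 := Finset.add_sum_erase Finset.univ (fun j => m j) (Finset.mem_univ i)
    have h3 : ∑ j ∈ Finset.univ.erase i, m' j = ∑ j ∈ Finset.univ.erase i, m j :=
      Finset.sum_congr rfl fun j hj => by
        simp only [m', Function.update_of_ne (Finset.ne_of_mem_erase hj)]
    have h4 : m' i = m i - k := by simp [m']
    omega
  rw [hprod, mul_left_comm]
  exact h i _ (Ideal.mul_mem_left _ _ (hm' ▸ prod_pow_mem a m'))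

/-- Cocycles of very high degree are coboundaries. -/
theorem exists_big [IsNoetherianRing A] (k : ℕ) (n : ℤ) (q : ℕ) :
    ∃ M : ℕ, ∀ z : (Fin (q + 1) → Fin d) → Lau a, Supp a k M z → (∀ τ, delta z τ = 0) →
      ∃ w : (Fin q → Fin d) → Lau a, Supp a k n w ∧ ∀ σ, delta w σ = z σ := by
  classical
  obtain ⟨c, hc⟩ := (ctr a).exists_pow_inf_eq_pow_smul (cocycles a k q)
  let R := n.toNat + 2 * (d * k) + 2 * k + 1
  refine ⟨c + R, fun z hz hd => ?_⟩
  choose x hx hxz using fun σ => (mem_Lev a).1 (hz σ)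
  have hxZ : x ∈ cocycles a k q := fun τ => by
    rw [show coord a k (q + 1) x = z from funext hxz]
    exact hd τ
  have hxI : x ∈ ctr a ^ (c + R) • (⊤ : Submodule A ((Fin (q + 1) → Fin d) → A)) := by
    rw [← Finset.univ_sum_single x]
    refine Submodule.sum_mem _ fun σ _ => ?_
    rw [show Pi.single σ (x σ) = x σ • Pi.single σ (1 : A) by simp [← Pi.single_smul]]
    exact Submodule.smul_mem_smul (Ideal.pow_le_pow_right (by
      rw [← Nat.cast_add, Int.toNat_natCast]; exact Nat.le_add_right _ _) (hx σ)) Submodule.mem_top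
  have hmem : x ∈ ctr a ^ R • cocycles a k q := by
    have h2 : x ∈ ctr a ^ (c + R) • (⊤ : Submodule A _) ⊓ cocycles a k q := ⟨hxI, hxZ⟩
    rw [hc (c + R) (Nat.le_add_right c R), Nat.add_sub_cancel_left] at h2
    exact Submodule.smul_mono le_rfl inf_le_right h2
  rw [show z = coord a k (q + 1) x from (funext hxz).symm]
  clear hxI hxZ hxz hx hz hd
  refine Submodule.smul_induction_on hmem (fun r hr y hy => ?_) fun y y' hy hy' => ?_
  · refine exists_pow_factor a (k := k) (R := R) (by simp only [R]; omega) hr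
      (fun r => ∃ w : (Fin q → Fin d) → Lau a, Supp a k n w ∧
        ∀ σ, delta w σ = coord a k (q + 1) (r • y) σ)
      ⟨fun _ => 0, fun σ => Submodule.zero_mem _, fun σ => by simp [delta]⟩ ?_ ?_
    · rintro r r' ⟨w, hw, hwe⟩ ⟨w', hw', hwe'⟩
      refine ⟨_, hw.add a hw', fun σ => ?_⟩
      rw [add_smul, map_add, Pi.add_apply, ← hwe σ, ← hwe' σ]
      simp [delta, Finset.sum_add_distrib]
    · intro i r' hr'
      refine ⟨fun σ => (a i ^ k * r') • coord a k (q + 1) y (Fin.cons i σ), fun σ => ?_, fun τ => ?_⟩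
      · have he : (a i ^ k * r') • coord a k (q + 1) y (Fin.cons i σ) =
            mon a (negOn k (insert i (rng σ)) + fun j => ((Pi.single i k : Fin d → ℕ) j : ℤ)) *
              algebraMap A (Lau a) (r' * y (Fin.cons i σ)) := by
          rw [coord_apply, rng_cons, mon_add, mon_natCast,
            show ∏ j, a j ^ (Pi.single i k : Fin d → ℕ) j = a i ^ k by
              rw [Finset.prod_eq_single i (fun j _ hj => by simp [hj]) (by simp)]; simp,
            Algebra.smul_def, map_mul, map_mul]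
          ring
        show (a i ^ k * r') • coord a k (q + 1) y (Fin.cons i σ) ∈ Lev a k n (rng σ)
        rw [he]
        refine mon_mem a (fun j hj => ?_) (fun j hj => ?_) ?_ (Ideal.mul_mem_right _ _ hr')
        · simp only [Pi.add_apply, negOn]; split_ifs <;> omega
        · rcases eq_or_ne j i with rfl | hji
          · simp [negOn]
          · simp [negOn, hji, hj]
        · simp only [Pi.add_apply, Finset.sum_add_distrib, sum_negOn, ← Nat.cast_sum, Finset.sum_pi_single',
            Finset.mem_univ, if_true]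
          have h1 : k * (insert i (rng σ)).card ≤ d * k := by
            rw [mul_comm d k]
            exact Nat.mul_le_mul_left k ((Finset.card_le_univ _).trans_eq (Fintype.card_fin d))
          simp only [R]
          omega
      · have h := hy (Fin.cons i τ)
        rw [delta_cons, sub_eq_zero] at h
        rw [map_smul, Pi.smul_apply, h, delta, delta, Finset.smul_sum]
        exact Finset.sum_congr rfl fun b _ => smul_comm _ _ _
  · obtain ⟨w, hw, hwe⟩ := hy
    obtain ⟨w', hw', hwe'⟩ := hy'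
    refine ⟨_, hw.add a hw', fun σ => ?_⟩
    rw [map_add, Pi.add_apply, ← hwe σ, ← hwe' σ]
    simp [delta, Finset.sum_add_distrib]

/-- **Exactness**: cocycles of degree `n > -d`, or on fewer than `d` indices, are coboundaries. -/
theorem exists_primitive' [IsNoetherianRing A] (ha : ∀ i, a i ∈ nonZeroDivisors A) (hq : CAlgX.IsQuasiRegular a)
    {k : ℕ} {n : ℤ} [Nonempty (Fin d)] {q : ℕ} (hn : -(d : ℤ) < n ∨ q + 1 < d) (z : (Fin (q + 1) → Fin d) → Lau a)
    (hz : Supp a k n z) (hd : ∀ τ, delta z τ = 0) :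
    ∃ w : (Fin q → Fin d) → Lau a, Supp a k n w ∧ ∀ σ, delta w σ = z σ := by
  obtain ⟨M, hM⟩ := exists_big a k n q
  obtain ⟨w, hw, hzw⟩ := step_iterate a ha hq hn z hz hd ((M : ℤ) - n).toNat
  have hd' : ∀ τ, delta (fun σ => z σ - delta w σ) τ = 0 := fun τ => by
    rw [delta_sub', hd, delta_delta, sub_zero]
  obtain ⟨w', hw', hwe'⟩ := hM _ (fun σ => Lev_mono a (Finset.Subset.refl _) (by omega) (hzw σ)) hd'
  refine ⟨_, hw.add a hw', fun σ => ?_⟩
  have h := hwe' σ
  simp only [delta, smul_add, Finset.sum_add_distrib] at h ⊢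
  rw [h]
  abel

/-- **Exactness**: cocycles of degree `n > -d` are coboundaries, without raising the level. For `q = 0` this says
that a section of degree `n` on all charts comes from `I^n`. -/
theorem exists_primitive [IsNoetherianRing A] (ha : ∀ i, a i ∈ nonZeroDivisors A) (hq : CAlgX.IsQuasiRegular a)
    {k : ℕ} {n : ℤ} (hn : -(d : ℤ) < n) [Nonempty (Fin d)] {q : ℕ} (z : (Fin (q + 1) → Fin d) → Lau a)
    (hz : Supp a k n z) (hd : ∀ τ, delta z τ = 0) :
    ∃ w : (Fin q → Fin d) → Lau a, Supp a k n w ∧ ∀ σ, delta w σ = z σ :=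
  exists_primitive' a ha hq (Or.inl hn) z hz hd

theorem rng_eq_empty (σ : Fin 0 → Fin d) : rng σ = (∅ : Finset (Fin d)) := by simp [rng]

theorem mem_Lev_empty {k : ℕ} {n : ℤ} {u : Lau a} :
    u ∈ Lev a k n ∅ ↔ ∃ x ∈ ctr a ^ n.toNat, algebraMap A (Lau a) x = u := by
  have h0 : negOn k (∅ : Finset (Fin d)) = 0 := funext fun i => by simp [negOn]
  simp [mem_Lev, h0, mon_zero]

end Groth.Agent.BlowCoh
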