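import Groth.Agent.BlowUpLib.Glue
import Groth.Agent.BlowCoh.Cech
import Groth.Agent.AModX.Res

/-!
# The standard charts of the blow-up of an affine scheme along given generators
-/

set_option autoImplicit false
set_option linter.style.haveILetI false
set_option linter.unusedSectionVars false
set_option backward.isDefEq.respectTransparency false
set_option maxHeartbeats 400000

universe u

open CategoryTheory AlgebraicGeometry TopologicalSpace Opposite
open Groth.Agent.BlowUpLib

noncomputable section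

namespace Groth.Agent.BlowCoh

open Groth.Agent

variable {A : Type u} [CommRing A] {d : ℕ} (a : Fin d → A) {Y : Scheme.{u}} (f : Y ⟶ Spec (CommRingCat.of A))

/-- The exceptional ideal. -/
abbrev exc : Y.IdealSheafData := (centre (ctr a)).comap f

theorem strHom_res {U V : Y.Opens} (h : V ≤ U) (r : A) :
    AModX.resR h (strHom f U r) = strHom f V r := by
  show Y.presheaf.map (homOfLE h).op (f.appLE ⊤ U le_top ((Scheme.ΓSpecIso (CommRingCat.of A)).inv r)) = _
  rw [← CommRingCat.comp_apply, Scheme.Hom.appLE_map]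
  rfl

theorem gen_mem_ctr (i : Fin d) : a i ∈ ctr a := Ideal.subset_span (Set.mem_range_self i)

/-- A system of charts: affine opens on which the `i`-th generator generates the exceptional ideal,
maximal with that property, with rings of fractions `x / a_i^M`, `x ∈ I^M`. -/
structure Charts where
  U : Fin d → Y.affineOpens
  cover : ∀ y : Y, ∃ i, y ∈ (U i).1
  gen : ∀ i, (exc a f).ideal (U i) = Ideal.span {strHom f (U i).1 (a i)}
  frac : ∀ i (v : Γ(Y, (U i).1)), ∃ (M : ℕ) (x : A), x ∈ ctr a ^ M ∧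
    strHom f (U i).1 (a i) ^ M * v = strHom f (U i).1 x
  max : ∀ i (W : Y.affineOpens), (exc a f).ideal W = Ideal.span {strHom f W.1 (a i)} → W.1 ≤ (U i).1
  inj : ∀ i, Function.Injective (strHom f (U i).1)
  regular : ∀ i (c : A), c ∈ nonZeroDivisors A → strHom f (U i).1 c ∈ nonZeroDivisors Γ(Y, (U i).1)

theorem exists_charts (hf : BlowUp.IsBlowUp f (centre (ctr a))) (ha : ∀ i, a i ∈ nonZeroDivisors A) :
    Nonempty (Charts a f) := by
  obtain ⟨e, he⟩ := exists_iso (isBlowUp_local (ctr a)) hf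
  let g : Fin d → ctr a := fun i => ⟨a i, gen_mem_ctr a i⟩
  let c : ∀ i, Spec (CommRingCat.of (BlowUp.affineAlgebra A (ctr a) (a i))) ⟶ Y := fun i =>
    chart (ctr a) (g i) ≫ e.hom
  haveI : ∀ i, IsOpenImmersion (c i) := fun i => IsOpenImmersion.comp _ _
  have hc : ∀ i, c i ≫ f =
      Spec.map (CommRingCat.ofHom (algebraMap A (BlowUp.affineAlgebra A (ctr a) (a i)))) := fun i => by
    rw [Category.assoc, he]; exact chart_toBase (ctr a) (g i)
  let U : Fin d → Y.affineOpens := fun i => ⟨(c i).opensRange, isAffineOpen_opensRange (c i)⟩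
  -- the ring of a chart
  have hle : ∀ i, (⊤ : (Spec (CommRingCat.of (BlowUp.affineAlgebra A (ctr a) (a i)))).Opens) ≤ c i ⁻¹ᵁ (U i).1 :=
    fun i z _ => ⟨z, rfl⟩
  let κ : ∀ i, Γ(Y, (U i).1) →+* BlowUp.affineAlgebra A (ctr a) (a i) := fun i =>
    ((c i).appLE (U i).1 ⊤ (hle i) ≫ (Scheme.ΓSpecIso _).hom).hom
  have hκb : ∀ i, Function.Bijective (κ i) := fun i => by
    have h1 : (c i) ''ᵁ ⊤ = (U i).1 := (c i).image_top_eq_opensRange
    haveI : IsIso ((c i).appLE (U i).1 ⊤ (hle i)) := by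
      have h2 : (c i).appLE (U i).1 ⊤ (hle i) = Y.presheaf.map (eqToHom h1).op ≫ ((c i).appIso ⊤).hom := by
        rw [(c i).appIso_hom', Scheme.Hom.map_appLE]
      rw [h2]; infer_instance
    exact ConcreteCategory.bijective_of_isIso ((c i).appLE (U i).1 ⊤ (hle i) ≫ (Scheme.ΓSpecIso _).hom)
  have hκ : ∀ i r, κ i (strHom f (U i).1 r) = algebraMap A (BlowUp.affineAlgebra A (ctr a) (a i)) r := by
    intro i r
    have h : (Scheme.ΓSpecIso (CommRingCat.of A)).inv ≫ f.appLE ⊤ (U i).1 le_top ≫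
        (c i).appLE (U i).1 ⊤ (hle i) ≫ (Scheme.ΓSpecIso _).hom =
        CommRingCat.ofHom (algebraMap A (BlowUp.affineAlgebra A (ctr a) (a i))) := by
      have h0 : ∀ {Z : Scheme.{u}} {g₁ g₂ : Z ⟶ Spec (CommRingCat.of A)} (_ : g₁ = g₂) (W : Z.Opens)
          (e₁ : W ≤ g₁ ⁻¹ᵁ ⊤) (e₂ : W ≤ g₂ ⁻¹ᵁ ⊤), g₁.appLE ⊤ W e₁ = g₂.appLE ⊤ W e₂ := by
        rintro Z g₁ _ rfl W e₁ e₂; rfl
      rw [Scheme.Hom.appLE_comp_appLE_assoc, h0 (hc i) ⊤ _ le_top]
      simp [Scheme.Hom.appLE]
    exact congrArg (fun φ => φ.hom r) h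
  have hinj : ∀ i, Function.Injective (algebraMap A (Localization.Away (a i))) := fun i =>
    IsLocalization.injective (M := Submonoid.powers (a i)) _ (Submonoid.powers_le.2 (ha i))
  refine ⟨⟨U, fun y => ?_, fun i => ?_, fun i v => ?_, fun i W hW => ?_, fun i => ?_, fun i r hr => ?_⟩⟩
  · -- the covering
    obtain ⟨b, hb⟩ := chart_covers (ctr a) (e.inv y)
    rw [opensRange_chart] at hb
    obtain ⟨i, hi⟩ : ∃ i, e.inv y ∈ Proj.basicOpen (deg (ctr a)) (gen (ctr a) (g i)) := by
      by_contra hne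
      push Not at hne
      simp only [Proj.mem_basicOpen] at hne hb
      have hmem : gen (ctr a) b ∈ Ideal.span (Set.range fun i => gen (ctr a) (g i)) := by
        obtain ⟨r, hr⟩ := Ideal.mem_span_range_iff_exists_fun.1 b.2
        have : gen (ctr a) b = ∑ i, algebraMap A _ (r i) * gen (ctr a) (g i) := Subtype.ext (by
          rw [AddSubmonoidClass.coe_finsetSum]
          show Polynomial.monomial 1 (b : A) = ∑ i, Polynomial.C (r i) * Polynomial.monomial 1 (a i)
          simp only [Polynomial.C_mul_monomial, ← map_sum, hr])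
        rw [this]
        exact Ideal.sum_mem _ fun i _ => Ideal.mul_mem_left _ _ (Ideal.subset_span ⟨i, rfl⟩)
      exact hb (Ideal.span_le.2 (by rintro _ ⟨i, rfl⟩; exact not_not.1 (hne i)) hmem)
    rw [← opensRange_chart] at hi
    obtain ⟨z, hz⟩ := hi
    refine ⟨i, z, ?_⟩
    show e.hom (chart (ctr a) (g i) z) = y
    rw [hz, ← Scheme.Hom.comp_apply, e.inv_hom_id]
    rfl
  · -- the generator
    rw [exc, ideal_comap_centre]
    refine le_antisymm (Ideal.map_le_iff_le_comap.2 fun x hx => ?_)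
      ((Ideal.span_singleton_le_iff_mem _).2 (Ideal.mem_map_of_mem _ (gen_mem_ctr a i)))
    refine Ideal.mem_span_singleton'.2 ?_
    obtain ⟨v, hv⟩ := (hκb i).2 (BlowUpLib.frac (ctr a) ⟨x, hx⟩ (g i))
    refine ⟨v, (hκb i).1 ?_⟩
    rw [map_mul, hκ, hv, hκ]
    exact frac_mul (ctr a) ⟨x, hx⟩ (g i)
  · -- fractions
    have key : ∀ q : BlowUp.affineAlgebra A (ctr a) (a i), ∃ (M : ℕ) (x : A), x ∈ ctr a ^ M ∧
        algebraMap A (Localization.Away (a i)) (a i) ^ M * q.1 = algebraMap A (Localization.Away (a i)) x := by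
      rintro ⟨q, hq⟩
      change q ∈ Algebra.adjoin _ _ at hq
      induction hq using Algebra.adjoin_induction with
      | mem q hq =>
        obtain ⟨x, hx, rfl⟩ := hq
        exact ⟨1, x, by rwa [pow_one], by rw [pow_one, mul_comm]; exact IsLocalization.mk'_spec _ _ _⟩
      | algebraMap r => exact ⟨0, r, by simp, by rw [pow_zero, one_mul]⟩
      | add p q _ _ hp hq =>
        obtain ⟨M, x, hx, hp⟩ := hp
        obtain ⟨N, y, hy, hq⟩ := hq
        refine ⟨M + N, a i ^ N * x + a i ^ M * y, ?_, ?_⟩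
        · refine Ideal.add_mem _ ?_ ?_
          · rw [pow_add, mul_comm (a i ^ N)]; exact Ideal.mul_mem_mul hx (Ideal.pow_mem_pow (gen_mem_ctr a i) N)
          · rw [pow_add]; exact Ideal.mul_mem_mul (Ideal.pow_mem_pow (gen_mem_ctr a i) M) hy
        · rw [map_add, map_mul, map_mul, map_pow, map_pow, ← hp, ← hq]; ring
      | mul p q _ _ hp hq =>
        obtain ⟨M, x, hx, hp⟩ := hp
        obtain ⟨N, y, hy, hq⟩ := hq
        exact ⟨M + N, x * y, by rw [pow_add]; exact Ideal.mul_mem_mul hx hy,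
          by rw [map_mul, ← hp, ← hq]; ring⟩
    obtain ⟨M, x, hx, hM⟩ := key (κ i v)
    refine ⟨M, x, hx, (hκb i).1 (Subtype.ext ?_)⟩
    rw [map_mul, map_pow, hκ, hκ]
    simpa using hM
  · -- maximality
    intro z hz
    obtain ⟨p, hp⟩ := range_subset_chart (ctr a) hf.1 e.inv
      (by rw [← he, ← Category.assoc, e.inv_hom_id, Category.id_comp]) (g i) W hW z hz
    refine ⟨p, ?_⟩
    show e.hom (chart (ctr a) (g i) p) = z
    rw [hp, ← Scheme.Hom.comp_apply, e.inv_hom_id]
    rfl
  · exact fun r r' h => hinj i (congrArg Subtype.val ((hκ i r).symm.trans ((congrArg (κ i) h).trans (hκ i r'))))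
  · refine mem_nonZeroDivisors_iff_right.2 fun v hv => (hκb i).1 ?_
    have hrr : algebraMap A (Localization.Away (a i)) r ∈ nonZeroDivisors (Localization.Away (a i)) :=
      IsLocalization.map_nonZeroDivisors_le (Submonoid.powers (a i)) _ ⟨r, hr, rfl⟩
    rw [map_zero]
    refine Subtype.ext ((mem_nonZeroDivisors_iff_right.1 hrr) _ ?_)
    have h := congrArg (fun w => (κ i w).1) hv
    simpa [map_mul, hκ] using h

end Groth.Agent.BlowCoh
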