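import Groth.Agent.AmpleVan.Tw
import Groth.Agent.PnEuler.Coh
import Groth.Agent.PnEuler.NullProp
import Groth.Agent.QCoh.HHExact
import Groth.Agent.InvX.GenLocus
import Groth.Agent.InvX.Tensor
import Groth.Agent.CurveCohLib.Proper
import Groth.Agent.Lib.CurveDeg
import Groth.Agent.FDescent.StalkFinite
import Groth.Agent.KFlatLib.Scheme.Tensor
import Groth.Agent.ExtPowSh.Twist
import Mathlib.RingTheory.OrzechProperty
import Mathlib.LinearAlgebra.Eigenspace.Minpoly

/-!
# Cokernels of maps between sums of two invertible modules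
-/

set_option autoImplicit false
set_option linter.style.haveILetI false
set_option linter.unusedSectionVars false
set_option backward.isDefEq.respectTransparency false
set_option backward.isDefEq.respectTransparency.types false
set_option maxHeartbeats 400000

universe u

open CategoryTheory CategoryTheory.Limits AlgebraicGeometry TopologicalSpace Opposite
open Groth.Agent.PnCoh.Finite (mapLin)

noncomputable section

namespace Groth.Agent.BlowCoh

open Groth.Agent

variable {X : Scheme.{u}}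

theorem hom_ext_one {M : X.Modules} {s t : Coh.structureModule X ⟶ M} (h : InvX.one s = InvX.one t) : s = t := by
  refine Scheme.Modules.hom_ext _ _ fun W => ?_
  ext r
  exact (InvX.app_eq_smul s r).trans ((congrArg (fun z => (show Γ(X, W) from r) • AModX.res M (le_top : W ≤ ⊤) z) h).trans
    (InvX.app_eq_smul t r).symm)

theorem one_comp {M N : X.Modules} (s : Coh.structureModule X ⟶ M) (g : M ⟶ N) :
    InvX.one (s ≫ g) = g.app ⊤ (InvX.one s) := rfl

/-- An epimorphic endomorphism of a finite locally free module is an isomorphism. -/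
theorem isIso_of_epi_endo [IsLocallyNoetherian X] {M : X.Modules} (hM : FlatMod.IsFinLocFree M) (φ : M ⟶ M) [Epi φ] : IsIso φ := by
  refine KFlatLib.isIso_of_stalk φ fun x => ?_
  haveI hf := QCoh.free_stalk_of_isFinLocFree hM x
  haveI : Module.Finite (X.presheaf.stalk x) ((DerSch.stalkFunctor X x).obj M) := by
    haveI : SheafOfModules.IsFiniteType (R := X.ringCatSheaf) M := (CurveDeg.isCoh_of_isFinLocFree hM).2
    exact FDescent.finite_stalk M x
  have hs : Function.Surjective ((DerSch.stalkFunctor X x).map φ) :=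
    (ModuleCat.epi_iff_surjective _).1 inferInstance
  exact (ConcreteCategory.isIso_iff_bijective _).2
    ⟨OrzechProperty.injective_of_surjective_endomorphism ((DerSch.stalkFunctor X x).map φ).hom hs, hs⟩

theorem exists_factor_of_h1 {S : ShortComplex X.Modules} (hS : S.ShortExact)
    (h : Subsingleton (Coh.HH X S.X₁ 1)) (u : Coh.structureModule X ⟶ S.X₃) :
    ∃ v : Coh.structureModule X ⟶ S.X₂, v ≫ S.g = u := by
  obtain ⟨s, hs⟩ := QCoh.app_top_surjective_of_HH_one hS h (InvX.one u)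
  exact ⟨InvX.ofSect s, hom_ext_one (by rw [one_comp, InvX.one_ofSect]; exact hs)⟩

/-- An isomorphism of cokernels is induced by isomorphisms of the terms, if maps lift uniquely. -/
theorem exists_isos_of_lift {P Q : X.Modules} (hz : ∀ h : Q ⟶ P, h = 0) (f f' : P ⟶ Q) [Mono f] [Mono f']
    (hl : ∀ ψ : Q ⟶ cokernel f, ∃ Φ : Q ⟶ Q, Φ ≫ cokernel.π f = ψ)
    (hl' : ∀ ψ : Q ⟶ cokernel f', ∃ Φ : Q ⟶ Q, Φ ≫ cokernel.π f' = ψ) (e : cokernel f ≅ cokernel f') :
    ∃ (β : Q ≅ Q) (γ : P ≅ P), f ≫ β.hom = γ.hom ≫ f' ∧ β.hom ≫ cokernel.π f' = cokernel.π f ≫ e.hom := by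
  have uniq : ∀ (g : P ⟶ Q) [Mono g] (Φ Φ' : Q ⟶ Q), Φ ≫ cokernel.π g = Φ' ≫ cokernel.π g → Φ = Φ' := by
    intro g _ Φ Φ' h
    have hS : (ShortComplex.mk g (cokernel.π g) (cokernel.condition g)).ShortExact :=
      ShortComplex.ShortExact.mk' (ShortComplex.exact_cokernel g) inferInstance inferInstance
    have hw : (Φ - Φ') ≫ cokernel.π g = 0 := by rw [Preadditive.sub_comp, h, sub_self]
    have hk := hS.fIsKernel.fac (KernelFork.ofι _ hw) WalkingParallelPair.zero
    rw [hz (hS.fIsKernel.lift (KernelFork.ofι _ hw))] at hk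
    exact sub_eq_zero.1 (hk.symm.trans zero_comp)
  obtain ⟨β, hβ⟩ := hl' (cokernel.π f ≫ e.hom)
  obtain ⟨β', hβ'⟩ := hl (cokernel.π f' ≫ e.inv)
  have h1 : β ≫ β' = 𝟙 Q := uniq f _ _ (by
    rw [Category.assoc, hβ', reassoc_of% hβ, e.hom_inv_id, Category.comp_id, Category.id_comp])
  have h2 : β' ≫ β = 𝟙 Q := uniq f' _ _ (by
    rw [Category.assoc, hβ, reassoc_of% hβ', e.inv_hom_id, Category.comp_id, Category.id_comp])
  have hS : (ShortComplex.mk f (cokernel.π f) (cokernel.condition f)).ShortExact :=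
    ShortComplex.ShortExact.mk' (ShortComplex.exact_cokernel f) inferInstance inferInstance
  have hS' : (ShortComplex.mk f' (cokernel.π f') (cokernel.condition f')).ShortExact :=
    ShortComplex.ShortExact.mk' (ShortComplex.exact_cokernel f') inferInstance inferInstance
  have w : (f ≫ β) ≫ cokernel.π f' = 0 := by rw [Category.assoc, hβ, cokernel.condition_assoc, zero_comp]
  have w' : (f' ≫ β') ≫ cokernel.π f = 0 := by rw [Category.assoc, hβ', cokernel.condition_assoc, zero_comp]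
  obtain ⟨γ, hγ⟩ : ∃ γ : P ⟶ P, γ ≫ f' = f ≫ β :=
    ⟨hS'.fIsKernel.lift (KernelFork.ofι _ w), hS'.fIsKernel.fac (KernelFork.ofι _ w) WalkingParallelPair.zero⟩
  obtain ⟨γ', hγ'⟩ : ∃ γ' : P ⟶ P, γ' ≫ f = f' ≫ β' :=
    ⟨hS.fIsKernel.lift (KernelFork.ofι _ w'), hS.fIsKernel.fac (KernelFork.ofι _ w') WalkingParallelPair.zero⟩
  refine ⟨⟨β, β', h1, h2⟩, ⟨γ, γ', ?_, ?_⟩, hγ.symm, hβ⟩
  · rw [← cancel_mono f, Category.assoc, hγ', reassoc_of% hγ, h1, Category.comp_id, Category.id_comp]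
  · rw [← cancel_mono f', Category.assoc, hγ, reassoc_of% hγ', h2, Category.comp_id, Category.id_comp]

variable (k : Type u) [Field k] [X.Over (Spec (CommRingCat.of k))] {T1 T2 : X.Modules}
  (F : X.Modules ⥤ X.Modules) [F.IsEquivalence] [F.Additive] (e1 : F.obj T1 ≅ Coh.structureModule X)
  {a b : ℕ} {P Q C : X.Modules} (eP : P ≅ ∐ fun _ : Fin a => T2) (eQ : Q ≅ ∐ fun _ : Fin b => T1)

include e1

theorem hom_eq_zero_of_h0 {M : X.Modules} (h : Subsingleton (Coh.HH X (F.obj M) 0)) (ψ : T1 ⟶ M) :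
    ψ = 0 := by
  refine F.map_injective ?_
  rw [Functor.map_zero]
  refine (cancel_epi e1.inv).1 ?_
  rw [comp_zero]
  haveI : Subsingleton Γ(F.obj M, ⊤) :=
    (Sheaf.H.equiv₀ (Coh.toAb (F.obj M)) isTerminalTop).symm.toEquiv.subsingleton
  exact hom_ext_one (Subsingleton.elim _ _)

theorem exists_lift_T1 {S : ShortComplex X.Modules} (hS : S.ShortExact)
    (h : Subsingleton (Coh.HH X (F.obj S.X₁) 1)) (ψ : T1 ⟶ S.X₃) :
    ∃ Φ : T1 ⟶ S.X₂, Φ ≫ S.g = ψ := by
  obtain ⟨v, hv⟩ := exists_factor_of_h1 (hS.map_of_exact F) h (e1.inv ≫ F.map ψ)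
  refine ⟨F.preimage (e1.hom ≫ v), F.map_injective ?_⟩
  rw [Functor.map_comp, Functor.map_preimage, Category.assoc]
  exact (congrArg (e1.hom ≫ ·) hv).trans (e1.hom_inv_id_assoc _)

variable (hP0 : Subsingleton (Coh.HH X (F.obj T2) 0))
  (hP1 : Subsingleton (Coh.HH X (F.obj T2) 1))

include k eP eQ

include hP0 in
theorem hom_QP_eq_zero (h : Q ⟶ P) : h = 0 := by
  refine (cancel_epi eQ.inv).1 (Sigma.hom_ext _ _ fun j => ?_)
  rw [comp_zero, comp_zero]
  refine hom_eq_zero_of_h0 F e1 ?_ _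
  let e : F.obj P ≅ ∐ fun _ : Fin a => F.obj T2 :=
    F.mapIso eP ≪≫ PreservesCoproduct.iso F _
  exact @Equiv.subsingleton _ _ (PnEuler.hhIso k e 0).toEquiv (PnEuler.subsingleton_sigma k _ a 0 hP0)

include hP1 in
theorem exists_lift (f : P ⟶ Q) [Mono f] (ψ : Q ⟶ cokernel f) : ∃ Φ : Q ⟶ Q, Φ ≫ cokernel.π f = ψ := by
  have hS : (ShortComplex.mk f (cokernel.π f) (cokernel.condition f)).ShortExact :=
    ShortComplex.ShortExact.mk' (ShortComplex.exact_cokernel f) inferInstance inferInstance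
  let e : F.obj P ≅ ∐ fun _ : Fin a => F.obj T2 :=
    F.mapIso eP ≪≫ PreservesCoproduct.iso F _
  have h1 : Subsingleton (Coh.HH X (F.obj P) 1) :=
    @Equiv.subsingleton _ _ (PnEuler.hhIso k e 1).toEquiv (PnEuler.subsingleton_sigma k _ a 1 hP1)
  choose Φ hΦ using fun j : Fin b =>
    exists_lift_T1 F e1 hS h1 (Sigma.ι (fun _ : Fin b => T1) j ≫ eQ.inv ≫ ψ)
  refine ⟨eQ.hom ≫ Sigma.desc Φ, (cancel_epi eQ.inv).1 (Sigma.hom_ext _ _ fun j => ?_)⟩
  rw [Category.assoc, Iso.inv_hom_id_assoc, Sigma.ι_desc_assoc]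
  exact hΦ j

include hP0 in
theorem lift_unique (f : P ⟶ Q) [Mono f] (Φ Φ' : Q ⟶ Q) (h : Φ ≫ cokernel.π f = Φ' ≫ cokernel.π f) : Φ = Φ' := by
  have hS : (ShortComplex.mk f (cokernel.π f) (cokernel.condition f)).ShortExact :=
    ShortComplex.ShortExact.mk' (ShortComplex.exact_cokernel f) inferInstance inferInstance
  have hz : (Φ - Φ') ≫ cokernel.π f = 0 := by rw [Preadditive.sub_comp, h, sub_self]
  have hl := hS.fIsKernel.fac (KernelFork.ofι _ hz) WalkingParallelPair.zero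
  rw [hom_QP_eq_zero k F e1 eP eQ hP0 (hS.fIsKernel.lift (KernelFork.ofι _ hz))] at hl
  exact sub_eq_zero.1 (hl.symm.trans zero_comp)

include hP0 hP1 in
/-- An isomorphism of cokernels is induced by isomorphisms of the terms. -/
theorem exists_isos_of_coker_iso (f f' : P ⟶ Q) [Mono f] [Mono f'] (e : cokernel f ≅ cokernel f') :
    ∃ (β : Q ≅ Q) (γ : P ≅ P), f ≫ β.hom = γ.hom ≫ f' ∧ β.hom ≫ cokernel.π f' = cokernel.π f ≫ e.hom :=
  exists_isos_of_lift (hom_QP_eq_zero k F e1 eP eQ hP0) f f'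
    (fun ψ => exists_lift k F e1 eP eQ hP1 f ψ) (fun ψ => exists_lift k F e1 eP eQ hP1 f' ψ) e

omit e1 eP eQ in
/-- A scalar acts on cohomology by scalar multiplication. -/
theorem mapLin_smulModΓ {M : X.Modules} (c : k) (q : ℕ) (x : Coh.HH X M q) :
    mapLin k (Formal.smulModΓ M (Coh.toGlobal (X ↘ Spec (CommRingCat.of k)) c)) q x = c • x := rfl

omit eP in
/-- For almost all scalars `c` the map `β - c` of a sum of copies of `T1` is epi. -/
theorem exists_finite_epi_sub (hFs : ∀ (M : X.Modules) (r : Coh.Γtop X), F.map (Formal.smulModΓ M r) = Formal.smulModΓ (F.obj M) r) [IsProper (X ↘ Spec (CommRingCat.of k))] (β : Q ⟶ Q) :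
    ∃ S : Set k, S.Finite ∧ ∀ c ∉ S, Epi (β - Formal.smulModΓ Q (Coh.toGlobal (X ↘ Spec (CommRingCat.of k)) c)) := by
  haveI := CurveCohLib.isNoetherian_of_proper (k := k) (X := X)
  let eF : F.obj Q ≅ ∐ fun _ : Fin b => Coh.structureModule X :=
    F.mapIso eQ ≪≫ PreservesCoproduct.iso F _ ≪≫ Sigma.mapIso fun _ => e1
  haveI : Module.Finite k (Coh.HH X (F.obj Q) 0) := by
    haveI : Module.Finite k (Coh.HH X (Coh.structureModule X) 0) :=
      CurveCohLib.finite_HH (CurveDeg.isCoh_of_isInvertible (PicLoc.isInvertible_structureModule X)) 0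
    exact Module.Finite.equiv ((PnEuler.hhIso k eF 0).trans (PnEuler.hhSigma k _ b 0)).symm
  let L : Module.End k (Coh.HH X (F.obj Q) 0) := mapLin k (F.map β) 0
  refine ⟨spectrum k L, Module.End.finite_spectrum L, fun c hc => ?_⟩
  let σ := Coh.toGlobal (X ↘ Spec (CommRingCat.of k)) c
  have hG : F.map (β - Formal.smulModΓ Q σ) = F.map β - Formal.smulModΓ (F.obj Q) σ := by
    rw [Functor.map_sub]
    exact congrArg (F.map β - ·) (hFs Q σ)
  have hsurj : Function.Surjective (mapLin k (F.map (β - Formal.smulModΓ Q σ)) 0) := fun y => by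
    have hu : IsUnit (algebraMap k (Module.End k (Coh.HH X (F.obj Q) 0)) c - L) := spectrum.notMem_iff.1 hc
    obtain ⟨x, hx⟩ := ((Module.End.isUnit_iff _).1 hu).2 y
    refine ⟨-x, ?_⟩
    rw [hG]
    refine ((map_sub (PnEuler.mapHom k 0 (-x)) _ _).trans ?_)
    show mapLin k (F.map β) 0 (-x) - mapLin k (Formal.smulModΓ (F.obj Q) σ) 0 (-x) = y
    rw [mapLin_smulModΓ, ← hx, map_neg, smul_neg, sub_neg_eq_add, neg_add_eq_sub]
    rfl
  have hepi : Epi (F.map (β - Formal.smulModΓ Q σ)) := by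
    refine Preadditive.epi_of_cancel_zero _ fun {W} g hg => (cancel_epi eF.inv).1 (Sigma.hom_ext _ _ fun j => ?_)
    rw [comp_zero, comp_zero]
    obtain ⟨x, hx⟩ := hsurj ((Sheaf.H.equiv₀ (Coh.toAb (F.obj Q)) isTerminalTop).symm
      (InvX.one (Sigma.ι (fun _ : Fin b => Coh.structureModule X) j ≫ eF.inv)))
    have h2 : (F.map (β - Formal.smulModΓ Q σ)).app ⊤ (Sheaf.H.equiv₀ (Coh.toAb (F.obj Q)) isTerminalTop x) =
        InvX.one (Sigma.ι (fun _ : Fin b => Coh.structureModule X) j ≫ eF.inv) :=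
      (Sheaf.H.equiv₀_naturality isTerminalTop ((QCoh.toAbFunctor X).map (F.map (β - Formal.smulModΓ Q σ))) x).trans
        ((congrArg (Sheaf.H.equiv₀ (Coh.toAb (F.obj Q)) isTerminalTop) hx).trans (AddEquiv.apply_symm_apply _ _))
    have h3 : InvX.ofSect (Sheaf.H.equiv₀ (Coh.toAb (F.obj Q)) isTerminalTop x : Γ(F.obj Q, ⊤)) ≫
        F.map (β - Formal.smulModΓ Q σ) = Sigma.ι (fun _ : Fin b => Coh.structureModule X) j ≫ eF.inv :=
      hom_ext_one (by rw [one_comp, InvX.one_ofSect]; exact h2)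
    rw [← Category.assoc, ← h3, Category.assoc, hg, comp_zero]
  haveI := hepi
  exact F.epi_of_epi_map hepi

include hP1 in
/-- Some scalar translate of an endomorphism of the cokernel is invertible. -/
theorem exists_isIso_sub (hFs : ∀ (M : X.Modules) (r : Coh.Γtop X), F.map (Formal.smulModΓ M r) = Formal.smulModΓ (F.obj M) r) [Infinite k] [IsProper (X ↘ Spec (CommRingCat.of k))] (f : P ⟶ Q) [Mono f]
    (hC : FlatMod.IsFinLocFree (cokernel f)) (φ : cokernel f ⟶ cokernel f) :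
    ∃ c : k, IsIso (φ - Formal.smulModΓ (cokernel f) (Coh.toGlobal (X ↘ Spec (CommRingCat.of k)) c)) := by
  haveI := CurveCohLib.isNoetherian_of_proper (k := k) (X := X)
  obtain ⟨β, hβ⟩ := exists_lift k F e1 eP eQ hP1 f (cokernel.π f ≫ φ)
  obtain ⟨S, hS, hE⟩ := exists_finite_epi_sub k F e1 eQ hFs β
  obtain ⟨c, hc⟩ := hS.exists_notMem
  refine ⟨c, ?_⟩
  let σ := Coh.toGlobal (X ↘ Spec (CommRingCat.of k)) c
  haveI : Epi (β - Formal.smulModΓ Q σ) := hE c hc
  haveI : Epi (cokernel.π f ≫ (φ - Formal.smulModΓ (cokernel f) σ)) := by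
    rw [Preadditive.comp_sub, ← hβ, KLin.comp_smulModΓ, ← Preadditive.sub_comp]
    exact epi_comp _ _
  haveI : Epi (φ - Formal.smulModΓ (cokernel f) σ) := epi_of_epi (cokernel.π f) _
  exact isIso_of_epi_endo hC _

include hP0 hP1 in
/-- A cokernel with scalar stabiliser is simple. -/
theorem exists_scalar_of_stabilizer (hFs : ∀ (M : X.Modules) (r : Coh.Γtop X), F.map (Formal.smulModΓ M r) = Formal.smulModΓ (F.obj M) r) [Infinite k] [IsProper (X ↘ Spec (CommRingCat.of k))] (f : P ⟶ Q) [Mono f]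
    (hC : FlatMod.IsFinLocFree (cokernel f))
    (hstab : ∀ (β : Q ≅ Q) (γ : P ≅ P), γ.hom ≫ f = f ≫ β.hom → ∃ c : k,
      β.hom = Formal.smulModΓ Q (Coh.toGlobal (X ↘ Spec (CommRingCat.of k)) c))
    (φ : cokernel f ⟶ cokernel f) :
    ∃ c : k, φ = Formal.smulModΓ (cokernel f) (Coh.toGlobal (X ↘ Spec (CommRingCat.of k)) c) := by
  obtain ⟨l, hl⟩ := exists_isIso_sub k F e1 eP eQ hP1 hFs f hC φ
  haveI := hl
  obtain ⟨β, γ, h, hβ⟩ := exists_isos_of_coker_iso k F e1 eP eQ hP0 hP1 f f (asIso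
    (φ - Formal.smulModΓ (cokernel f) (Coh.toGlobal (X ↘ Spec (CommRingCat.of k)) l)))
  obtain ⟨c, hc⟩ := hstab β γ h.symm
  refine ⟨l + c, ?_⟩
  rw [hc, ← KLin.comp_smulModΓ] at hβ
  have h2 := (cancel_epi (cokernel.π f)).1 hβ
  rw [asIso_hom] at h2
  rw [map_add, KLin.smulModΓ_add, h2]
  abel

end Groth.Agent.BlowCoh
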