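import Groth.Agent.BlowCoh.CokerLift
import Groth.Agent.BlowCoh.AntiCanon

/-!
# Cokernels of matrices of linear forms on a blow-up of projective space
-/

set_option autoImplicit false
set_option linter.style.haveILetI false
set_option linter.unusedSectionVars false
set_option backward.isDefEq.respectTransparency false
set_option backward.isDefEq.respectTransparency.types false

universe u

open CategoryTheory CategoryTheory.Limits AlgebraicGeometry TopologicalSpace Opposite
open Groth.Agent.H23.PicMul

noncomputable section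

namespace Groth.Agent.BlowCoh

open Groth.Agent

variable {n : ℕ} {k : Type u} [Field k] [IsAlgClosed k] {X : Scheme.{u}} (π : X ⟶ CohB1.ProjSpace n k)
  (Z : Closeds ↥(CohB1.ProjSpace n k)) [X.Over (Spec (CommRingCat.of k))]
  (hπ : BlowUp.IsBlowUp π (Scheme.IdealSheafData.vanishingIdeal Z))
  (hπk : π ≫ CohB1.ProjSpace.toSpec n k = X ↘ Spec (CommRingCat.of k)) (hn : 2 ≤ n)
  (hZf : (Z : Set ↥(CohB1.ProjSpace n k)).Finite) (hZc : ∀ z ∈ Z, IsClosed ({z} : Set ↥(CohB1.ProjSpace n k)))

/-- Twisting by `π^*O(1)`. -/
abbrev twOne : X.Modules ⥤ X.Modules := AmpleVan.tw ((Scheme.Modules.pullback π).obj (Twist.twistProjSpace n k 1))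

theorem isEquivalence_twOne : (twOne π).IsEquivalence :=
  AmpleVan.isEquivalence_tw (PicClLib.isInvertible_pullback π (isInvertible_Tw (n := n) 1))

theorem nonempty_twOne_iso :
    Nonempty ((twOne π).obj ((Scheme.Modules.pullback π).obj (Twist.twistProjSpace n k (-1))) ≅
      Coh.structureModule X) := by
  refine cl_eq_iff.1 ?_
  show PicF.cl (CohB1.tensorMod _ _) = _
  rw [cl_tensor, cl_pullTw, cl_pullTw, ← clT_add, neg_add_cancel, clT_zero, H23.PicMul.one_def]

include hπ hπk hn hZf hZc in
theorem subsingleton_twOne_two (q : ℕ) (hq : q < n) :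
    Subsingleton (Coh.HH X ((twOne π).obj ((Scheme.Modules.pullback π).obj (Twist.twistProjSpace n k (-2)))) q) := by
  refine subsingleton_of_cl (k := k) ?_ q (subsingleton_twA_zero π Z hπ hπk hn hZf hZc (-1) q
    (subsingleton_Tw (-1) q (fun h => by omega) (fun h => by omega)))
  show PicF.cl (CohB1.tensorMod _ _) = _
  rw [cl_tensor, cl_pullTw, cl_pullTw, ← clT_add, cl_twA, pow_zero, mul_one]
  norm_num

include hπ hπk hZf in
omit [IsAlgClosed k] in
theorem isProper_blow_over : IsProper (X ↘ Spec (CommRingCat.of k)) := by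
  haveI : IsProper π := BlowUpLib.isProper_of_isBlowUp _ hπ fun U => by
    haveI := IsLocallyNoetherian.component_noetherian (X := CohB1.ProjSpace n k) U
    exact IsNoetherian.noetherian _
  rw [← hπk]
  haveI : IsProper (CohB1.ProjSpace.toSpec n k) := PnCoh.Chow.isProper_toSpec n k
  infer_instance

theorem map_twOne_smulModΓ (M : X.Modules) (r : Coh.Γtop X) :
    (twOne π).map (Formal.smulModΓ M r) = Formal.smulModΓ ((twOne π).obj M) r :=
  PnEuler.tensor_map_smul_left _ M r

end Groth.Agent.BlowCoh
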