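import Groth.Agent.BlowCoh.Charts

/-!
# Sections on the intersections of the standard charts as submodules of a localisation
-/

set_option autoImplicit false
set_option linter.style.haveILetI false
set_option linter.unusedSectionVars false
set_option backward.isDefEq.respectTransparency false
set_option maxHeartbeats 400000

universe u

open CategoryTheory AlgebraicGeometry TopologicalSpace Opposite
open Groth.Agent.BlowUpLib Groth.Agent.AModX

noncomputable section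

namespace Groth.Agent.BlowCoh

open Groth.Agent

variable {A : Type u} [CommRing A] {d : ℕ} (a : Fin d → A)

theorem mon_neg (e : Fin d → ℤ) : mon a (-e) * mon a e = 1 := by
  rw [← mon_add, neg_add_cancel, mon_zero]

theorem mon_pow (e : Fin d → ℤ) : ∀ k : ℕ, mon a e ^ k = mon a ((k : ℤ) • e)
  | 0 => by rw [pow_zero, Nat.cast_zero, zero_smul, mon_zero]
  | k + 1 => by rw [pow_succ, mon_pow e k, ← mon_add, Nat.cast_succ, add_smul, one_smul]

theorem mon_prod {α : Type*} (s : Finset α) (e : α → (Fin d → ℤ)) :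
    ∏ x ∈ s, mon a (e x) = mon a (∑ x ∈ s, e x) := by
  classical
  induction s using Finset.induction_on with
  | empty => simp [mon_zero]
  | insert x s hx ih => rw [Finset.prod_insert hx, Finset.sum_insert hx, ih, mon_add]

/-- The exponent of a single generator. -/
def dlt (i : Fin d) : Fin d → ℤ := Pi.single i 1

theorem mon_smul_dlt (i : Fin d) (k : ℕ) : mon a ((k : ℤ) • dlt i) = algebraMap A (Lau a) (a i ^ k) := by
  have h : ((k : ℤ) • dlt i) = fun j => ((Pi.single i k : Fin d → ℕ) j : ℤ) := funext fun j => by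
    rcases eq_or_ne j i with rfl | h <;> simp [dlt, *]
  rw [h, mon_natCast]
  refine congrArg _ ((Finset.prod_eq_single i (fun j _ hj => by simp [hj]) (by simp)).trans ?_)
  simp

theorem mon_dlt (i : Fin d) : mon a (dlt i) = algebraMap A (Lau a) (a i) := by
  simpa using mon_smul_dlt a i 1

variable {a} {Y : Scheme.{u}} {f : Y ⟶ Spec (CommRingCat.of A)} (Cd : Charts a f)
  (ha : ∀ i, a i ∈ nonZeroDivisors A)

variable (a f) in
/-- The locus where all the generators are invertible. -/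
def W0 : Y.Opens := Y.basicOpen (strHom f ⊤ (∏ i, a i))

variable (a f) in
theorem isUnit_on_W0 {U : Y.Opens} (h : U ≤ W0 a f) (i : Fin d) : IsUnit (strHom f U (a i)) := by
  have h1 : IsUnit (strHom f U (∏ j, a j)) := by
    rw [← strHom_res f (le_top : U ≤ ⊤)]
    exact isUnit_resR le_top _ h
  exact isUnit_of_dvd_unit (map_dvd _ (Finset.dvd_prod_of_mem a (Finset.mem_univ i))) h1

include Cd

theorem map_ctr_le (i : Fin d) {x : A} {M : ℕ} (hx : x ∈ ctr a ^ M) :
    ∃ v : Γ(Y, (Cd.U i).1), strHom f (Cd.U i).1 (a i) ^ M * v = strHom f (Cd.U i).1 x := by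
  have h : strHom f (Cd.U i).1 x ∈ (exc a f).ideal (Cd.U i) ^ M := by
    rw [ideal_comap_centre, ← Ideal.map_pow]
    exact Ideal.mem_map_of_mem _ hx
  rw [Cd.gen i, Ideal.span_singleton_pow] at h
  obtain ⟨v, hv⟩ := Ideal.mem_span_singleton'.1 h
  exact ⟨v, by rw [mul_comm]; exact hv⟩

theorem exists_t (i j : Fin d) : ∃ t : Γ(Y, (Cd.U i).1),
    strHom f (Cd.U i).1 (a i) * t = strHom f (Cd.U i).1 (a j) := by
  simpa using map_ctr_le Cd i (M := 1) (x := a j) (by rw [pow_one]; exact gen_mem_ctr a j)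

/-- The transition function `a_j / a_i`. -/
def t (i j : Fin d) : Γ(Y, (Cd.U i).1) := (exists_t Cd i j).choose

theorem t_spec (i j : Fin d) : strHom f (Cd.U i).1 (a i) * t Cd i j = strHom f (Cd.U i).1 (a j) :=
  (exists_t Cd i j).choose_spec

theorem gen_res (i : Fin d) {W : Y.affineOpens} (h : W.1 ≤ (Cd.U i).1) :
    (exc a f).ideal W = Ideal.span {strHom f W.1 (a i)} := by
  rw [← (exc a f).map_ideal (U := W) (V := Cd.U i) h, Cd.gen i, Ideal.map_span, Set.image_singleton]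
  congr 2
  exact strHom_res f h (a i)

/-- The overlap of two charts. -/
theorem inf_eq (hE : BlowUp.IsEffCartierIdeal (exc a f)) (i j : Fin d) :
    (Cd.U i).1 ⊓ (Cd.U j).1 = Y.basicOpen (t Cd i j) := by
  refine le_antisymm (fun y hy => ?_) (le_inf (Y.basicOpen_le _) ?_)
  · obtain ⟨_, ⟨W, hW, rfl⟩, hyW, hWU⟩ := Y.isBasis_affineOpens.exists_subset_of_mem_open hy
      ((Cd.U i).1 ⊓ (Cd.U j).1).2
    have hWi : W ≤ (Cd.U i).1 := fun z hz => (hWU hz).1
    have hWj : W ≤ (Cd.U j).1 := fun z hz => (hWU hz).2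
    have hi := gen_res Cd i (W := ⟨W, hW⟩) hWi
    have hj := gen_res Cd j (W := ⟨W, hW⟩) hWj
    obtain ⟨s, hs⟩ := Ideal.mem_span_singleton'.1 ((hi.symm.trans hj).le (Ideal.mem_span_singleton_self _))
    have ht := congrArg (resR hWi) (t_spec Cd i j)
    rw [map_mul, strHom_res, strHom_res] at ht
    have hu : IsUnit (resR hWi (t Cd i j)) := by
      refine IsUnit.of_mul_eq_one s (sub_eq_zero.1 ((mem_nonZeroDivisors_iff_right.1
        (ModPairLib.generator_mem_nonZeroDivisors hE hi)) _ ?_))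
      rw [sub_mul, one_mul, sub_eq_zero, mul_comm (resR hWi (t Cd i j)) s, mul_assoc, mul_comm (resR hWi _), ht]
      exact hs
    have h1 : y ∈ Y.basicOpen (resR hWi (t Cd i j)) := by rw [Y.basicOpen_of_isUnit hu]; exact hyW
    rw [show resR hWi (t Cd i j) = Y.presheaf.map (homOfLE hWi).op (t Cd i j) from rfl, Scheme.basicOpen_res] at h1
    exact h1.2
  · let D : Y.affineOpens := ⟨Y.basicOpen (t Cd i j), (Cd.U i).2.basicOpen _⟩
    refine Cd.max j D ?_
    have hDi : D.1 ≤ (Cd.U i).1 := Y.basicOpen_le _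
    have hu : IsUnit (resR hDi (t Cd i j)) := isUnit_resR hDi _ le_rfl
    have ht := congrArg (resR hDi) (t_spec Cd i j)
    rw [map_mul, strHom_res, strHom_res] at ht
    rw [gen_res Cd i hDi, ← ht]
    exact (Ideal.span_singleton_mul_right_unit hu _).symm

/-- The intersection of charts along a tuple. -/
def Us {q : ℕ} (σ : Fin (q + 1) → Fin d) : Y.Opens := ⨅ b, (Cd.U (σ b)).1

theorem Us_le {q : ℕ} (σ : Fin (q + 1) → Fin d) (b : Fin (q + 1)) : Us Cd σ ≤ (Cd.U (σ b)).1 := iInf_le _ b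

/-- The function whose non-vanishing cuts out the intersection. -/
def gS {q : ℕ} (σ : Fin (q + 1) → Fin d) : Γ(Y, (Cd.U (σ 0)).1) := ∏ b, t Cd (σ 0) (σ b)

theorem Us_eq (hE : BlowUp.IsEffCartierIdeal (exc a f)) {q : ℕ} (σ : Fin (q + 1) → Fin d) :
    Us Cd σ = Y.basicOpen (gS Cd σ) := by
  ext y
  have hmem : y ∈ Us Cd σ ↔ ∀ b, y ∈ (Cd.U (σ b)).1 :=
    ⟨fun h b => Us_le Cd σ b h, fun h => by
      show y ∈ (↑(⨅ b, (Cd.U (σ b)).1) : Set Y)
      rw [Opens.coe_iInf]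
      exact Set.mem_iInter.2 h⟩
  rw [SetLike.mem_coe, hmem, SetLike.mem_coe]
  constructor
  · intro h
    rw [Y.mem_basicOpen _ _ (h 0), gS, map_prod, IsUnit.prod_univ_iff]
    intro b
    rw [← Y.mem_basicOpen _ _ (h 0), ← inf_eq Cd hE]
    exact ⟨h 0, h b⟩
  · intro h b
    have h0 : y ∈ (Cd.U (σ 0)).1 := Y.basicOpen_le _ h
    rw [Y.mem_basicOpen _ _ h0, gS, map_prod, IsUnit.prod_univ_iff] at h
    have hb := h b
    rw [← Y.mem_basicOpen _ _ h0, ← inf_eq Cd hE] at hb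
    exact hb.2

theorem isAffineOpen_Us (hE : BlowUp.IsEffCartierIdeal (exc a f)) {q : ℕ} (σ : Fin (q + 1) → Fin d) :
    IsAffineOpen (Us Cd σ) := by
  rw [Us_eq Cd hE]
  exact (Cd.U (σ 0)).2.basicOpen _

theorem W0_le (i : Fin d) : W0 a f ≤ (Cd.U i).1 := by
  intro y hy
  obtain ⟨_, ⟨W, hW, rfl⟩, hyW, hWU⟩ := Y.isBasis_affineOpens.exists_subset_of_mem_open hy (W0 a f).2
  refine Cd.max i ⟨W, hW⟩ ?_ hyW
  have hu := isUnit_on_W0 a f (U := W) hWU i
  rw [Ideal.span_singleton_eq_top.2 hu, ideal_comap_centre, Ideal.eq_top_iff_one]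
  obtain ⟨v, hv⟩ := hu.exists_left_inv
  rw [← hv]
  exact Ideal.mul_mem_left _ _ (Ideal.mem_map_of_mem _ (gen_mem_ctr a i))

theorem W0_le_Us {q : ℕ} (σ : Fin (q + 1) → Fin d) : W0 a f ≤ Us Cd σ := le_iInf fun _ => W0_le Cd _

omit Cd in
theorem basicOpen_strHom (U : Y.Opens) : Y.basicOpen (strHom f U (∏ i, a i)) = U ⊓ W0 a f := by
  rw [← strHom_res f (le_top : U ≤ ⊤)]
  exact Y.basicOpen_res _ _

omit Cd in
variable (a f) in
/-- The comparison with the localisation. -/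
def rho : Lau a →+* Γ(Y, W0 a f) :=
  IsLocalization.Away.lift (∏ i, a i) (g := strHom f (W0 a f)) (by
    rw [map_prod]
    exact IsUnit.prod_univ_iff.2 fun i => isUnit_on_W0 a f le_rfl i)

omit Cd in
theorem rho_alg (r : A) : rho a f (algebraMap A (Lau a) r) = strHom f (W0 a f) r :=
  IsLocalization.Away.lift_eq _ _ r

include ha in
theorem rho_bijective [Nonempty (Fin d)] : Function.Bijective (rho a f) := by
  obtain ⟨i⟩ := ‹Nonempty (Fin d)›
  have hW := W0_le Cd i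
  have hP : (∏ j, a j) ∈ nonZeroDivisors A := Submonoid.prod_mem _ fun j _ => ha j
  let P := strHom f (Cd.U i).1 (∏ j, a j)
  have hb : Y.basicOpen P = W0 a f := (basicOpen_strHom _).trans (inf_eq_right.2 hW)
  letI : Algebra Γ(Y, (Cd.U i).1) Γ(Y, W0 a f) := (resR hW).toAlgebra
  haveI hloc : IsLocalization.Away P Γ(Y, W0 a f) :=
    (Cd.U i).2.isLocalization_of_eq_basicOpen P (homOfLE hW) hb.symm
  refine ⟨(injective_iff_map_eq_zero _).2 fun u hu => ?_, fun v => ?_⟩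
  · obtain ⟨⟨r, s⟩, hs⟩ := IsLocalization.surj (Submonoid.powers (∏ j, a j)) u
    have hr : strHom f (W0 a f) r = 0 := by
      rw [← rho_alg, ← hs, map_mul, hu, zero_mul]
    rw [← strHom_res f hW] at hr
    obtain ⟨⟨_, m, rfl⟩, hm⟩ := (IsLocalization.map_eq_zero_iff (Submonoid.powers P) Γ(Y, W0 a f) _).1 hr
    have h0 : r = 0 := by
      have h1 : (∏ j, a j) ^ m * r = 0 := Cd.inj i (by rw [map_mul, map_pow, map_zero]; exact hm)
      exact (mem_nonZeroDivisors_iff_left.1 (pow_mem hP m)) r h1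
    rw [h0, map_zero] at hs
    exact (IsLocalization.map_units (Lau a) s).mul_left_eq_zero.1 hs
  · obtain ⟨⟨u, ⟨_, m, rfl⟩⟩, hu⟩ := IsLocalization.surj (Submonoid.powers P) v
    obtain ⟨M, x, -, hx⟩ := Cd.frac i u
    refine ⟨(algebraMap A (Lau a) x) * ↑(((isUnit_gen a i).pow M).mul
      ((IsLocalization.Away.algebraMap_isUnit (S := Lau a) (∏ j, a j)).pow m)).unit⁻¹, ?_⟩
    refine ((((isUnit_gen a i).pow M).mul
      ((IsLocalization.Away.algebraMap_isUnit (S := Lau a) (∏ j, a j)).pow m)).map (rho a f)).mul_left_inj.1 ?_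
    rw [← map_mul, mul_assoc, IsUnit.val_inv_mul, mul_one, map_mul, map_pow, map_pow, rho_alg, rho_alg, rho_alg]
    have h1 := congrArg (resR hW) hx
    have hu' : v * resR hW P ^ m = resR hW u := by
      rw [← map_pow]; exact hu
    rw [map_mul, map_pow, strHom_res, strHom_res, ← hu', strHom_res] at h1
    rw [← h1]
    ring

variable [Nonempty (Fin d)]

/-- Sections over opens containing `W0` as elements of the localisation. -/
def psi {U : Y.Opens} (h : W0 a f ≤ U) : Γ(Y, U) →+* Lau a :=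
  (RingEquiv.ofBijective (rho a f) (rho_bijective Cd ha)).symm.toRingHom.comp (resR h)

theorem rho_psi {U : Y.Opens} (h : W0 a f ≤ U) (v : Γ(Y, U)) : rho a f (psi Cd ha h v) = resR h v :=
  (RingEquiv.ofBijective (rho a f) (rho_bijective Cd ha)).apply_symm_apply _

theorem psi_strHom {U : Y.Opens} (h : W0 a f ≤ U) (r : A) : psi Cd ha h (strHom f U r) = algebraMap A (Lau a) r :=
  (rho_bijective Cd ha).1 (by rw [rho_psi, strHom_res, rho_alg])

theorem psi_res {U V : Y.Opens} (h : W0 a f ≤ V) (hVU : V ≤ U) (v : Γ(Y, U)) :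
    psi Cd ha h (resR hVU v) = psi Cd ha (h.trans hVU) v :=
  (rho_bijective Cd ha).1 (by rw [rho_psi, rho_psi, resR_resR])

theorem psi_t (i j : Fin d) : psi Cd ha (W0_le Cd i) (t Cd i j) = mon a (dlt j - dlt i) := by
  refine (isUnit_mon a (dlt i)).mul_left_cancel ?_
  rw [← mon_add, add_sub_cancel, mon_dlt, mon_dlt, ← psi_strHom Cd ha (W0_le Cd i) (a i), ← map_mul, t_spec,
    psi_strHom]

theorem psi_injective (hE : BlowUp.IsEffCartierIdeal (exc a f)) {q : ℕ} (σ : Fin (q + 1) → Fin d) :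
    Function.Injective (psi Cd ha (W0_le_Us Cd σ)) := by
  refine (injective_iff_map_eq_zero _).2 fun v hv => ?_
  have hU := isAffineOpen_Us Cd hE σ
  let P := strHom f (Us Cd σ) (∏ j, a j)
  have hW := W0_le_Us Cd σ
  have hres : resR hW v = 0 := by rw [← rho_psi Cd ha hW v, hv, map_zero]
  have hb : Y.basicOpen P = W0 a f := (basicOpen_strHom _).trans (inf_eq_right.2 hW)
  letI : Algebra Γ(Y, Us Cd σ) Γ(Y, W0 a f) := (resR hW).toAlgebra
  haveI hloc : IsLocalization.Away P Γ(Y, W0 a f) :=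
    hU.isLocalization_of_eq_basicOpen P (homOfLE hW) hb.symm
  obtain ⟨⟨_, m, rfl⟩, hm⟩ := (IsLocalization.map_eq_zero_iff (Submonoid.powers P) Γ(Y, W0 a f) v).1 hres
  have hle : Us Cd σ ≤ (Cd.U (σ 0)).1 := Us_le Cd σ 0
  letI : Algebra Γ(Y, (Cd.U (σ 0)).1) Γ(Y, Us Cd σ) := (resR hle).toAlgebra
  haveI : IsLocalization.Away (gS Cd σ) Γ(Y, Us Cd σ) :=
    (Cd.U (σ 0)).2.isLocalization_of_eq_basicOpen (gS Cd σ) (homOfLE hle) (Us_eq Cd hE σ)
  have hPn : P ^ m ∈ nonZeroDivisors Γ(Y, Us Cd σ) := by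
    refine pow_mem (?_ : P ∈ _) m
    have h1 := Cd.regular (σ 0) _ (Submonoid.prod_mem _ fun j _ => ha j : (∏ j, a j) ∈ nonZeroDivisors A)
    have h2 := IsLocalization.map_nonZeroDivisors_le (Submonoid.powers (gS Cd σ)) Γ(Y, Us Cd σ) ⟨_, h1, rfl⟩
    simp only [P, ← strHom_res f hle]
    exact h2
  exact (mem_nonZeroDivisors_iff_left.1 hPn) v hm

/-- The sections on an intersection are the elements of some level and degree zero. -/
theorem psi_mem (hE : BlowUp.IsEffCartierIdeal (exc a f)) {q : ℕ} (σ : Fin (q + 1) → Fin d)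
    (v : Γ(Y, Us Cd σ)) : ∃ k, psi Cd ha (W0_le_Us Cd σ) v ∈ Lev a k 0 (rng σ) := by
  have hle : Us Cd σ ≤ (Cd.U (σ 0)).1 := Us_le Cd σ 0
  letI : Algebra Γ(Y, (Cd.U (σ 0)).1) Γ(Y, Us Cd σ) := (resR hle).toAlgebra
  haveI : IsLocalization.Away (gS Cd σ) Γ(Y, Us Cd σ) :=
    (Cd.U (σ 0)).2.isLocalization_of_eq_basicOpen (gS Cd σ) (homOfLE hle) (Us_eq Cd hE σ)
  obtain ⟨⟨u, ⟨_, N, rfl⟩⟩, hu⟩ := IsLocalization.surj (Submonoid.powers (gS Cd σ)) v
  obtain ⟨M, x, hx, hux⟩ := Cd.frac (σ 0) u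
  let E : Fin d → ℤ := (N : ℤ) • (∑ b, (dlt (σ b) - dlt (σ 0))) + (M : ℤ) • dlt (σ 0)
  have hg : psi Cd ha (W0_le Cd (σ 0)) (gS Cd σ) = mon a (∑ b, (dlt (σ b) - dlt (σ 0))) := by
    rw [gS, map_prod, ← mon_prod]
    exact Finset.prod_congr rfl fun b _ => psi_t Cd ha _ _
  have h1 : psi Cd ha (W0_le_Us Cd σ) v * mon a E = algebraMap A (Lau a) x := by
    have h2 : psi Cd ha (W0_le_Us Cd σ) v * mon a ((N : ℤ) • (∑ b, (dlt (σ b) - dlt (σ 0)))) =
        psi Cd ha (W0_le Cd (σ 0)) u := by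
      rw [← mon_pow, ← hg, ← map_pow, ← psi_res Cd ha (W0_le_Us Cd σ) hle u,
        ← psi_res Cd ha (W0_le_Us Cd σ) hle (gS Cd σ ^ N), ← map_mul]
      exact congrArg _ hu
    rw [mon_add, ← mul_assoc, h2, mon_smul_dlt, mul_comm, map_pow, ← psi_strHom Cd ha (W0_le Cd (σ 0)) (a (σ 0)),
      ← map_pow, ← map_mul, hux, psi_strHom]
  have hv : psi Cd ha (W0_le_Us Cd σ) v = mon a (-E) * algebraMap A (Lau a) x := by
    rw [← h1, mul_comm (psi Cd ha _ v), ← mul_assoc, mon_neg, one_mul]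
  refine ⟨M + (q + 1) * N, hv ▸ mon_mem a (fun i _ => ?_) (fun i hi => ?_) ?_ hx⟩
  · have h2 : ∀ b, dlt (σ b) i - dlt (σ 0) i ≤ (1 : ℤ) := fun b => by
      simp only [dlt, Pi.single_apply]; split_ifs <;> omega
    have h3 : ∑ b, (dlt (σ b) i - dlt (σ 0) i) ≤ ((q + 1 : ℕ) : ℤ) :=
      (Finset.sum_le_sum fun b _ => h2 b).trans (by simp)
    have h5 : dlt (σ 0) i ≤ (1 : ℤ) := by simp only [dlt, Pi.single_apply]; split_ifs <;> omega
    have h4 := mul_le_mul_of_nonneg_left h3 (Int.natCast_nonneg N)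
    have h6 := mul_le_mul_of_nonneg_left h5 (Int.natCast_nonneg M)
    simp only [E, Pi.neg_apply, Pi.add_apply, Pi.smul_apply, Finset.sum_apply, Pi.sub_apply, smul_eq_mul]
    push_cast at h4 ⊢
    linarith
  · have h2 : ∀ b, dlt (σ b) i = (0 : ℤ) := fun b => by
      simp only [dlt, Pi.single_apply]
      rw [if_neg]
      rintro rfl
      exact hi (Finset.mem_image.2 ⟨b, Finset.mem_univ _, rfl⟩)
    simp [E, h2]
  · have h2 : ∀ j : Fin d, ∑ i, dlt j i = (1 : ℤ) := fun j => by simp [dlt]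
    have h3 : ∑ i, E i = (M : ℤ) := by
      simp only [E, Pi.add_apply, Pi.smul_apply, Finset.sum_apply, Pi.sub_apply, smul_eq_mul,
        Finset.sum_add_distrib, ← Finset.mul_sum]
      rw [Finset.sum_comm]
      simp [h2, Finset.sum_sub_distrib]
    simp only [Pi.neg_apply, Finset.sum_neg_distrib, h3]
    omega

/-- Every element of degree zero is a section on the intersection. -/
theorem exists_psi_eq (hE : BlowUp.IsEffCartierIdeal (exc a f)) {q : ℕ} (σ : Fin (q + 1) → Fin d) {k : ℕ}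
    {u : Lau a} (hu : u ∈ Lev a k 0 (rng σ)) : ∃ v, psi Cd ha (W0_le_Us Cd σ) v = u := by
  classical
  obtain ⟨x, hx, rfl⟩ := (mem_Lev a).1 hu
  set S := rng σ with hS
  set K := k * S.card with hK
  obtain ⟨w, hw⟩ := map_ctr_le Cd (σ 0) (M := K) (x := x) (by rw [zero_add, Int.toNat_natCast] at hx; exact hx)
  have hle : Us Cd σ ≤ (Cd.U (σ 0)).1 := Us_le Cd σ 0
  have hinv : ∀ i ∈ S, ∃ z : Γ(Y, Us Cd σ), psi Cd ha (W0_le_Us Cd σ) z = mon a (dlt (σ 0) - dlt i) := by
    intro i hi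
    obtain ⟨b, -, rfl⟩ := Finset.mem_image.1 hi
    have hu : IsUnit (resR hle (t Cd (σ 0) (σ b))) := isUnit_resR hle _ (by
      rw [← inf_eq Cd hE]; exact le_inf (Us_le Cd σ 0) (Us_le Cd σ b))
    obtain ⟨z, hz⟩ := hu.exists_left_inv
    refine ⟨z, (isUnit_mon a (dlt (σ b) - dlt (σ 0))).mul_right_cancel ?_⟩
    rw [← mon_add, show dlt (σ 0) - dlt (σ b) + (dlt (σ b) - dlt (σ 0)) = (0 : Fin d → ℤ) by abel, mon_zero,
      ← psi_t Cd ha, ← psi_res Cd ha (W0_le_Us Cd σ) hle, ← map_mul, hz, map_one]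
  choose z hz using hinv
  have hw' : psi Cd ha (W0_le Cd (σ 0)) w = mon a (-((K : ℤ) • dlt (σ 0))) * algebraMap A (Lau a) x := by
    refine (isUnit_mon a ((K : ℤ) • dlt (σ 0))).mul_left_cancel ?_
    rw [← mul_assoc, ← mon_add, add_neg_cancel, mon_zero, one_mul, mon_smul_dlt, map_pow,
      ← psi_strHom Cd ha (W0_le Cd (σ 0)) (a (σ 0)), ← map_pow, ← map_mul, hw, psi_strHom]
  refine ⟨resR hle w * ∏ i : S, z i.1 i.2 ^ k, ?_⟩
  rw [map_mul, psi_res Cd ha (W0_le_Us Cd σ) hle, hw', map_prod,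
    Finset.prod_congr rfl (fun (i : S) _ => by rw [map_pow, hz i.1 i.2, mon_pow]),
    mon_prod a (Finset.univ : Finset S) (fun i : S => (k : ℤ) • (dlt (σ 0) - dlt i.1)), mul_right_comm, ← mon_add]
  congr 2
  funext j
  have h1 : (∑ i : S, (k : ℤ) • (dlt (σ 0) - dlt i.1)) j = (K : ℤ) * dlt (σ 0) j + negOn k S j := by
    rw [Finset.sum_apply]
    simp only [Pi.smul_apply, Pi.sub_apply, smul_eq_mul, mul_sub, Finset.sum_sub_distrib, Finset.sum_const,
      Finset.card_univ, Fintype.card_coe, nsmul_eq_mul]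
    rw [Finset.sum_coe_sort S (fun i => (k : ℤ) * dlt i j)]
    simp only [dlt, negOn, Pi.single_apply, mul_ite, mul_one, mul_zero, Finset.sum_ite_eq]
    simp only [hK]
    push_cast
    split_ifs <;> ring
  simp only [Pi.add_apply, h1, Pi.neg_apply, Pi.smul_apply, smul_eq_mul]
  ring

end Groth.Agent.BlowCoh
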