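import Groth.Agent.Lib.CurveTensor
import Groth.Agent.S0927
import Groth.Agent.SurfRR.FiniteInter
import Groth.Agent.Big.Cartier
import Groth.Agent.InvX.Tensor
import Groth.Agent.H23.PicMul
import Groth.Agent.PnEuler.Coh

/-!
# Jets of sections of an invertible module along a subscheme at a point
-/

set_option autoImplicit false
set_option linter.style.haveILetI false
set_option linter.unusedSectionVars false
set_option backward.isDefEq.respectTransparency false
set_option backward.isDefEq.respectTransparency.types false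
set_option maxHeartbeats 400000

universe u

open CategoryTheory CategoryTheory.Limits AlgebraicGeometry TopologicalSpace Opposite
open scoped TensorProduct
open Groth.Agent.PnCoh.Finite (mapLin)

noncomputable section

namespace Groth.Agent.BlowCoh.Jets

open Groth.Agent

theorem lTensor_mkQ_eq_zero_iff {R : Type u} [CommRing R] {M N Q : Type u} [AddCommGroup M] [Module R M]
    [AddCommGroup N] [Module R N] [AddCommGroup Q] [Module R Q] {g : M} (hg : Function.Bijective fun r : R => r • g)
    {o : N} (ho : Function.Bijective fun r : R => r • o)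
    (ψ : M ≃ₗ[R] M ⊗[R] N) (q : N →ₗ[R] Q) (a : R) :
    LinearMap.lTensor M q (ψ (a • g)) = 0 ↔ q (a • o) = 0 := by
  let b : R ≃ₗ[R] M := LinearEquiv.ofBijective (LinearMap.toSpanSingleton R M g) hg
  let c : R ≃ₗ[R] N := LinearEquiv.ofBijective (LinearMap.toSpanSingleton R N o) ho
  let e : M ⊗[R] Q ≃ₗ[R] Q := (TensorProduct.congr b.symm (LinearEquiv.refl R Q)).trans (TensorProduct.lid R Q)
  let E : M ⊗[R] N ≃ₗ[R] N := (TensorProduct.congr b.symm (LinearEquiv.refl R N)).trans (TensorProduct.lid R N)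
  have hcomm : ∀ z, e (LinearMap.lTensor M q z) = q (E z) := fun z => by
    induction z using TensorProduct.induction_on with
    | zero => simp
    | tmul x r => exact (map_smul q (b.symm x) r).symm
    | add x y hx hy => rw [map_add, map_add, hx, hy, map_add, map_add]
  have hu : IsUnit (c.symm (E (ψ g))) := by
    obtain ⟨r, hr⟩ := ((ψ.trans E).trans c.symm).surjective 1
    obtain ⟨s, hs⟩ := hg.2 r
    refine IsUnit.of_mul_eq_one s ?_
    rw [mul_comm, ← smul_eq_mul, ← map_smul c.symm, ← map_smul E, ← map_smul ψ, show s • g = r from hs]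
    exact hr
  have h1 : E (ψ (a • g)) = c.symm (E (ψ g)) • (a • o) := by
    rw [smul_smul, mul_comm, ← smul_smul]
    show _ = a • c (c.symm (E (ψ g)))
    rw [LinearEquiv.apply_symm_apply, map_smul ψ, map_smul E]
  rw [← e.map_eq_zero_iff, hcomm, h1, map_smul q]
  exact hu.smul_eq_zero

variable {X : Scheme.{u}} (T : X.Modules) (J : X.IdealSheafData)

/-- `T ≅ T ⊗ O`. -/
def unitIso : T ≅ (DCoh.tensorBi.obj T).obj (Coh.structureModule X) :=
  (CurveTensor.structureTensorIso T).symm ≪≫ CurveTensor.commIso (Coh.structureModule X) T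

/-- The restriction of an invertible module to the subscheme. -/
def theta : T ⟶ (DCoh.tensorBi.obj T).obj (ClSub.quotMod J) :=
  (unitIso T).hom ≫ (DCoh.tensorBi.obj T).map (ClSub.toSubscheme J)

/-- The unit germ. -/
abbrev oneGerm (x : X) : ParShLib.stk (Coh.structureModule X) x :=
  (Coh.structureModule X).presheaf.germ ⊤ x trivial (1 : Γ(X, ⊤))

theorem bijective_smul_oneGerm (x : X) :
    Function.Bijective fun r : X.presheaf.stalk x => r • oneGerm x := by
  refine InvX.IsFrame.germ_bijective (M := Coh.structureModule X) (U := ⊤) (e := (1 : Γ(X, ⊤))) (fun V h => ?_)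
    (trivial : x ∈ (⊤ : X.Opens))
  have he : (fun r : Γ(X, V) => r • AModX.res (Coh.structureModule X) h (1 : Γ(X, ⊤))) = id := funext fun r => by
    show r * (X.presheaf.map (homOfLE h).op (1 : Γ(X, ⊤))) = r
    rw [map_one, mul_one]
  exact (congrArg Function.Bijective he).mpr Function.bijective_id

theorem stkMap_toSubscheme_one (x : X) (r : X.presheaf.stalk x) :
    ParShLib.stkMap (ClSub.toSubscheme J) x (r • oneGerm x) = SurfRR.FiniteInter.toStalk J x r := by
  rw [map_smul, SurfRR.FiniteInter.toStalk, LinearMap.toSpanSingleton_apply]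
  refine congrArg (r • ·) ((ParShLib.stkMap_germ (ClSub.toSubscheme J) (U := (⊤ : X.Opens)) trivial _).trans ?_)
  exact congrArg ((ClSub.quotMod J).presheaf.germ ⊤ x trivial) (map_one (J.subschemeι.app ⊤).hom)

theorem stkMap_toSubscheme_eq_zero_iff (x : X) (r : X.presheaf.stalk x) :
    ParShLib.stkMap (ClSub.toSubscheme J) x (r • oneGerm x) = 0 ↔ r ∈ Div21Lib.stI J x := by
  rw [← SurfRR.FiniteInter.ker_toStalk J x, LinearMap.mem_ker, stkMap_toSubscheme_one]

theorem surjective_stkMap_toSubscheme (x : X) : Function.Surjective (ParShLib.stkMap (ClSub.toSubscheme J) x) := by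
  intro q
  obtain ⟨r, hr⟩ := SurfRR.FiniteInter.toStalk_surjective J x q
  exact ⟨r • oneGerm x, (stkMap_toSubscheme_one J x r).trans hr⟩

/-- The stalk of `T ≅ T ⊗ O`. -/
def unitStalk (x : X) : ParShLib.stk T x ≃ₗ[X.presheaf.stalk x]
    ParShLib.stk T x ⊗[X.presheaf.stalk x] ParShLib.stk (Coh.structureModule X) x :=
  (((DerSch.stalkFunctor X x).mapIso (unitIso T)) ≪≫
    (KFlatLib.stalkTensorLeftIso T x).app _).toLinearEquiv

theorem stalk_theta (x : X) (m : ParShLib.stk T x) :
    ((KFlatLib.stalkTensorLeftIso T x).app (ClSub.quotMod J)).toLinearEquiv (ParShLib.stkMap (theta T J) x m) =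
      LinearMap.lTensor (ParShLib.stk T x) (ParShLib.stkMap (ClSub.toSubscheme J) x) (unitStalk T x m) := by
  have h := (KFlatLib.stalkTensorLeftIso T x).hom.naturality (ClSub.toSubscheme J)
  have h2 : ParShLib.stkMap (theta T J) x m =
      ParShLib.stkMap ((DCoh.tensorBi.obj T).map (ClSub.toSubscheme J)) x (ParShLib.stkMap (unitIso T).hom x m) :=
    ConcreteCategory.congr_hom ((DerSch.stalkFunctor X x).map_comp (unitIso T).hom
      ((DCoh.tensorBi.obj T).map (ClSub.toSubscheme J))) m
  rw [h2]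
  exact ConcreteCategory.congr_hom h (ParShLib.stkMap (unitIso T).hom x m)

variable {T}

theorem stkMap_theta_eq_zero_iff {x : X} {g : ParShLib.stk T x} (hg : Function.Bijective fun r : X.presheaf.stalk x => r • g)
    (a : X.presheaf.stalk x) : ParShLib.stkMap (theta T J) x (a • g) = 0 ↔ a ∈ Div21Lib.stI J x := by
  refine Iff.trans ?_ (stkMap_toSubscheme_eq_zero_iff J x a)
  refine Iff.trans ?_ (lTensor_mkQ_eq_zero_iff hg (bijective_smul_oneGerm x) (unitStalk T x) _ a)
  rw [← stalk_theta]
  exact (LinearEquiv.map_eq_zero_iff _).symm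

theorem stkMap_theta_surjective (x : X) : Function.Surjective (ParShLib.stkMap (theta T J) x) := by
  intro z
  let L := ((KFlatLib.stalkTensorLeftIso T x).app (ClSub.quotMod J)).toLinearEquiv
  obtain ⟨w, hw⟩ := LinearMap.lTensor_surjective (ParShLib.stk T x) (surjective_stkMap_toSubscheme J x) (L z)
  obtain ⟨m, rfl⟩ := (unitStalk T x).surjective w
  exact ⟨m, L.injective ((stalk_theta T J x m).trans hw)⟩

section Coh

variable {J} (k : Type u) [Field k] [X.Over (Spec (CommRingCat.of k))] [IsProper (X ↘ Spec (CommRingCat.of k))]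
  (hT : PicF.IsInvertible T) {p : X} (hp : IsClosed ({p} : Set X)) (hJ : (J.support : Set X) ⊆ {p})

include hp hJ

theorem closed_support (z : X) (hz : z ∈ CohB1.support ((DCoh.tensorBi.obj T).obj (ClSub.quotMod J))) :
    IsClosed ({z} : Set X) :=
  Set.mem_singleton_iff.1 (hJ (Big.support_quotMod_subset J (CurveTensor.support_tensor_subset hz))) ▸ hp

include hT k

theorem isCoh_quot : Coh.IsCoh ((DCoh.tensorBi.obj T).obj (ClSub.quotMod J)) := by
  haveI := CurveCohLib.isNoetherian_of_proper (k := k) (X := X)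
  exact CurveTensor.isCoh_tensor (H23.PullPush.isFinLocFree_of_isInvertible hT) (ParShLib.isCoh_quotMod J)

theorem subsingleton_quot (q : ℕ) (hq : 1 ≤ q) :
    Subsingleton (Coh.HH X ((DCoh.tensorBi.obj T).obj (ClSub.quotMod J)) q) := by
  haveI := CurveCohLib.isNoetherian_of_proper (k := k) (X := X)
  exact S0047.result X _ (isCoh_quot k hT hp hJ) (closed_support hp hJ) q hq

/-- The global sections of the restriction are the stalk at the point. -/
theorem exists_h0_stalk : letI := CurveCohLib.stalkModuleK k ((DCoh.tensorBi.obj T).obj (ClSub.quotMod J)) p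
    ∃ e : Coh.HH X ((DCoh.tensorBi.obj T).obj (ClSub.quotMod J)) 0 ≃ₗ[k]
      ((DCoh.tensorBi.obj T).obj (ClSub.quotMod J)).presheaf.stalk p,
      ∀ t : Coh.HH X T 0, e (mapLin k (theta T J) 0 t) = ParShLib.stkMap (theta T J) p
        (T.presheaf.germ ⊤ p trivial (Sheaf.H.equiv₀ (Coh.toAb T) isTerminalTop t : Γ(T, ⊤))) := by
  classical
  haveI := CurveCohLib.isNoetherian_of_proper (k := k) (X := X)
  letI := fun x : X => CurveCohLib.stalkModuleK k ((DCoh.tensorBi.obj T).obj (ClSub.quotMod J)) x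
  obtain ⟨e, he⟩ := CurveCohLib.exists_h0Equiv (k := k) (isCoh_quot k hT hp hJ) (closed_support hp hJ) {p}
    fun z hz => by
      rw [Finset.coe_singleton]
      exact hJ (Big.support_quotMod_subset J (CurveTensor.support_tensor_subset hz))
  let π : (∀ x : ({p} : Finset X), ((DCoh.tensorBi.obj T).obj (ClSub.quotMod J)).presheaf.stalk x.1) ≃ₗ[k]
      ((DCoh.tensorBi.obj T).obj (ClSub.quotMod J)).presheaf.stalk p :=
    { LinearMap.proj (⟨p, Finset.mem_singleton_self p⟩ : ({p} : Finset X)) with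
      invFun := fun v x => (Finset.mem_singleton.1 x.2).symm ▸ v
      left_inv := fun f => funext fun ⟨x, hx⟩ => by
        obtain rfl := Finset.mem_singleton.1 hx
        rfl
      right_inv := fun _ => rfl }
  refine ⟨e.trans π, fun t => ?_⟩
  show e (mapLin k (theta T J) 0 t) ⟨p, Finset.mem_singleton_self p⟩ = _
  rw [he]
  refine Eq.trans ?_ (ParShLib.stkMap_germ (theta T J) (U := (⊤ : X.Opens)) trivial _).symm
  refine congrArg (((DCoh.tensorBi.obj T).obj (ClSub.quotMod J)).presheaf.germ ⊤ p trivial) ?_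
  exact (Sheaf.H.equiv₀_naturality isTerminalTop ((QCoh.toAbFunctor X).map (theta T J)) t).symm

theorem mapLin_theta_eq_zero_iff {U : X.Opens} (hpU : p ∈ U) {e : Γ(T, U)} (he : InvX.IsFrame e)
    (t : Coh.HH X T 0) (a : Γ(X, U))
    (ht : AModX.res T (le_top : U ≤ ⊤) (Sheaf.H.equiv₀ (Coh.toAb T) isTerminalTop t : Γ(T, ⊤)) = a • e) :
    mapLin k (theta T J) 0 t = 0 ↔ X.presheaf.germ U p hpU a ∈ Div21Lib.stI J p := by
  letI := CurveCohLib.stalkModuleK k ((DCoh.tensorBi.obj T).obj (ClSub.quotMod J)) p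
  obtain ⟨l, hl⟩ := exists_h0_stalk k hT hp hJ
  rw [← l.map_eq_zero_iff, hl,
    ← T.presheaf.germ_res_apply (homOfLE (le_top : U ≤ ⊤)) p hpU _]
  erw [ht]
  rw [QCoh.germ_smul']
  exact stkMap_theta_eq_zero_iff J (he.germ_bijective hpU) _

theorem surjective_mapLin_theta {U : X.Opens} (hpU : p ∈ U) {e : Γ(T, U)} (he : InvX.IsFrame e)
    (h : ∀ r : X.presheaf.stalk p, ∃ (t : Coh.HH X T 0) (a : Γ(X, U)),
      AModX.res T (le_top : U ≤ ⊤) (Sheaf.H.equiv₀ (Coh.toAb T) isTerminalTop t : Γ(T, ⊤)) = a • e ∧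
        X.presheaf.germ U p hpU a - r ∈ Div21Lib.stI J p) :
    Function.Surjective (mapLin k (theta T J) 0) := by
  letI := CurveCohLib.stalkModuleK k ((DCoh.tensorBi.obj T).obj (ClSub.quotMod J)) p
  obtain ⟨l, hl⟩ := exists_h0_stalk k hT hp hJ
  intro z
  obtain ⟨m, hm⟩ := stkMap_theta_surjective J p (l z)
  obtain ⟨r, hr⟩ := (he.germ_bijective hpU).2 m
  obtain ⟨t, a, ht, hmem⟩ := h r
  refine ⟨t, l.injective ?_⟩
  rw [hl, ← hm, ← T.presheaf.germ_res_apply (homOfLE (le_top : U ≤ ⊤)) p hpU _]
  erw [ht]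
  rw [QCoh.germ_smul', ← hr, ← sub_eq_zero, ← map_sub, ← sub_smul]
  exact (stkMap_theta_eq_zero_iff J (he.germ_bijective hpU) _).2 hmem

end Coh

end Groth.Agent.BlowCoh.Jets
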