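import Groth.Agent.BlowCoh.PnPoint
import Groth.Agent.BlowCoh.Jets
import Groth.Agent.TwistX.Global
import Groth.Agent.PnCoh.TwistH0
import Groth.Agent.PnCoh.Finite.TwistInv
import Groth.Agent.PnCoh.Chow.Proper
import Groth.Agent.S0843
import Groth.Agent.S0844
import Groth.Agent.S4466

/-!
# Jets of homogeneous forms at a closed point of projective space
-/

set_option autoImplicit false
set_option linter.style.haveILetI false
set_option linter.unusedSectionVars false
set_option backward.isDefEq.respectTransparency false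
set_option backward.isDefEq.respectTransparency.types false
set_option maxHeartbeats 400000

universe u

open CategoryTheory CategoryTheory.Limits AlgebraicGeometry TopologicalSpace Opposite
open MvPolynomial
open Groth.Agent.PnCoh.Finite (mapLin deltaLin)

noncomputable section

attribute [local instance] MvPolynomial.gradedAlgebra

namespace Groth.Agent.BlowCoh

open Groth.Agent

variable {n : ℕ} {k : Type u} [Field k]

local notation "𝒜" => CohB1.polyGrading n k
local notation "Pn" => CohB1.ProjSpace n k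
local notation "Tw" => Twist.twistProjSpace n k

instance isProper_Pn : IsProper (Pn ↘ Spec (CommRingCat.of k)) := PnCoh.Chow.isProper_toSpec n k

instance isLocallyNoetherian_Pn : IsLocallyNoetherian Pn :=
  LocallyOfFiniteType.isLocallyNoetherian (Pn ↘ Spec (CommRingCat.of k))

theorem isInvertible_Tw (d : ℤ) : PicF.IsInvertible (Tw d) :=
  PnCoh.Finite.isInvertible_twist (fun j : ULift.{u} (Fin (n + 1)) => MvPolynomial.X j.down)
    (fun j => H6PnSm.X_mem_one n k j.down) (by
      refine top_le_iff.1 fun x _ => ?_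
      obtain ⟨i, hi⟩ := mem_Dpl_cases x
      exact Opens.mem_iSup.2 ⟨ULift.up i, hi⟩) d

theorem shiftHom_totalDegree_le (i : Fin (n + 1)) (w : Fin n → k) {c : ℕ} {a : MvPolynomial (Fin (n + 1)) k}
    (ha : a.IsHomogeneous c) : (shiftHom i w a).totalDegree ≤ c := by
  classical
  rw [a.as_sum, map_sum]
  refine MvPolynomial.totalDegree_finsetSum_le fun m hm => ?_
  rw [shiftHom, MvPolynomial.eval₂Hom_monomial]
  refine (MvPolynomial.totalDegree_mul _ _).trans ?_
  rw [MvPolynomial.totalDegree_C, zero_add]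
  refine (MvPolynomial.totalDegree_finsetProd _ _).trans ?_
  have hdeg : ∑ j ∈ m.support, m j = c := by
    have := ha (MvPolynomial.mem_support_iff.1 hm)
    rwa [Finsupp.weight_apply, Finsupp.sum, Finset.sum_congr rfl fun j _ => (by simp : m j • (1 : Fin (n+1) → ℕ) j = m j)] at this
  rw [← hdeg]
  refine Finset.sum_le_sum fun j _ => (MvPolynomial.totalDegree_pow _ _).trans ?_
  refine (Nat.mul_le_mul_left _ (?_ : _ ≤ 1)).trans (mul_one _).le
  induction j using Fin.succAboveCases i with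
  | x => simp
  | p m => rw [Fin.insertNth_apply_succAbove]
           exact (MvPolynomial.totalDegree_add _ _).trans (by simp [MvPolynomial.totalDegree_X])

/-- Polynomials of degree at most `c` are forms of degree `c` in the chart. -/
theorem exists_form (i : Fin (n + 1)) (w : Fin n → k) {c : ℕ} {q : MvPolynomial (Fin n) k} (hq : q.totalDegree ≤ c) :
    ∃ a : MvPolynomial (Fin (n + 1)) k, a.IsHomogeneous c ∧ shiftHom i w a = q := by
  classical
  refine ⟨∑ m ∈ q.support, C (q.coeff m) *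
    ((∏ j, (X (i.succAbove j) - C (w j) * X i) ^ m j) * X i ^ (c - m.degree)), ?_, ?_⟩
  · refine MvPolynomial.IsHomogeneous.sum _ _ _ fun m hm => ?_
    have hm' : m.degree ≤ c := le_trans (by
      rw [Finsupp.degree_apply]
      exact MvPolynomial.le_totalDegree hm) hq
    have h1 : (∏ j, (X (i.succAbove j) - C (w j) * X i) ^ m j : MvPolynomial (Fin (n + 1)) k).IsHomogeneous m.degree := by
      rw [Finsupp.degree_eq_sum]
      refine MvPolynomial.IsHomogeneous.prod _ _ _ fun j _ => ?_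
      have := ((isHomogeneous_X k (i.succAbove j)).sub ((isHomogeneous_C (Fin (n + 1)) (w j)).mul (isHomogeneous_X k i))).pow (m j)
      simpa using this
    have h2 := (isHomogeneous_C (Fin (n + 1)) (q.coeff m)).mul (h1.mul ((isHomogeneous_X k i).pow (c - m.degree)))
    rw [show 0 + (m.degree + 1 * (c - m.degree)) = c by omega] at h2
    exact h2
  · conv_rhs => rw [q.as_sum]
    rw [map_sum]
    refine Finset.sum_congr rfl fun m _ => ?_
    rw [MvPolynomial.monomial_eq, map_mul, map_mul, map_prod, map_pow, Finsupp.prod_fintype _ _ (fun _ => pow_zero _)]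
    simp [shiftHom]

/-- A polynomial of degree below `b` in the `b`-th power of the variables is zero. -/
theorem eq_zero_of_mem_pow {σ : Type} {q : MvPolynomial σ k} {b : ℕ} (h : q ∈ MvPolynomial.idealOfVars σ k ^ b)
    (hd : q.totalDegree < b) : q = 0 := by
  rw [MvPolynomial.mem_pow_idealOfVars_iff] at h
  refine MvPolynomial.support_eq_empty.1 (Finset.eq_empty_of_forall_notMem fun m hm => ?_)
  have h1 := h m hm
  rw [Finsupp.degree_apply] at h1
  have h2 := MvPolynomial.le_totalDegree hm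
  exact absurd (h1.trans (h2.trans_lt hd).le) (by simp only [Finsupp.sum] at h2; omega)

theorem exists_trunc (q : MvPolynomial (Fin n) k) (b : ℕ) :
    ∃ q' : MvPolynomial (Fin n) k, q'.totalDegree ≤ b - 1 ∧ q - q' ∈ MvPolynomial.idealOfVars (Fin n) k ^ b := by
  classical
  refine ⟨∑ m ∈ q.support.filter (fun m => m.degree < b), monomial m (q.coeff m),
    MvPolynomial.totalDegree_finsetSum_le fun m hm => ?_, ?_⟩
  · refine (MvPolynomial.totalDegree_monomial_le _ _).trans ?_
    have h1 := (Finset.mem_filter.1 hm).2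
    rw [Finsupp.degree_apply] at h1
    simp only [Finsupp.sum, id]
    omega
  · rw [MvPolynomial.mem_pow_idealOfVars_iff']
    intro x hx
    rw [coeff_sub, coeff_sum]
    simp only [coeff_monomial, Finset.sum_ite_eq', Finset.mem_filter, MvPolynomial.mem_support_iff]
    by_cases h0 : q.coeff x = 0
    · simp [h0]
    · simp [h0, hx]

theorem dehom_eq_mk (i : Fin (n + 1)) {c : ℕ} {a : MvPolynomial (Fin (n + 1)) k} (ha : a.IsHomogeneous c) :
    H6PnSm.dehom n k i a = HomogeneousLocalization.Away.mk 𝒜 (H6PnSm.X_mem_one n k i) c a (by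
      rw [smul_eq_mul, mul_one]; exact ha) := by
  refine HomogeneousLocalization.val_injective _ ?_
  have hu : IsUnit (algebraMap (MvPolynomial (Fin (n + 1)) k)
      (Localization (Submonoid.powers (X i : MvPolynomial (Fin (n + 1)) k))) (X i) ^ c) :=
    (IsLocalization.map_units _ (⟨X i, 1, pow_one _⟩ : Submonoid.powers (X i : MvPolynomial (Fin (n + 1)) k))).pow c
  refine hu.mul_left_injective ?_
  show _ * _ = _ * _
  rw [H6PnSm.val_dehom_mul n k i ha, HomogeneousLocalization.Away.val_mk, ← map_pow,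
    ← Localization.mk_one_eq_algebraMap, ← Localization.mk_one_eq_algebraMap, Localization.mk_mul,
    Localization.mk_eq_mk_iff, Localization.r_iff_exists]
  exact ⟨1, by simp [mul_comm]⟩

theorem eq_zero_of_dehom (i : Fin (n + 1)) {c : ℕ} {a : MvPolynomial (Fin (n + 1)) k} (ha : a.IsHomogeneous c)
    (h : H6PnSm.dehom n k i a = 0) : a = 0 := by
  have h1 := H6PnSm.val_dehom_mul n k i ha
  rw [h, HomogeneousLocalization.val_zero, zero_mul] at h1
  exact IsLocalization.injective (Localization (Submonoid.powers (X i : MvPolynomial (Fin (n + 1)) k)))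
    (powers_le_nonZeroDivisors_of_noZeroDivisors (X_ne_zero i)) (h1.symm.trans (map_zero _).symm)

/-- The frame `X_i ^ c`. -/
abbrev frameC (i : Fin (n + 1)) (c : ℕ) : Γ(Tw (c : ℤ), Dpl i) :=
  AModX.res (Tw (c : ℤ)) (le_top : Dpl i ≤ ⊤) (Twist.globalOf 𝒜 ⟨(X i : MvPolynomial (Fin (n + 1)) k) ^ c, by
    have := SetLike.pow_mem_graded c (H6PnSm.X_mem_one n k i)
    rwa [smul_eq_mul, mul_one] at this⟩)

theorem isFrame_frameC (i : Fin (n + 1)) (c : ℕ) : InvX.IsFrame (frameC (k := k) i c) :=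
  TwistX.isFrame_res_globalOf _ fun y h => y.2 (y.1.isPrime.mem_of_pow_mem c h)

theorem res_globalOf_eq (i : Fin (n + 1)) (w : Fin n → k) {c : ℕ} {a : MvPolynomial (Fin (n + 1)) k}
    (ha : a ∈ 𝒜 c) :
    AModX.res (Tw (c : ℤ)) (le_top : Dpl i ≤ ⊤) (Twist.globalOf 𝒜 ⟨a, ha⟩) =
      coordHomW i w (shiftHom i w a) • frameC i c := by
  rw [coordHomW_shiftHom, dehom_eq_mk i ha]
  refine Subtype.ext (funext fun y => Subtype.ext ?_)
  refine Eq.trans ?_ (Twist.coe_smul_val (c : ℤ) y.1 _ _).symm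
  show Localization.mk a 1 = (GrModX.oval 𝒜 ((Proj.awayToSection 𝒜 (X i)).hom _) y).val * Localization.mk (X i ^ c) 1
  rw [GrModX.oval_awayToSection, Localization.mk_mul, Localization.mk_eq_mk_iff, Localization.r_iff_exists]
  exact ⟨1, by simp [mul_comm]⟩

theorem exists_section (c : ℕ) (t : Coh.HH Pn (Tw (c : ℤ)) 0) :
    ∃ (a : MvPolynomial (Fin (n + 1)) k) (ha : a ∈ 𝒜 c),
      (Sheaf.H.equiv₀ (Coh.toAb (Tw (c : ℤ))) isTerminalTop t : Γ(Tw (c : ℤ), ⊤)) = Twist.globalOf 𝒜 ⟨a, ha⟩ := by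
  obtain ⟨⟨a, ha⟩, h⟩ := PnCoh.exists_globalOf_eq (ι := Fin (n + 1)) (R := k) (d := c)
    (Sheaf.H.equiv₀ (Coh.toAb (Tw (c : ℤ))) isTerminalTop t)
  exact ⟨a, ha, h.symm⟩

section Stalk

variable {Y : Scheme.{u}} (U : Y.affineOpens) {p : Y} (hpU : p ∈ U.1)
  [(U.2.primeIdealOf ⟨p, hpU⟩).asIdeal.IsMaximal] (b : ℕ)

theorem exists_inv_mod {M : Ideal Γ(Y, U.1)} [hM : M.IsMaximal] (b : ℕ) {s : Γ(Y, U.1)} (hs : s ∉ M) :
    ∃ v m, m ∈ M ^ b ∧ v * s + m = 1 := by
  obtain ⟨y, i, hi, he⟩ := hM.exists_inv hs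
  have h : M ^ b ⊔ Ideal.span {s} = ⊤ := Ideal.pow_sup_eq_top ((Ideal.eq_top_iff_one _).2 (he ▸
    add_mem (Ideal.mem_sup_right (Ideal.mul_mem_left _ y (Ideal.mem_span_singleton_self s))) (Ideal.mem_sup_left hi)))
  obtain ⟨m, hm, z, hz, hmz⟩ := Submodule.mem_sup.1 ((Ideal.eq_top_iff_one _).1 h)
  obtain ⟨v, rfl⟩ := Ideal.mem_span_singleton'.1 hz
  exact ⟨v, m, hm, (add_comm _ _).trans hmz⟩

theorem comap_germ_map_pow :
    (((U.2.primeIdealOf ⟨p, hpU⟩).asIdeal ^ b).map (Y.presheaf.germ U.1 p hpU).hom).comap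
      (Y.presheaf.germ U.1 p hpU).hom = (U.2.primeIdealOf ⟨p, hpU⟩).asIdeal ^ b := by
  letI := Y.presheaf.algebra_section_stalk ⟨p, hpU⟩
  haveI := U.2.isLocalization_stalk ⟨p, hpU⟩
  refine le_antisymm (fun x hx => ?_) Ideal.le_comap_map
  rw [Ideal.mem_comap] at hx
  obtain ⟨s, hs, hsx⟩ := (IsLocalization.algebraMap_mem_map_algebraMap_iff
    (U.2.primeIdealOf ⟨p, hpU⟩).asIdeal.primeCompl (Y.presheaf.stalk p) _ x).1 hx
  obtain ⟨v, m, hm, he⟩ := exists_inv_mod U (M := (U.2.primeIdealOf ⟨p, hpU⟩).asIdeal) b hs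
  rw [← mul_one x, ← he, mul_add, mul_left_comm, mul_comm x s]
  exact add_mem (Ideal.mul_mem_left _ _ hsx) (Ideal.mul_mem_left _ _ hm)

theorem exists_germ_sub_mem (r : Y.presheaf.stalk p) :
    ∃ x : Γ(Y, U.1), Y.presheaf.germ U.1 p hpU x - r ∈
      ((U.2.primeIdealOf ⟨p, hpU⟩).asIdeal ^ b).map (Y.presheaf.germ U.1 p hpU).hom := by
  letI := Y.presheaf.algebra_section_stalk ⟨p, hpU⟩
  haveI := U.2.isLocalization_stalk ⟨p, hpU⟩
  obtain ⟨⟨x, s⟩, hx⟩ := IsLocalization.surj (U.2.primeIdealOf ⟨p, hpU⟩).asIdeal.primeCompl r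
  obtain ⟨v, m, hm, he⟩ := exists_inv_mod U (M := (U.2.primeIdealOf ⟨p, hpU⟩).asIdeal) b s.2
  refine ⟨v * x, ?_⟩
  have h1 : algebraMap Γ(Y, U.1) (Y.presheaf.stalk p) (v * x) - r =
      -(r * algebraMap Γ(Y, U.1) (Y.presheaf.stalk p) m) := by
    have h2 := congrArg (algebraMap Γ(Y, U.1) (Y.presheaf.stalk p)) he
    rw [map_add, map_mul, map_one] at h2
    rw [map_mul, ← hx]
    linear_combination r * h2
  show algebraMap Γ(Y, U.1) (Y.presheaf.stalk p) (v * x) - r ∈ _
  rw [h1]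
  exact neg_mem (Ideal.mul_mem_left _ _ (Ideal.mem_map_of_mem _ hm))

end Stalk

variable [IsAlgClosed k] {p : ↥(CohB1.ProjSpace n k)} (hp : IsClosed ({p} : Set ↥(CohB1.ProjSpace n k)))

/-- The powers of the ideal of the point. -/
abbrev ptPow (b : ℕ) : (Pn).IdealSheafData := (Scheme.IdealSheafData.vanishingIdeal ⟨{p}, hp⟩) ^ b

theorem support_ptPow (b : ℕ) : ((ptPow hp b).support : Set ↥Pn) ⊆ {p} := by
  rcases Nat.eq_zero_or_pos b with rfl | hb
  · intro x hx; simp [ptPow] at hx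
  · rw [ptPow, Scheme.IdealSheafData.support_pow (hn := hb.ne'), Scheme.IdealSheafData.coe_support_vanishingIdeal]
    rfl

theorem stI_ptPow (U : (Pn).affineOpens) (hpU : p ∈ U.1) (b : ℕ) :
    Div21Lib.stI (ptPow hp b) p =
      ((U.2.primeIdealOf ⟨p, hpU⟩).asIdeal ^ b).map ((Pn).presheaf.germ U.1 p hpU).hom := by
  rw [Div21Lib.stI_eq _ U hpU, ptPow, Scheme.IdealSheafData.ideal_pow,
    Pi.pow_apply, vanishingIdeal_ideal_of_inter_eq _ U hpU rfl fun z hz _ => hz]

/-- Forms of degree below `b` are determined by their jets of order `b`. -/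
theorem injective_theta {c b : ℕ} (h : c < b) :
    Function.Injective (mapLin k (Jets.theta (Tw (c : ℤ)) (ptPow hp b)) 0) := by
  refine (injective_iff_map_eq_zero _).2 fun t ht => ?_
  obtain ⟨i, hpi, w, hw⟩ := exists_coord hp
  haveI := (isAffineOpen_Dpl (k := k) i).primeIdealOf_isMaximal_of_isClosed ⟨p, hpi⟩ hp
  obtain ⟨a, ha, hta⟩ := exists_section c t
  have hres := (congrArg (AModX.res (Tw (c : ℤ)) (le_top : Dpl i ≤ ⊤)) hta).trans (res_globalOf_eq i w ha)
  have h1 := (Jets.mapLin_theta_eq_zero_iff k (isInvertible_Tw _) hp (support_ptPow hp b) hpi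
    (isFrame_frameC i c) t _ hres).1 ht
  rw [stI_ptPow hp ⟨_, isAffineOpen_Dpl i⟩ hpi b] at h1
  replace h1 := (comap_germ_map_pow ⟨_, isAffineOpen_Dpl i⟩ hpi b).le (Ideal.mem_comap.2 h1)
  rw [show ((isAffineOpen_Dpl (k := k) i).primeIdealOf ⟨p, hpi⟩).asIdeal = _ from hw, ← Ideal.map_pow,
    ← Ideal.mem_comap, Ideal.comap_map_of_bijective _ (bijective_coordHomW i w)] at h1
  have h2 := eq_zero_of_mem_pow h1 ((shiftHom_totalDegree_le i w ha).trans_lt h)
  have h3 : H6PnSm.dehom n k i a = 0 := by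
    haveI := isIso_awayToSection (k := k) i
    apply (ConcreteCategory.bijective_of_isIso (Proj.awayToSection 𝒜 (X i))).1
    rw [← coordHomW_shiftHom i w, h2, map_zero, map_zero]
  have h4 := eq_zero_of_dehom i ha h3
  subst h4
  refine (Sheaf.H.equiv₀ (Coh.toAb (Tw (c : ℤ))) isTerminalTop).injective ?_
  rw [map_zero]
  exact hta.trans (Subtype.ext (funext fun y => Subtype.ext (Localization.mk_zero _)))

/-- Forms of degree at least `b - 1` realise every jet of order `b`. -/
theorem surjective_theta {c b : ℕ} (h : b ≤ c + 1) :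
    Function.Surjective (mapLin k (Jets.theta (Tw (c : ℤ)) (ptPow hp b)) 0) := by
  obtain ⟨i, hpi, w, hw⟩ := exists_coord hp
  haveI := (isAffineOpen_Dpl (k := k) i).primeIdealOf_isMaximal_of_isClosed ⟨p, hpi⟩ hp
  refine Jets.surjective_mapLin_theta k (isInvertible_Tw _) hp (support_ptPow hp b) hpi (isFrame_frameC i c) fun r => ?_
  obtain ⟨x, hx⟩ := exists_germ_sub_mem ⟨_, isAffineOpen_Dpl i⟩ hpi b r
  obtain ⟨q, rfl⟩ := (bijective_coordHomW i w).2 x
  obtain ⟨q', hq', hmem⟩ := exists_trunc q b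
  obtain ⟨a, ha, rfl⟩ := exists_form i w (hq'.trans (show b - 1 ≤ c by omega))
  refine ⟨(Sheaf.H.equiv₀ (Coh.toAb (Tw (c : ℤ))) isTerminalTop).symm (Twist.globalOf 𝒜 ⟨a, ha⟩),
    coordHomW i w (shiftHom i w a), ?_, ?_⟩
  · rw [AddEquiv.apply_symm_apply]
    exact res_globalOf_eq i w ha
  · rw [stI_ptPow hp ⟨_, isAffineOpen_Dpl i⟩ hpi b]
    have h1 : coordHomW i w (shiftHom i w a) - coordHomW i w q ∈
        ((isAffineOpen_Dpl i).primeIdealOf ⟨p, hpi⟩).asIdeal ^ b := by
      rw [hw, ← Ideal.map_pow, ← map_sub]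
      exact Ideal.mem_map_of_mem _ (by simpa [neg_sub] using neg_mem hmem)
    have h2 := add_mem (Ideal.mem_map_of_mem ((Pn).presheaf.germ (Dpl i) p hpi).hom h1) hx
    rwa [map_sub, sub_add_sub_cancel] at h2

theorem finrank_h0_Tw (c : ℕ) :
    Module.finrank k (Coh.HH Pn (Tw (c : ℤ)) 0) = (c + n).choose n := by
  obtain ⟨e⟩ := S0843.result k n c
  rw [e.finrank_eq, ← Int.natCast_inj, S4466.finrank_hom k n c, ← Nat.cast_add, Ring.choose_natCast]

end Groth.Agent.BlowCoh
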