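import Groth.Agent.VarDim.Top
import Groth.Agent.BlowUpLib.Glue
import Groth.Agent.ModPairLib.Closure
import Groth.Agent.S10829
import Groth.Agent.BlowCoh.PnJets

/-!
# The dimension of a blow-up of projective space
-/

set_option autoImplicit false
set_option linter.style.haveILetI false
set_option linter.unusedSectionVars false
set_option backward.isDefEq.respectTransparency false
set_option backward.isDefEq.respectTransparency.types false

universe u

open CategoryTheory CategoryTheory.Limits AlgebraicGeometry TopologicalSpace Opposite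

noncomputable section

namespace Groth.Agent.BlowCoh

open Groth.Agent

theorem residueFieldMap_morphismRestrict {X Y : Scheme.{u}} (b : X ⟶ Y) (U : Y.Opens) [IsIso (b ∣_ U)] (x : X)
    (hx : x ∈ b ⁻¹ᵁ U) : IsIso (b.residueFieldMap x) := by
  haveI h1 : IsOpenImmersion ((b ⁻¹ᵁ U).ι ≫ b) := by
    rw [← morphismRestrict_ι]
    infer_instance
  let x' : (b ⁻¹ᵁ U).toScheme := ⟨x, hx⟩
  have h := Scheme.residueFieldMap_comp (b ⁻¹ᵁ U).ι b x'
  haveI : IsIso (((b ⁻¹ᵁ U).ι ≫ b).residueFieldMap x') := inferInstance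
  rw [h] at this
  exact IsIso.of_isIso_comp_right (b.residueFieldMap ((b ⁻¹ᵁ U).ι x')) ((b ⁻¹ᵁ U).ι.residueFieldMap x')

/-- A blow-up of `P^n` has dimension at most `n`. -/
theorem topologicalKrullDim_blow_le {n : ℕ} {k : Type u} [Field k] {X : Scheme.{u}}
    (π : X ⟶ CohB1.ProjSpace n k) [LocallyOfFiniteType π] {C : (CohB1.ProjSpace n k).IdealSheafData}
    (hπ : BlowUp.IsBlowUp π C) : topologicalKrullDim X ≤ n := by
  haveI : IsProper (CohB1.ProjSpace.toSpec n k) := PnCoh.Chow.isProper_toSpec n k
  let f := π ≫ CohB1.ProjSpace.toSpec n k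
  rw [VarDim.topologicalKrullDim_eq_iSup_deg f]
  refine iSup_le fun x => ?_
  obtain ⟨η, hη, hsp⟩ := ModPairLib.exists_specializes_mem_interior hπ.1 x
  have hU : π η ∈ ModPair.interior C := by
    intro hmem
    refine hη ?_
    show η ∈ ((C.comap π).support : Set X)
    rw [Scheme.IdealSheafData.support_comap]
    exact hmem
  haveI := BlowUpLib.isIso_restrict hπ (ModPair.interior C) le_rfl
  haveI := residueFieldMap_morphismRestrict π (ModPair.interior C) η hU
  have h1 : VarDim.deg f η = VarDim.deg (CohB1.ProjSpace.toSpec n k) (π η) := VarDim.deg_comp _ π η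
  have h2 : ((VarDim.deg (CohB1.ProjSpace.toSpec n k) (π η) : ℕ∞) : WithBot ℕ∞) ≤ (n : WithBot ℕ∞) := by
    rw [← S10829.result k n, VarDim.topologicalKrullDim_eq_iSup_deg (CohB1.ProjSpace.toSpec n k)]
    exact le_iSup_of_le (π η) le_rfl
  refine le_trans ?_ h2
  rw [← h1]
  exact_mod_cast VarDim.deg_le_of_specializes f hsp

end Groth.Agent.BlowCoh
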