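import Groth.Agent.BlowCoh.Global
import Groth.Agent.SurfRR.Divisors
import Groth.Agent.ExtShX.ClosedHom
import Groth.Agent.RlimModLib.Sections
import Groth.Agent.QCoh.HHExact

/-!
# Higher direct images of the twists of the exceptional divisor
-/

set_option autoImplicit false
set_option linter.style.haveILetI false
set_option linter.unusedSectionVars false
set_option backward.isDefEq.respectTransparency false
set_option backward.isDefEq.respectTransparency.types false
set_option maxHeartbeats 400000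

universe u

open CategoryTheory CategoryTheory.Limits AlgebraicGeometry TopologicalSpace Opposite
open Groth.Agent.H23.PicMul

noncomputable section

namespace Groth.Agent.BlowCoh

open Groth.Agent

variable {X : Scheme.{u}}

/-- The cohomology on an open of the restriction of an invertible module to a divisor. -/
theorem subsingleton_HU_divisor {K : X.IdealSheafData} {M A : X.Modules} (hM : PicF.IsInvertible M)
    (e : CohB1.tensorMod M (ClSub.idealMod K) ≅ A) (W : X.Opens) (q : ℕ)
    (hA : Subsingleton (CohTop.HU (X := X.toPresheafedSpace.carrier) (QCoh.abSheaf A) (q + 2) W))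
    (hM' : Subsingleton (CohTop.HU (X := X.toPresheafedSpace.carrier) (QCoh.abSheaf M) (q + 1) W)) :
    Subsingleton (CohTop.HU (X := X.toPresheafedSpace.carrier) (QCoh.abSheaf
      ((Scheme.Modules.pushforward K.subschemeι).obj ((Scheme.Modules.pullback K.subschemeι).obj M)))
      (q + 1) W) := by
  have hT := CurveTensor.shortExact_tensor (H23.PullPush.isFinLocFree_of_isInvertible hM)
    (ClSub.idealModι K) (ClSub.toSubscheme K) (kernel.condition _) (Big.shortExact_ideal K)
  obtain ⟨u⟩ := H23.PicMul.unit M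
  let F := QCoh.toAbFunctor X
  have h1 : Subsingleton (CohTop.HU (X := X.toPresheafedSpace.carrier)
      (F.obj ((DCoh.tensorBi.obj M).obj (ClSub.idealMod K))) (q + 2) W) :=
    RlimModLib.subsingleton_HU_of_iso (F.mapIso e.symm) W (q + 2) hA
  have h2 : Subsingleton (CohTop.HU (X := X.toPresheafedSpace.carrier)
      (F.obj ((DCoh.tensorBi.obj M).obj (Coh.structureModule X))) (q + 1) W) :=
    RlimModLib.subsingleton_HU_of_iso (F.mapIso u.symm) W (q + 1) hM'
  have h3 := SiteBase.subsingleton_HU_X₃ (QCoh.toAb_shortExact hT) W (q + 1) h1 h2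
  let Z := K.subscheme
  let ι := K.subschemeι
  obtain ⟨τ⟩ := ExtShX.ClosedHom.projection ι (Coh.structureModule Z)
  obtain ⟨c⟩ := H23.PicMul.comm M ((Scheme.Modules.pushforward ι).obj (Coh.structureModule Z))
  obtain ⟨c'⟩ := H23.PicMul.comm ((Scheme.Modules.pushforward ι).obj (Coh.structureModule Z)) M
  obtain ⟨u'⟩ := H23.PicMul.unit ((Scheme.Modules.pullback ι).obj M)
  exact RlimModLib.subsingleton_HU_of_iso (F.mapIso
    ((Iso.refl _ : CohB1.tensorMod M ((Scheme.Modules.pushforward ι).obj (Coh.structureModule Z)) ≅ _) ≪≫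
      (τ.app M).symm ≪≫ (Scheme.Modules.pushforward ι).mapIso u')) W (q + 1) h3

variable {Y : Scheme.{u}} {σ : X ⟶ Y} {I : Y.IdealSheafData} {d : ℕ}
  (hI : HasGood I d) (hσ : BlowUp.IsBlowUp σ I) (hd : 0 < d)

theorem nonempty_pow_succ {K : X.IdealSheafData} (hK : BlowUp.IsEffCartierIdeal K) (n : ℕ) :
    Nonempty (CohB1.tensorMod (ClSub.idealMod (K ^ n)) (ClSub.idealMod K) ≅ ClSub.idealMod (K ^ (n + 1))) := by
  refine cl_eq_iff.1 ?_
  rw [cl_tensor, pow_succ, SurfRR.cl_idealMod_mul (isEffCartierIdeal_pow hK n) hK]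

include hI hσ hd

theorem isZero_RpushAb_divisor (n p : ℕ) (hp : 1 ≤ p) :
    IsZero ((Coh.RpushAb σ p).obj (Coh.toAb ((Scheme.Modules.pushforward (I.comap σ).subschemeι).obj
      ((Scheme.Modules.pullback (I.comap σ).subschemeι).obj (ClSub.idealMod ((I.comap σ) ^ n)))))) :=
  isZero_RpushAb_of_good hI (fun U ⟨G⟩ q => by
    obtain ⟨e⟩ := nonempty_pow_succ hσ.1 n
    exact subsingleton_HU_divisor (isInvertible_exc_pow hσ n) e (σ ⁻¹ᵁ U.1) q
      (subsingleton_HU_idealMod hσ hd (n + 1) G (q + 1)) (subsingleton_HU_idealMod hσ hd n G q)) p hp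

theorem isZero_RpushAb_divisor_inverse (hd' : 1 < d) {L : X.Modules}
    (hL : ClSub.IsInverseOf L (ClSub.idealMod (I.comap σ))) (p : ℕ) (hp : 1 ≤ p) :
    IsZero ((Coh.RpushAb σ p).obj (Coh.toAb ((Scheme.Modules.pushforward (I.comap σ).subschemeι).obj
      ((Scheme.Modules.pullback (I.comap σ).subschemeι).obj L)))) :=
  isZero_RpushAb_of_good hI (fun U ⟨G⟩ q => by
    have hL1 : ClSub.IsInverseOf L (ClSub.idealMod ((I.comap σ) ^ 1)) := by rw [pow_one]; exact hL
    obtain ⟨e⟩ := hL
    exact subsingleton_HU_divisor (isQCoh_inverse hσ hL1).1 e (σ ⁻¹ᵁ U.1) q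
      (subsingleton_HU_structure hσ hd G (q + 1)) (subsingleton_HU_inverse hσ hd hL1 hd' G q)) p hp

end Groth.Agent.BlowCoh
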