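import Groth.Agent.BlowCoh.Vanish
import Groth.Agent.OmegaLib.IdealMod
import Groth.Agent.TwistFlat.Converse
import Groth.Agent.ModPairLib.Limit
import Groth.Agent.ExtShX.KoszulConormal
import Groth.Agent.PPSheaf.GrCoh

/-!
# The powers of the exceptional ideal and their inverses as modules of the given degree
-/

set_option autoImplicit false
set_option linter.style.haveILetI false
set_option linter.unusedSectionVars false
set_option backward.isDefEq.respectTransparency false
set_option maxHeartbeats 400000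

universe u

open CategoryTheory AlgebraicGeometry TopologicalSpace Opposite
open Groth.Agent.BlowUpLib Groth.Agent.AModX

noncomputable section

namespace Groth.Agent.BlowCoh

open Groth.Agent

theorem isEffCartierIdeal_pow {X : Scheme.{u}} {I : X.IdealSheafData} (h : BlowUp.IsEffCartierIdeal I) (m : ℕ) :
    BlowUp.IsEffCartierIdeal (I ^ m) := fun x => by
  obtain ⟨U, hx, g, hg, hU⟩ := h x
  exact ⟨U, hx, g ^ m, pow_mem hg m, by rw [Scheme.IdealSheafData.ideal_pow, Pi.pow_apply, hU, Ideal.span_singleton_pow]⟩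

variable {A : Type u} [CommRing A] {d : ℕ} {a : Fin d → A} {Y : Scheme.{u}} {f : Y ⟶ Spec (CommRingCat.of A)}
  (Cd : Charts a f) (ha : ∀ i, a i ∈ nonZeroDivisors A) (hE : BlowUp.IsEffCartierIdeal (exc a f))

include Cd in
theorem ideal_pow_eq (i : Fin d) (m : ℕ) {W : Y.affineOpens} (h : W.1 ≤ (Cd.U i).1) :
    (exc a f ^ m).ideal W = Ideal.span {strHom f W.1 (a i) ^ m} := by
  rw [Scheme.IdealSheafData.ideal_pow, Pi.pow_apply, gen_res Cd i h, Ideal.span_singleton_pow]

theorem smul_dlt_sub (m : ℕ) (i : Fin d) :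
    mon a (-((m : ℤ) • dlt i)) * algebraMap A (Lau a) (a i ^ m) = 1 := by
  rw [← mon_smul_dlt, mon_neg]

theorem neg_smul_dlt_mem {k : ℕ} {n : ℤ} {S : Finset (Fin d)} {i : Fin d} (hi : i ∈ S) (m : ℕ) {u : Lau a}
    (hu : u ∈ Lev a k n S) : mon a (-((m : ℤ) • dlt i)) * u ∈ Lev a (k + m) (n - m) S := by
  obtain ⟨x, hx, rfl⟩ := (mem_Lev a).1 hu
  rw [← mul_assoc, ← mon_add]
  refine mon_mem a (fun j _ => ?_) (fun j hj => ?_) ?_ hx
  · simp only [Pi.add_apply, Pi.neg_apply, Pi.smul_apply, negOn, dlt, Pi.single_apply, smul_eq_mul]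
    split_ifs <;> push_cast <;> omega
  · have : j ≠ i := fun h => hj (h ▸ hi)
    simp [negOn, hj, dlt, this]
  · simp only [Pi.add_apply, Pi.neg_apply, Pi.smul_apply, Finset.sum_add_distrib, sum_negOn, smul_eq_mul, dlt,
      Pi.single_apply, mul_ite, mul_one, mul_zero, Finset.sum_neg_distrib, Finset.sum_ite_eq', Finset.mem_univ, if_true]
    omega

theorem smul_dlt_mem {k : ℕ} {n : ℤ} {S : Finset (Fin d)} (i : Fin d) (m : ℕ) {u : Lau a}
    (hu : u ∈ Lev a k n S) : mon a ((m : ℤ) • dlt i) * u ∈ Lev a k (n + m) S := by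
  obtain ⟨x, hx, rfl⟩ := (mem_Lev a).1 hu
  rw [← mul_assoc, ← mon_add]
  refine mon_mem a (fun j _ => ?_) (fun j hj => ?_) ?_ hx
  · simp only [Pi.add_apply, Pi.smul_apply, negOn, dlt, Pi.single_apply, smul_eq_mul]
    split_ifs <;> push_cast <;> omega
  · simp only [Pi.add_apply, Pi.smul_apply, negOn, if_neg hj, dlt, Pi.single_apply, smul_eq_mul]
    split_ifs <;> omega
  · simp only [Pi.add_apply, Pi.smul_apply, Finset.sum_add_distrib, sum_negOn, smul_eq_mul, dlt,
      Pi.single_apply, mul_ite, mul_one, mul_zero, Finset.sum_ite_eq', Finset.mem_univ, if_true]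
    omega

theorem rng_mem {q : ℕ} (σ : Fin (q + 1) → Fin d) (b : Fin (q + 1)) : σ b ∈ rng σ :=
  Finset.mem_image.2 ⟨b, Finset.mem_univ _, rfl⟩

variable [Nonempty (Fin d)]

/-- The powers of the exceptional ideal. -/
def embIdeal (m : ℕ) : Emb Cd (ClSub.idealMod (exc a f ^ m)) (m : ℤ) where
  map U h := (psi Cd ha h).toAddMonoidHom.comp (OmegaSh.idealSect (exc a f ^ m) U)
  map_res U V h hVU v := by
    show psi Cd ha h (OmegaSh.idealSect _ V ((ClSub.idealMod _).presheaf.map (homOfLE hVU).op v)) = _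
    rw [OmegaLib.idealSect_map]
    exact psi_res Cd ha h hVU _
  inj q σ := (psi_injective Cd ha hE σ).comp (OmegaLib.idealSect_injective _ _)
  mem q σ v := by
    have h1 := OmegaLib.idealSect_mem (exc a f ^ m) ⟨Us Cd σ, isAffineOpen_Us Cd hE σ⟩ v
    rw [ideal_pow_eq Cd (σ 0) m (Us_le Cd σ 0), Ideal.mem_span_singleton'] at h1
    obtain ⟨w, hw⟩ := h1
    obtain ⟨k, hk⟩ := psi_mem Cd ha hE σ w
    refine ⟨k, ?_⟩
    have h2 := smul_dlt_mem (σ 0) m hk
    rw [zero_add, mon_smul_dlt, mul_comm, map_pow, ← psi_strHom Cd ha (W0_le_Us Cd σ), ← map_pow, ← map_mul, hw]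
      at h2
    exact h2
  surj q σ k u hu := by
    obtain ⟨w, hw⟩ := exists_psi_eq Cd ha hE σ (k := k + m)
      (u := mon a (-((m : ℤ) • dlt (σ 0))) * u) (by simpa using neg_smul_dlt_mem (rng_mem σ 0) m hu)
    obtain ⟨v, hv⟩ := OmegaLib.exists_of_mem (exc a f ^ m) ⟨Us Cd σ, isAffineOpen_Us Cd hE σ⟩
      (strHom f (Us Cd σ) (a (σ 0)) ^ m * w) (by
        rw [ideal_pow_eq Cd (σ 0) m (Us_le Cd σ 0)]
        exact Ideal.mul_mem_right _ _ (Ideal.mem_span_singleton_self _))
    refine ⟨v, ?_⟩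
    show psi Cd ha _ (OmegaSh.idealSect _ _ v) = u
    rw [hv, map_mul, map_pow, psi_strHom, hw, ← map_pow, ← mul_assoc, mul_comm (algebraMap A (Lau a) _),
      smul_dlt_sub, one_mul]

/-- The structure sheaf. -/
def embO : Emb Cd (Coh.structureModule Y) 0 where
  map U h := (psi Cd ha h).toAddMonoidHom
  map_res U V h hVU v := psi_res Cd ha h hVU v
  inj q σ := psi_injective Cd ha hE σ
  mem q σ v := psi_mem Cd ha hE σ v
  surj q σ k u hu := exists_psi_eq Cd ha hE σ hu

/-- The generator of a power of the exceptional ideal on a chart. -/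
def genSect (m : ℕ) (i : Fin d) : Γ(ClSub.idealMod (exc a f ^ m), (Cd.U i).1) :=
  (OmegaLib.exists_of_mem (exc a f ^ m) (Cd.U i) (strHom f (Cd.U i).1 (a i) ^ m) (by
    rw [ideal_pow_eq Cd i m le_rfl]; exact Ideal.mem_span_singleton_self _)).choose

omit [Nonempty (Fin d)] in
theorem idealSect_genSect (m : ℕ) (i : Fin d) {V : Y.Opens} (hV : V ≤ (Cd.U i).1) :
    OmegaSh.idealSect (exc a f ^ m) V (res (ClSub.idealMod (exc a f ^ m)) hV (genSect Cd m i)) =
      strHom f V (a i) ^ m := by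
  refine (OmegaLib.idealSect_map _ hV _).trans ?_
  have h : OmegaSh.idealSect (exc a f ^ m) (Cd.U i).1 (genSect Cd m i) = strHom f (Cd.U i).1 (a i) ^ m :=
    Exists.choose_spec (OmegaLib.exists_of_mem (exc a f ^ m) (Cd.U i) (strHom f (Cd.U i).1 (a i) ^ m) (by
      rw [ideal_pow_eq Cd i m le_rfl]; exact Ideal.mem_span_singleton_self _))
  rw [h]
  show resR hV _ = _
  rw [map_pow, strHom_res]

include hE in
omit [Nonempty (Fin d)] in
theorem isFrame_genSect (m : ℕ) (i : Fin d) : InvX.IsFrame (genSect Cd m i) := by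
  refine ExtShX.isFrame_of_affine fun V hV hVa => ?_
  have hI := ideal_pow_eq Cd i m (W := ⟨V, hVa⟩) hV
  have hsect : ∀ r : Γ(Y, V), OmegaSh.idealSect (exc a f ^ m) V
      (r • res (ClSub.idealMod (exc a f ^ m)) hV (genSect Cd m i)) = r * strHom f V (a i) ^ m := fun r => by
    rw [OmegaLib.idealSect_smul, idealSect_genSect]
  refine ⟨fun r r' h => ?_, fun z => ?_⟩
  · have h1 := congrArg (OmegaSh.idealSect (exc a f ^ m) V) h
    rw [hsect, hsect] at h1
    exact mul_cancel_right_mem_nonZeroDivisors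
      (ModPairLib.generator_mem_nonZeroDivisors (isEffCartierIdeal_pow hE m) hI) |>.1 h1
  · have h1 := OmegaLib.idealSect_mem (exc a f ^ m) ⟨V, hVa⟩ z
    rw [hI, Ideal.mem_span_singleton'] at h1
    obtain ⟨r, hr⟩ := h1
    exact ⟨r, OmegaLib.idealSect_injective _ _ ((hsect r).trans hr)⟩

section Twist

variable {M : Y.Modules} (m : ℕ) (e : CohB1.tensorMod M (ClSub.idealMod (exc a f ^ m)) ≅ Coh.structureModule Y)

/-- Pairing a section with a generator of the power of the exceptional ideal. -/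
def pair (i : Fin d) {V : Y.Opens} (hV : V ≤ (Cd.U i).1) : Γ(M, V) →+ Γ(Y, V) :=
  (e.hom.app V).hom.comp (AddMonoidHom.mk' (fun s => InvX.tmul s (res (ClSub.idealMod (exc a f ^ m)) hV
    (genSect Cd m i))) fun x y => QCoh.tmS_add_left M (ClSub.idealMod (exc a f ^ m)) x y _)

omit [Nonempty (Fin d)] in
theorem pair_res (i : Fin d) {U V : Y.Opens} (hU : U ≤ (Cd.U i).1) (h : V ≤ U) (s : Γ(M, U)) :
    pair Cd m e i (h.trans hU) (res M h s) = resR h (pair Cd m e i hU s) := by
  show e.hom.app V (InvX.tmul (res M h s) (res _ (h.trans hU) (genSect Cd m i))) = _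
  rw [← res_res hU h (genSect Cd m i), ← InvX.res_tmul, app_res]
  rfl

omit [Nonempty (Fin d)] in
theorem pair_gen (i j : Fin d) {V : Y.Opens} (hi : V ≤ (Cd.U i).1) (hj : V ≤ (Cd.U j).1) (s : Γ(M, V)) :
    strHom f V (a j) ^ m * pair Cd m e i hi s = strHom f V (a i) ^ m * pair Cd m e j hj s := by
  have h : strHom f V (a j) ^ m • res (ClSub.idealMod (exc a f ^ m)) hi (genSect Cd m i) =
      strHom f V (a i) ^ m • res (ClSub.idealMod (exc a f ^ m)) hj (genSect Cd m j) := by
    apply OmegaLib.idealSect_injective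
    rw [OmegaLib.idealSect_smul, OmegaLib.idealSect_smul, idealSect_genSect, idealSect_genSect, mul_comm]
  have h' := congrArg (fun g => e.hom.app V (InvX.tmul s g)) h
  simp only [InvX.tmul_smul_right, Scheme.Modules.Hom.app_smul] at h'
  exact h'

/-- A section in the localisation, by a chart. -/
def tw (i : Fin d) : Γ(M, W0 a f) →+ Lau a :=
  (AddMonoidHom.mulLeft (mon a (-((m : ℤ) • dlt i)))).comp
    ((psi Cd ha (le_refl (W0 a f))).toAddMonoidHom.comp (pair Cd m e i (W0_le Cd i)))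

theorem tw_indep (i j : Fin d) (s : Γ(M, W0 a f)) : tw Cd ha m e i s = tw Cd ha m e j s := by
  have h := congrArg (psi Cd ha (le_refl (W0 a f))) (pair_gen Cd m e i j (W0_le Cd i) (W0_le Cd j) s)
  rw [map_mul, map_mul, map_pow, map_pow, psi_strHom, psi_strHom, ← map_pow, ← map_pow] at h
  show mon a _ * psi Cd ha _ (pair Cd m e i _ s) = mon a _ * psi Cd ha _ (pair Cd m e j _ s)
  refine (isUnit_mon a ((m : ℤ) • dlt i + (m : ℤ) • dlt j)).mul_left_cancel ?_
  rw [← mul_assoc, ← mul_assoc, ← mon_add, ← mon_add, add_neg_cancel_comm, add_neg_cancel_right,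
    mon_smul_dlt, mon_smul_dlt]
  exact h

/-- A twist by the inverse of a power of the exceptional ideal. -/
def embTwist (hM : Coh.IsQCoh M) : Emb Cd M (-(m : ℤ)) :=
  let i₀ : Fin d := Classical.arbitrary _
  have key : ∀ {q : ℕ} (σ : Fin (q + 1) → Fin d) (v : Γ(M, Us Cd σ)),
      tw Cd ha m e i₀ (res M (W0_le_Us Cd σ) v) =
        mon a (-((m : ℤ) • dlt (σ 0))) * psi Cd ha (W0_le_Us Cd σ) (pair Cd m e (σ 0) (Us_le Cd σ 0) v) := by
    intro q σ v
    rw [tw_indep Cd ha m e i₀ (σ 0)]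
    show mon a _ * psi Cd ha _ (pair Cd m e (σ 0) (W0_le Cd (σ 0)) (res M _ v)) = _
    rw [pair_res Cd m e (σ 0) (Us_le Cd σ 0) (W0_le_Us Cd σ) v, psi_res]
  have hb : ∀ {q : ℕ} (σ : Fin (q + 1) → Fin d),
      Function.Bijective (pair Cd m e (σ 0) (Us_le Cd σ 0) : Γ(M, Us Cd σ) → Γ(Y, Us Cd σ)) := fun σ =>
    (ConcreteCategory.bijective_of_isIso (e.hom.app (Us Cd σ))).comp
      (TwistFlat.bijective_tmul_frame hM (PPSheaf.GrCoh.isQCoh_idealMod _) (isAffineOpen_Us Cd hE σ)
        ((isFrame_genSect Cd hE m (σ 0)).res (Us_le Cd σ 0)))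
  { map := fun U h => (tw Cd ha m e i₀).comp (res M h)
    map_res := fun U V h hVU v => by
      show tw Cd ha m e i₀ _ = tw Cd ha m e i₀ _
      rw [res_res]
    inj := fun q σ x y hxy => (hb σ).1 (psi_injective Cd ha hE σ
      ((isUnit_mon a _).mul_left_cancel (((key σ x).symm.trans hxy).trans (key σ y))))
    mem := fun q σ v => by
      obtain ⟨k, hk⟩ := psi_mem Cd ha hE σ (pair Cd m e (σ 0) (Us_le Cd σ 0) v)
      refine ⟨k + m, ?_⟩
      show tw Cd ha m e i₀ _ ∈ _
      rw [key]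
      simpa using neg_smul_dlt_mem (rng_mem σ 0) m hk
    surj := fun q σ k u hu => by
      obtain ⟨w, hw⟩ := exists_psi_eq Cd ha hE σ (k := k)
        (u := mon a ((m : ℤ) • dlt (σ 0)) * u) (by simpa using smul_dlt_mem (σ 0) m hu)
      obtain ⟨v, hv⟩ := (hb σ).2 w
      refine ⟨v, ?_⟩
      show tw Cd ha m e i₀ _ = u
      rw [key, hv, hw, ← mul_assoc, mon_neg, one_mul] }

end Twist

end Groth.Agent.BlowCoh
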