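import Groth.Agent.BlowCoh.GoodExists
import Groth.Agent.AsympCoh.ZTwist
import Groth.Agent.H23.PullPush
import Groth.Agent.QCoh.Ab.Rpush
import Groth.Agent.Big.Cartier

/-!
# Higher direct images of the powers of the exceptional ideal
-/

set_option autoImplicit false
set_option linter.style.haveILetI false
set_option linter.unusedSectionVars false
set_option backward.isDefEq.respectTransparency false
set_option backward.isDefEq.respectTransparency.types false
set_option maxHeartbeats 400000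

universe u

open CategoryTheory CategoryTheory.Limits AlgebraicGeometry TopologicalSpace Opposite
open Groth.Agent.AModX

noncomputable section

namespace Groth.Agent.BlowCoh

open Groth.Agent

variable {X Y : Scheme.{u}} (σ : X ⟶ Y) (I : Y.IdealSheafData) (d : ℕ)

/-- Every point has arbitrarily small good neighbourhoods. -/
def HasGood : Prop :=
  ∀ (V : Y.Opens) (y : Y), y ∈ V → ∃ U : Y.affineOpens, y ∈ U.1 ∧ U.1 ≤ V ∧ Nonempty (Good I U d)

variable {σ I d}

theorem hasGood_of_regularImmersion [IsLocallyNoetherian Y] {S : Scheme.{u}} (i : S ⟶ Y) [IsClosedImmersion i]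
    {k : RegImm.Kind} (hk : k = .regular ∨ k = .quasi) (hd : 0 < d)
    (hi : RegImm.IsRegularImmersionOfCodim k d i) : HasGood i.ker d :=
  fun V y hy => exists_good i hk hd hi V y hy

variable (hI : HasGood I d)

include hI in
/-- Vanishing of the cohomology over the preimages of good opens gives vanishing of the direct images. -/
theorem isZero_RpushAb_of_good {N : X.Modules}
    (h : ∀ (U : Y.affineOpens), Nonempty (Good I U d) → ∀ q, Subsingleton
      (CohTop.HU (X := X.toPresheafedSpace.carrier) (QCoh.abSheaf N) (q + 1) (σ ⁻¹ᵁ U.1)))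
    (p : ℕ) (hp : 1 ≤ p) : IsZero ((Coh.RpushAb σ p).obj (Coh.toAb N)) :=
  QCoh.Ab.Rpush_isZero_of_bound σ.base
    (fun W : Opens Y => ∃ U : Y.affineOpens, U.1 = W ∧ Nonempty (Good I U d))
    (fun V y hy => by
      obtain ⟨U, hyU, hUV, hG⟩ := hI V y hy
      exact ⟨U.1, hUV, hyU, U, rfl, hG⟩) 0 (QCoh.abSheaf N)
    (fun W hW q hq => by
      obtain ⟨U, rfl, hG⟩ := hW
      obtain ⟨q, rfl⟩ := Nat.exists_eq_add_of_le' hq
      exact h U hG q) p hp

variable (hσ : BlowUp.IsBlowUp σ I) (hd : 0 < d)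

include hσ in
theorem isInvertible_exc_pow (m : ℕ) : PicF.IsInvertible (ClSub.idealMod ((I.comap σ) ^ m)) :=
  Big.isInvertible_ideal (isEffCartierIdeal_pow hσ.1 m)

include hσ hd

theorem subsingleton_HU_idealMod (m : ℕ) {U : Y.affineOpens} (G : Good I U d) (q : ℕ) : Subsingleton
    (CohTop.HU (X := X.toPresheafedSpace.carrier) (QCoh.abSheaf (ClSub.idealMod ((I.comap σ) ^ m))) (q + 1)
      (σ ⁻¹ᵁ U.1)) := by
  haveI : Nonempty (Fin d) := ⟨⟨0, hd⟩⟩
  obtain ⟨Cd⟩ := exists_chartsU G hσ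
  obtain ⟨e⟩ := nonempty_restrict_pow (σ := σ) G m
  exact subsingleton_HU_preimage G hσ Cd (PPSheaf.GrCoh.isQCoh_idealMod _) e
    (embIdeal Cd G.regular (isEff_excU G hσ) m) (by omega) q

theorem subsingleton_HU_structure {U : Y.affineOpens} (G : Good I U d) (q : ℕ) : Subsingleton
    (CohTop.HU (X := X.toPresheafedSpace.carrier) (QCoh.abSheaf (Coh.structureModule X)) (q + 1)
      (σ ⁻¹ᵁ U.1)) := by
  haveI : Nonempty (Fin d) := ⟨⟨0, hd⟩⟩
  obtain ⟨Cd⟩ := exists_chartsU G hσ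
  exact subsingleton_HU_preimage G hσ Cd QCoh.isQCoh_structureModule (Scheme.Modules.restrictUnitIso _)
    (embO Cd G.regular (isEff_excU G hσ)) (by omega) q

omit hd in
theorem isQCoh_inverse {L : X.Modules} {m : ℕ} (hL : ClSub.IsInverseOf L (ClSub.idealMod ((I.comap σ) ^ m))) :
    PicF.IsInvertible L ∧ Coh.IsQCoh L := by
  obtain ⟨c⟩ := H23.PicMul.comm (ClSub.idealMod ((I.comap σ) ^ m)) L
  obtain ⟨e⟩ := hL
  have h := AsympCoh.isInvertible_of_isInverseOf (isInvertible_exc_pow hσ m) (M := L) ⟨c ≪≫ e⟩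
  exact ⟨h, ProjUPX.isQCoh_of_isInvertible h⟩

omit hd in
theorem nonempty_restrict_inverse {L : X.Modules} {m : ℕ}
    (hL : ClSub.IsInverseOf L (ClSub.idealMod ((I.comap σ) ^ m))) {U : Y.affineOpens} (G : Good I U d) :
    Nonempty (CohB1.tensorMod (L.restrict (σ ⁻¹ᵁ U.1).ι) (ClSub.idealMod (exc G.a (fU σ U) ^ m)) ≅
      Coh.structureModule (σ ⁻¹ᵁ U.1).toScheme) := by
  let j := (σ ⁻¹ᵁ U.1).ι
  let P := Scheme.Modules.restrictFunctorIsoPullback j
  obtain ⟨e⟩ := hL
  obtain ⟨t⟩ := H23.PicMul.pull j L (ClSub.idealMod ((I.comap σ) ^ m))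
  obtain ⟨r⟩ := nonempty_restrict_pow (σ := σ) G m
  exact ⟨PicGrp.tensorModIso (P.app L) ((r.symm ≪≫ P.app _)) ≪≫ t.symm ≪≫
    ((Scheme.Modules.pullback j).mapIso e) ≪≫ (P.app (Coh.structureModule X)).symm ≪≫
    Scheme.Modules.restrictUnitIso j⟩

theorem subsingleton_HU_inverse {L : X.Modules} {m : ℕ}
    (hL : ClSub.IsInverseOf L (ClSub.idealMod ((I.comap σ) ^ m))) (hm : m < d) {U : Y.affineOpens}
    (G : Good I U d) (q : ℕ) : Subsingleton
    (CohTop.HU (X := X.toPresheafedSpace.carrier) (QCoh.abSheaf L) (q + 1) (σ ⁻¹ᵁ U.1)) := by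
  haveI : Nonempty (Fin d) := ⟨⟨0, hd⟩⟩
  obtain ⟨Cd⟩ := exists_chartsU G hσ
  obtain ⟨e⟩ := nonempty_restrict_inverse hσ hL G
  have hq := QCoh.isQCoh_restrict (σ ⁻¹ᵁ U.1).ι (isQCoh_inverse hσ hL).2
  exact subsingleton_HU_preimage G hσ Cd (isQCoh_inverse hσ hL).2 (Iso.refl _)
    (embTwist Cd G.regular (isEff_excU G hσ) m e hq) (by omega) q

include hI

theorem isZero_RpushAb_idealMod (m p : ℕ) (hp : 1 ≤ p) :
    IsZero ((Coh.RpushAb σ p).obj (Coh.toAb (ClSub.idealMod ((I.comap σ) ^ m)))) :=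
  isZero_RpushAb_of_good hI (fun _ ⟨G⟩ q => subsingleton_HU_idealMod hσ hd m G q) p hp

theorem isZero_RpushAb_structure (p : ℕ) (hp : 1 ≤ p) :
    IsZero ((Coh.RpushAb σ p).obj (Coh.toAb (Coh.structureModule X))) :=
  isZero_RpushAb_of_good hI (fun _ ⟨G⟩ q => subsingleton_HU_structure hσ hd G q) p hp

theorem isZero_RpushAb_inverse {L : X.Modules} {m : ℕ}
    (hL : ClSub.IsInverseOf L (ClSub.idealMod ((I.comap σ) ^ m))) (hm : m < d) (p : ℕ) (hp : 1 ≤ p) :
    IsZero ((Coh.RpushAb σ p).obj (Coh.toAb L)) :=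
  isZero_RpushAb_of_good hI (fun _ ⟨G⟩ q => subsingleton_HU_inverse hσ hd hL hm G q) p hp

end Groth.Agent.BlowCoh
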