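import Groth.Agent.BlowCoh.Local
import Groth.Agent.Synt29.QRDescent
import Groth.Agent.BlowUpX.Basic

/-!
# Small affine opens on which the centre is cut out by a quasi-regular sequence of non-zero-divisors
-/

set_option autoImplicit false
set_option linter.style.haveILetI false
set_option linter.unusedSectionVars false
set_option backward.isDefEq.respectTransparency false
set_option backward.isDefEq.respectTransparency.types false
set_option maxHeartbeats 400000

universe u

open CategoryTheory AlgebraicGeometry TopologicalSpace Opposite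

noncomputable section

namespace Groth.Agent.BlowCoh

open Groth.Agent

variable {A : Type u} [CommRing A] [IsNoetherianRing A] {d : ℕ}

/-- The members of a quasi-regular sequence in the radical are non-zero-divisors. -/
theorem mem_nonZeroDivisors_of_quasiRegular {f : Fin d → A} (hq : CAlgX.IsQuasiRegular f)
    (hf : ∀ i, f i ∈ Ring.jacobson A) (i : Fin d) : f i ∈ nonZeroDivisors A := by
  obtain ⟨d, rfl⟩ := Nat.exists_eq_succ_of_ne_zero (Fin.pos i).ne'
  let f' : Fin (d + 1) → A := fun j => f (Equiv.swap 0 i j)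
  have hspan : Ideal.span (Set.range f') = Ideal.span (Set.range f) := by
    rw [show f' = f ∘ Equiv.swap 0 i from rfl, (Equiv.swap 0 i).surjective.range_comp]
  have h := LinType.isWeaklyRegular_of_isQuasiRegular (d + 1) A f' (fun j => hf _)
    (LinType.isQuasiRegular_of_span_eq f f' hq hspan)
  rw [List.ofFn_succ, RingTheory.Sequence.isWeaklyRegular_cons_iff] at h
  have h1 : IsSMulRegular A (f i) := by
    simpa [f'] using h.1
  exact mem_nonZeroDivisors_iff_left.2 fun x hx => h1.right_eq_zero_of_smul hx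

/-- A quasi-regular sequence in a prime consists of non-zero-divisors near it. -/
theorem exists_away_regular {f : Fin d → A} (hq : CAlgX.IsQuasiRegular f) (p : Ideal A) [p.IsPrime]
    (hf : ∀ i, f i ∈ p) : ∃ g : A, g ∉ p ∧ ∀ i x, x * f i = 0 → g * x = 0 := by
  classical
  have hR : ∀ i, algebraMap A (Localization.AtPrime p) (f i) ∈ nonZeroDivisors (Localization.AtPrime p) :=
    mem_nonZeroDivisors_of_quasiRegular (Synt29.QRDescent.qr_flat hq) fun i => by
      rw [IsLocalRing.ringJacobson_eq_maximalIdeal]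
      exact (IsLocalization.AtPrime.to_map_mem_maximal_iff _ p _).2 (hf i)
  have hann : ∀ i, ∃ g : A, g ∉ p ∧ ∀ x, x * f i = 0 → g * x = 0 := fun i => by
    obtain ⟨t, ht⟩ := IsNoetherian.noetherian (LinearMap.ker (LinearMap.mulRight A (f i)))
    have hx : ∀ x ∈ t, ∃ s : A, s ∉ p ∧ s * x = 0 := fun x hx => by
      have hx' : x * f i = 0 := (ht ▸ Submodule.subset_span hx : x ∈ LinearMap.ker (LinearMap.mulRight A (f i)))
      have h := congrArg (algebraMap A (Localization.AtPrime p)) hx'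
      rw [map_mul, map_zero] at h
      obtain ⟨s, hs⟩ := (IsLocalization.map_eq_zero_iff p.primeCompl (Localization.AtPrime p) x).1
        (mem_nonZeroDivisors_iff_right.1 (hR i) _ h)
      exact ⟨s, s.2, hs⟩
    choose s hs hs' using hx
    refine ⟨∏ x : t, s x x.2, (p.primeCompl.prod_mem fun x _ => hs x x.2), fun x hx => ?_⟩
    have hmem : x ∈ Submodule.span A (↑t : Set A) := ht.symm ▸ (show x ∈ LinearMap.ker (LinearMap.mulRight A (f i)) from hx)
    refine Submodule.span_induction (p := fun x _ => (∏ x : t, s x x.2) * x = 0) (fun y hy => ?_) (mul_zero _)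
      (fun a b _ _ ha hb => by rw [mul_add, ha, hb, add_zero])
      (fun r a _ ha => by rw [smul_eq_mul, mul_left_comm, ha, mul_zero]) hmem
    rw [← Finset.mul_prod_erase Finset.univ _ (Finset.mem_univ ⟨y, hy⟩), mul_right_comm, hs' y hy, zero_mul]
  choose g hg hg' using hann
  refine ⟨∏ i, g i, p.primeCompl.prod_mem fun i _ => hg i, fun i x hx => ?_⟩
  rw [← Finset.mul_prod_erase Finset.univ _ (Finset.mem_univ i), mul_right_comm, hg' i x hx, zero_mul]

variable {X Y : Scheme.{u}} [IsLocallyNoetherian Y]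

theorem mem_basicOpen_iff' {U : Y.Opens} (hU : IsAffineOpen U) {y : Y} (hy : y ∈ U) (r : Γ(Y, U)) :
    y ∈ Y.basicOpen r ↔ r ∉ (hU.primeIdealOf ⟨y, hy⟩).asIdeal := by
  have h3 := hU.fromSpec_primeIdealOf ⟨y, hy⟩
  have h1 : hU.primeIdealOf ⟨y, hy⟩ ∈ hU.fromSpec ⁻¹ᵁ Y.basicOpen r ↔
      r ∉ (hU.primeIdealOf ⟨y, hy⟩).asIdeal := by
    rw [hU.fromSpec_preimage_basicOpen]; rfl
  have h2 : hU.primeIdealOf ⟨y, hy⟩ ∈ hU.fromSpec ⁻¹ᵁ Y.basicOpen r ↔
      hU.fromSpec (hU.primeIdealOf ⟨y, hy⟩) ∈ Y.basicOpen r := Iff.rfl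
  rw [h2, h3] at h1
  exact h1

/-- The opens are arbitrarily small. -/
theorem exists_good (i : X ⟶ Y) [IsClosedImmersion i] {k : RegImm.Kind} (hk : k = .regular ∨ k = .quasi) {d : ℕ}
    (hd : 0 < d) (hi : RegImm.IsRegularImmersionOfCodim k d i) (V : Y.Opens) (y : Y) (hy : y ∈ V) :
    ∃ U : Y.affineOpens, y ∈ U.1 ∧ U.1 ≤ V ∧ Nonempty (Good i.ker U d) := by
  by_cases hys : y ∈ (i.ker.support : Set Y)
  · obtain ⟨z, rfl⟩ : y ∈ Set.range i := by
      rw [Scheme.Hom.support_ker, i.isClosedEmbedding.isClosed_range.closure_eq] at hys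
      exact hys
    obtain ⟨U₀, hzU, -, rs, hlen, hseq, hker⟩ := hi.2 z
    haveI := IsLocallyNoetherian.component_noetherian U₀
    subst hlen
    let a : Fin rs.length → Γ(Y, U₀.1) := rs.get
    have hspan : Ideal.span (Set.range a) = Ideal.ofList rs := by
      rw [Set.range_list_get]
    have hideal : i.ker.ideal U₀ = ctr a := by
      rw [Scheme.Hom.ker_apply, hker, ctr, hspan]
    have hq : CAlgX.IsQuasiRegular a := by
      rcases hk with rfl | rfl
      · intro n P hP he e
        have hw : RingTheory.Sequence.IsWeaklyRegular _ rs := RingTheory.Sequence.IsRegular.toIsWeaklyRegular hseq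
        exact LinType.quasiRegular (a := a) (by rw [List.ofFn_get]; exact hw) hP he e
      · exact hseq
    let p := (U₀.2.primeIdealOf ⟨i z, hzU⟩).asIdeal
    obtain ⟨g, hgp, hg⟩ := exists_away_regular hq p fun j => by
      by_contra hne
      have h1 : i z ∈ Y.basicOpen (a j) := (mem_basicOpen_iff' U₀.2 hzU _).2 hne
      have h2 : i.app U₀.1 (a j) = 0 := RingHom.mem_ker.1 (hker ▸ hspan ▸ Ideal.subset_span ⟨j, rfl⟩ :
        a j ∈ RingHom.ker (i.app U₀.1).hom)
      have h3 : z ∈ i ⁻¹ᵁ Y.basicOpen (a j) := h1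
      rw [Scheme.preimage_basicOpen, h2, Scheme.basicOpen_zero] at h3
      exact h3
    obtain ⟨h, hhV, hyh⟩ := U₀.2.exists_basicOpen_le (V := V) ⟨i z, hy⟩ hzU
    let U : Y.affineOpens := ⟨Y.basicOpen (g * h), U₀.2.basicOpen _⟩
    have hle : U.1 ≤ U₀.1 := Y.basicOpen_le _
    letI : Algebra Γ(Y, U₀.1) Γ(Y, U.1) := (AModX.resR hle).toAlgebra
    haveI : IsLocalization.Away (g * h) Γ(Y, U.1) := U₀.2.isLocalization_of_eq_basicOpen _ (homOfLE hle) rfl
    haveI : Module.Flat Γ(Y, U₀.1) Γ(Y, U.1) := IsLocalization.flat _ (Submonoid.powers (g * h))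
    refine ⟨U, ?_, ?_, ⟨⟨fun j => algebraMap Γ(Y, U₀.1) Γ(Y, U.1) (a j),
      IsLocallyNoetherian.component_noetherian U, fun j => ?_, Synt29.QRDescent.qr_flat hq, ?_⟩⟩⟩
    · show i z ∈ Y.basicOpen (g * h)
      rw [Scheme.basicOpen_mul]
      exact ⟨(mem_basicOpen_iff' U₀.2 hzU _).2 hgp, hyh⟩
    · show Y.basicOpen (g * h) ≤ V
      rw [Scheme.basicOpen_mul]
      exact inf_le_right.trans hhV
    · refine mem_nonZeroDivisors_iff_right.2 fun v hv => ?_
      obtain ⟨⟨x, s⟩, hx⟩ := IsLocalization.surj (Submonoid.powers (g * h)) v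
      have h1 : algebraMap Γ(Y, U₀.1) Γ(Y, U.1) (x * a j) = 0 := by
        rw [map_mul, ← hx, mul_right_comm, hv, zero_mul]
      obtain ⟨⟨_, m, rfl⟩, hm⟩ := (IsLocalization.map_eq_zero_iff (Submonoid.powers (g * h)) _ _).1 h1
      have h2 : g * ((g * h) ^ m * x) = 0 := hg j _ (by rw [mul_assoc]; exact hm)
      have h3 : algebraMap Γ(Y, U₀.1) Γ(Y, U.1) x = 0 :=
        (IsLocalization.map_eq_zero_iff (Submonoid.powers (g * h)) _ _).2 ⟨⟨(g * h) ^ (m + 1), _, rfl⟩, by
          show (g * h) ^ (m + 1) * x = 0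
          rw [show (g * h) ^ (m + 1) * x = h * (g * ((g * h) ^ m * x)) by ring, h2, mul_zero]⟩
      rw [← hx] at h3
      exact (IsLocalization.map_units Γ(Y, U.1) s).mul_left_eq_zero.1 h3
    · rw [← i.ker.map_ideal (U := U) (V := U₀) hle, hideal]
      exact Synt29.QRDescent.map_span_range a
  · obtain ⟨_, ⟨W, hW, rfl⟩, hyW, hWV⟩ := Y.isBasis_affineOpens.exists_subset_of_mem_open
      (show y ∈ ((V ⊓ i.ker.support.compl : Y.Opens) : Set Y) from ⟨hy, hys⟩) (V ⊓ i.ker.support.compl).2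
    refine ⟨⟨W, hW⟩, hyW, fun z hz => (hWV hz).1, ⟨⟨fun _ => 1, IsLocallyNoetherian.component_noetherian ⟨W, hW⟩,
      fun _ => one_mem _, Synt29.QRDescent.qr_of_span_eq_top ?_, ?_⟩⟩⟩
    · exact Ideal.eq_top_of_isUnit_mem _ (Ideal.subset_span ⟨⟨0, hd⟩, rfl⟩) isUnit_one
    · rw [BlowUpX.ideal_eq_top_of_disjoint _ ⟨W, hW⟩ fun z hz => (hWV hz).2, eq_comm]
      exact Ideal.eq_top_of_isUnit_mem _ (Ideal.subset_span ⟨⟨0, hd⟩, rfl⟩) isUnit_one

end Groth.Agent.BlowCoh
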