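import Groth.Agent.BlowCoh.KoszulVanish
import Groth.Agent.KFlatLib.Perfect.Tensor

/-!
# First cohomology of the kernel of a surjection onto a generated invertible module
-/

set_option autoImplicit false
set_option linter.style.haveILetI false
set_option linter.unusedSectionVars false
set_option backward.isDefEq.respectTransparency false
set_option backward.isDefEq.respectTransparency.types false
set_option maxHeartbeats 400000

universe u

open CategoryTheory CategoryTheory.Limits AlgebraicGeometry TopologicalSpace Opposite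
open Groth.Agent.ExtPowSh
open Groth.Agent.H23.PicMul

noncomputable section

namespace Groth.Agent.BlowCoh

open Groth.Agent

variable {X : Scheme.{u}} [IsLocallyNoetherian X] (k : Type u) [Field k] [X.Over (Spec (CommRingCat.of k))]

theorem cl_tens (M A : X.Modules) : PicF.cl ((DCoh.tensorBi.obj M).obj A) = PicF.cl M * PicF.cl A := by
  rw [← cl_tensor]; exact cl_eq_iff.2 ⟨(Jets.tbiIso M A).symm⟩

theorem exists_twisted_kernel {n : ℕ} {G G' : X.Modules} (hG' : PicF.IsInvertible G')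
    (hinv : ClSub.IsInverseOf G G') (ψ : FlatMod.freeMod X (n + 1) ⟶ G) [Epi ψ] :
    ∃ (φ : tens (FlatMod.freeMod X (n + 1)) G' ⟶ Coh.structureModule X), Epi φ ∧
      PicF.cl (kernel φ) = PicF.cl G' * PicF.cl (kernel ψ) := by
  have hG'f := H23.PullPush.isFinLocFree_of_isInvertible hG'
  obtain ⟨ε⟩ := hinv
  let T' : X.Modules ⥤ X.Modules := DCoh.tensorBi.obj G'
  let ι : T'.obj G ≅ Coh.structureModule X :=
    CurveTensor.commIso G' G ≪≫ (Jets.tbiIso G G').symm ≪≫ ε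
  have hS : (ShortComplex.mk (kernel.ι ψ) ψ (kernel.condition ψ)).ShortExact :=
    ShortComplex.ShortExact.mk' (ShortComplex.exact_of_f_is_kernel _ (kernelIsKernel ψ)) inferInstance inferInstance
  have hT := CurveTensor.shortExact_tensor hG'f (kernel.ι ψ) ψ _ hS
  haveI : Epi (T'.map ψ) := hT.epi_g
  refine ⟨(CurveTensor.commIso (FlatMod.freeMod X (n + 1)) G').hom ≫ T'.map ψ ≫ ι.hom, inferInstance, ?_⟩
  rw [← cl_tens]
  exact cl_eq_iff.2 ⟨kernelIsIsoComp _ _ ≪≫ kernelCompMono _ _ ≪≫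
    (kernelIsKernel (T'.map ψ)).conePointUniqueUpToIso hT.fIsKernel⟩

include k in
/-- `H^1(N ⊗ ker ψ) = 0` for `ψ` an epimorphism from a free module onto an invertible `G` with inverse `G'`,
provided that `H^p(N ⊗ G'^p) = 0` for `1 ≤ p ≤ n`. -/
theorem koszul_h1 {n : ℕ} {G G' : X.Modules} (hG' : PicF.IsInvertible G')
    (hinv : ClSub.IsInverseOf G G') (ψ : FlatMod.freeMod X (n + 1) ⟶ G) [Epi ψ] (hn : 1 ≤ n) {N : X.Modules}
    (hG : PicF.IsInvertible G) (hN : FlatMod.IsFinLocFree N)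
    (h : ∀ p, 1 ≤ p → p ≤ n → Subsingleton (Coh.HH X (CohB1.tensorMod N (CohB1.tensorPow G' p)) p)) :
    Subsingleton (Coh.HH X ((DCoh.tensorBi.obj N).obj (kernel ψ)) 1) := by
  obtain ⟨φ, hφ, hker⟩ := exists_twisted_kernel hG' hinv ψ
  let E : X.Modules := tens (FlatMod.freeMod X (n + 1)) G'
  have hS : (ShortComplex.mk (kernel.ι φ) φ (kernel.condition φ)).ShortExact :=
    ShortComplex.ShortExact.mk' (ShortComplex.exact_of_f_is_kernel _ (kernelIsKernel φ)) inferInstance inferInstance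
  have hE : FlatMod.IsFinLocFreeOfRank (n + 1) E := fun x => by
    obtain ⟨U, hxU, ⟨e⟩⟩ := hG' x
    refine ⟨U, hxU, ?_⟩
    obtain ⟨t⟩ := H23.PicMul.pull U.ι (FlatMod.freeMod X (n + 1)) G'
    obtain ⟨v⟩ := H23.PicMul.unit ((Scheme.Modules.pullback U.ι).obj (FlatMod.freeMod X (n + 1)))
    let P := Scheme.Modules.restrictFunctorIsoPullback U.ι
    obtain ⟨q⟩ := AVPoinc.nonempty_pullback_freeMod U.ι (n + 1)
    exact ⟨(Scheme.Modules.restrictFunctor U.ι).mapIso (Jets.tbiIso _ _).symm ≪≫ P.app _ ≪≫ t ≪≫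
      PicGrp.tensorModIso (Iso.refl _) ((P.app G').symm ≪≫ e) ≪≫ v ≪≫ q⟩
  have hO : FlatMod.IsFinLocFreeOfRank 1 (Coh.structureModule X) :=
    InvEnd.isFinLocFreeOfRank_one (PicLoc.isInvertible_structureModule X)
  have hK : FlatMod.IsFinLocFreeOfRank n (kernel φ) := H9PB.isFinLocFreeOfRank_kernel hS hE hO
  have hKf := ExtPowSh.flf_of_rank hK
  let M : X.Modules := (DCoh.tensorBi.obj N).obj G
  have hMf : FlatMod.IsFinLocFree M :=
    KFlatLib.isFinLocFree_tensor hN (H23.PullPush.isFinLocFree_of_isInvertible hG)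
  let T : X.Modules ⥤ X.Modules := DCoh.tensorBi.obj M
  have hGG : PicF.cl G * PicF.cl G' = 1 := by rw [← cl_tensor, H23.PicMul.one_def]; exact cl_eq_iff.2 hinv
  have hmid : ∀ p j, Subsingleton (Coh.HH X (CohB1.tensorMod N (CohB1.tensorPow G' p)) j) →
      Subsingleton (Coh.HH X (T.obj (L E (p + 1))) j) := fun p j hs => by
    obtain ⟨a⟩ := ExtPowSh.nonempty_twist_iso (E := FlatMod.freeMod X (n + 1)) (p + 1)
      (PnEuler.isQCoh_free X (n + 1)) hG'
    obtain ⟨b⟩ := PnEuler.nonempty_extPow_free X (n + 1) (p + 1)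
    obtain ⟨c⟩ := (cl_eq_iff (A := T.obj (CohB1.tensorPow G' (p + 1)))
      (B := CohB1.tensorMod N (CohB1.tensorPow G' p))).1 (by
        rw [cl_tens, cl_tens, cl_tensorPow, cl_tensor, cl_tensorPow, pow_succ', mul_assoc,
          ← mul_assoc (PicF.cl G), hGG, one_mul])
    let R : X.Modules ⥤ X.Modules := DCoh.tensorBi.flip.obj (CohB1.tensorPow G' (p + 1))
    let one : R.obj (Coh.structureModule X) ≅ CohB1.tensorPow G' (p + 1) := CurveTensor.structureTensorIso _
    let e : T.obj (L E (p + 1)) ≅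
        ∐ fun _ : Fin ((n + 1).choose (p + 1)) => CohB1.tensorMod N (CohB1.tensorPow G' p) :=
      T.mapIso (a ≪≫ R.mapIso b ≪≫ PreservesCoproduct.iso R _ ≪≫ Sigma.mapIso fun _ => one) ≪≫
        PreservesCoproduct.iso T _ ≪≫ Sigma.mapIso fun _ => c
    haveI := PnEuler.subsingleton_sigma k (CohB1.tensorMod N (CohB1.tensorPow G' p)) ((n + 1).choose (p + 1)) j hs
    exact (PnEuler.hhIso k e j).toEquiv.subsingleton
  have hses : ∀ p, ∃ S : ShortComplex X.Modules, S.ShortExact ∧ Nonempty (S.X₁ ≅ T.obj (L (kernel φ) (p + 1))) ∧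
      Nonempty (S.X₂ ≅ T.obj (L E (p + 1))) ∧ Nonempty (S.X₃ ≅ T.obj (L (kernel φ) p)) := fun p => by
    obtain ⟨f, g, w, hse⟩ := PnEuler.exists_ses_extPow hS hKf (Iso.refl _) (ExtPowSh.flf_of_rank hO) p
    exact ⟨_, CurveTensor.shortExact_tensor hMf f g w hse, ⟨Iso.refl _⟩, ⟨Iso.refl _⟩, ⟨Iso.refl _⟩⟩
  have key : ∀ m p, p + m = n → 1 ≤ p → Subsingleton (Coh.HH X (T.obj (L (kernel φ) p)) p) := by
    intro m
    induction m with
    | zero =>
      intro p hp hp1
      obtain rfl : p = n := by omega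
      obtain ⟨S, hSe, ⟨e₁⟩, ⟨e₂⟩, ⟨e₃⟩⟩ := hses p
      have hz : IsZero S.X₁ := by
        refine IsZero.of_iso (T.map_isZero ?_) e₁
        have hr := ExtPowSh.isFinLocFreeOfRank (i := p + 1) hK
        rw [Nat.choose_eq_zero_of_lt (Nat.lt_succ_self p)] at hr
        exact ExtPowSh.isZero_of_rank_zero hr
      haveI : IsIso S.g := hSe.isIso_g_iff.2 hz
      exact @Equiv.subsingleton _ _ (PnEuler.hhIso k (e₃.symm ≪≫ (asIso S.g).symm ≪≫ e₂) p).toEquiv
        (hmid p p (h p hp1 le_rfl))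
    | succ m ih =>
      intro p hp hp1
      obtain ⟨S, hSe, ⟨e₁⟩, ⟨e₂⟩, ⟨e₃⟩⟩ := hses p
      exact @Equiv.subsingleton _ _ (PnEuler.hhIso k e₃ p).symm.toEquiv (PnEuler.subsingleton_X₃ k hSe p
        (@Equiv.subsingleton _ _ (PnEuler.hhIso k e₂ p).toEquiv (hmid p p (h p hp1 (by omega))))
        (@Equiv.subsingleton _ _ (PnEuler.hhIso k e₁ (p + 1)).toEquiv (ih (p + 1) (by omega) (by omega))))
  obtain ⟨l⟩ := PnEuler.nonempty_L_one (QCoh.isQCoh_of_isFinLocFree hKf)
  obtain ⟨c⟩ := (cl_eq_iff (A := T.obj (L (kernel φ) 1)) (B := (DCoh.tensorBi.obj N).obj (kernel ψ))).1 (by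
    rw [cl_tens, cl_tens, cl_tens, cl_eq_iff.2 ⟨l⟩, hker, mul_assoc, ← mul_assoc (PicF.cl G), hGG, one_mul])
  exact @Equiv.subsingleton _ _ (PnEuler.hhIso k c 1).symm.toEquiv (key (n - 1) 1 (by omega) le_rfl)

end Groth.Agent.BlowCoh
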