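import Groth.Agent.BlowCoh.AntiTwist
import Groth.Agent.BlowCoh.KoszulH1
import Groth.Agent.KFlatLib.Scheme.Tensor

/-!
# Multiplying a surjection on global sections by a generated invertible module
-/

set_option autoImplicit false
set_option linter.style.haveILetI false
set_option linter.unusedSectionVars false
set_option backward.isDefEq.respectTransparency false
set_option backward.isDefEq.respectTransparency.types false
set_option maxHeartbeats 400000

universe u

open CategoryTheory CategoryTheory.Limits AlgebraicGeometry TopologicalSpace Opposite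
open Groth.Agent.H23.PicMul
open Groth.Agent.PnCoh.Finite (mapLin deltaLin)

noncomputable section

namespace Groth.Agent.BlowCoh

open Groth.Agent

variable {X : Scheme.{u}} [IsLocallyNoetherian X] (k : Type u) [Field k] [X.Over (Spec (CommRingCat.of k))]

theorem nonempty_free_sigma (N : ℕ) :
    Nonempty (FlatMod.freeMod X N ≅ ∐ fun _ : Fin (N.choose 1) => Coh.structureModule X) := by
  obtain ⟨a⟩ := PnEuler.nonempty_L_one (PnEuler.isQCoh_free X N)
  obtain ⟨b⟩ := PnEuler.nonempty_extPow_free X N 1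
  exact ⟨a.symm ≪≫ b⟩

theorem surjective_of_iso_comm {A B A' B' : X.Modules} (a : A ⟶ B) (b : A' ⟶ B') (e : A ≅ A') (e' : B ≅ B')
    (h : a ≫ e'.hom = e.hom ≫ b) (hb : Function.Surjective (mapLin k b 0)) :
    Function.Surjective (mapLin k a 0) := fun y => by
  obtain ⟨x, hx⟩ := hb (mapLin k e'.hom 0 y)
  refine ⟨mapLin k e.inv 0 x, ?_⟩
  have h' : e.inv ≫ a = b ≫ e'.inv := by
    rw [Iso.inv_comp_eq, ← Category.assoc, ← h, Category.assoc, e'.hom_inv_id, Category.comp_id]
  rw [PnEuler.mapLin_comp, h', ← PnEuler.mapLin_comp, hx, PnEuler.mapLin_comp, e'.hom_inv_id, PnEuler.mapLin_id]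

include k in
theorem surjective_tensor_left_map {C F G : X.Modules} (ψ : F ⟶ G) [Epi ψ] (hC : FlatMod.IsFinLocFree C)
    (hK : Subsingleton (Coh.HH X ((DCoh.tensorBi.obj C).obj (kernel ψ)) 1)) :
    Function.Surjective (mapLin k ((DCoh.tensorBi.map ψ).app C) 0) := by
  have hS : (ShortComplex.mk (kernel.ι ψ) ψ (kernel.condition ψ)).ShortExact :=
    ShortComplex.ShortExact.mk' (ShortComplex.exact_of_f_is_kernel _ (kernelIsKernel ψ)) inferInstance inferInstance
  let η := (KFlatLib.tensorBiFlipIso X).app C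
  exact surjective_of_iso_comm k _ _ (η.app F) (η.app G) (η.hom.naturality ψ)
    (PnEuler.surjective_g k (CurveTensor.shortExact_tensor hC (kernel.ι ψ) ψ _ hS) 0 hK)

include k in
theorem h1_step {A B C : X.Modules} (f : A ⟶ B) (g : B ⟶ C) (w : f ≫ g = 0)
    (hS : (ShortComplex.mk f g w).ShortExact) {N : ℕ} {G : X.Modules} (ψ : FlatMod.freeMod X N ⟶ G) [Epi ψ]
    (hG : FlatMod.IsFinLocFree G) (hC : FlatMod.IsFinLocFree C) (hA : Subsingleton (Coh.HH X A 1))
    (hB : Subsingleton (Coh.HH X ((DCoh.tensorBi.obj G).obj B) 1))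
    (hK : Subsingleton (Coh.HH X ((DCoh.tensorBi.obj C).obj (kernel ψ)) 1)) :
    Subsingleton (Coh.HH X ((DCoh.tensorBi.obj G).obj A) 1) := by
  have hF := CurveTensor.shortExact_tensor (KFlatLib.isFinLocFree_freeMod (X := X) N) f g w hS
  have hG' := CurveTensor.shortExact_tensor hG f g w hS
  have hAF : Subsingleton (Coh.HH X ((DCoh.tensorBi.obj (FlatMod.freeMod X N)).obj A) 1) :=
    subsingleton_of_cl (k := k) (by rw [cl_tbi, cl_tbi, mul_comm]) 1
      (subsingleton_tensor_sigma k (M := A) (nonempty_free_sigma N)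
        (show PicF.cl A = PicF.cl (Coh.structureModule X) * PicF.cl A by rw [← H23.PicMul.one_def, one_mul]) 1 hA)
  have hsF := PnEuler.surjective_g k hF 0 hAF
  have hsψ := surjective_tensor_left_map k ψ hC hK
  have hsG : Function.Surjective (mapLin k ((DCoh.tensorBi.obj G).map g) 0) := fun z => by
    obtain ⟨y, rfl⟩ := hsψ z
    obtain ⟨x, rfl⟩ := hsF y
    refine ⟨mapLin k ((DCoh.tensorBi.map ψ).app B) 0 x, ?_⟩
    show mapLin k ((DCoh.tensorBi.obj G).map g) 0 _ =
      mapLin k ((DCoh.tensorBi.map ψ).app C) 0 (mapLin k ((DCoh.tensorBi.obj (FlatMod.freeMod X N)).map g) 0 x)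
    rw [PnEuler.mapLin_comp, PnEuler.mapLin_comp, NatTrans.naturality]
  refine subsingleton_of_forall_eq 0 fun x => ?_
  obtain ⟨z, rfl⟩ := PnEuler.exact₁ k hG' 0 (hB.elim _ 0 : mapLin k _ (0 + 1) x = 0)
  obtain ⟨y, rfl⟩ := hsG z
  exact Jets.deltaLin_map_g k hG' y

end Groth.Agent.BlowCoh
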