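import Groth.Agent.Big.Comap
import Groth.Agent.LimMod.Crit
import Groth.Agent.QCoh.Pullback
import Groth.Agent.PPSheaf.GrCoh

/-!
# The pull-back of an ideal maps onto the inverse image ideal
-/

set_option autoImplicit false
set_option linter.style.haveILetI false
set_option linter.unusedSectionVars false
set_option backward.isDefEq.respectTransparency false
set_option backward.isDefEq.respectTransparency.types false
set_option maxHeartbeats 400000

universe u

open CategoryTheory CategoryTheory.Limits AlgebraicGeometry TopologicalSpace Opposite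

noncomputable section

namespace Groth.Agent.BlowCoh

open Groth.Agent

variable {X Y : Scheme.{u}} (f : Y ⟶ X) (I : X.IdealSheafData)

theorem exists_epi_idealPull :
    ∃ β : (Scheme.Modules.pullback f).obj (ClSub.idealMod I) ⟶ ClSub.idealMod (I.comap f), Epi β := by
  obtain ⟨α, hα⟩ := Big.exists_idealPush f I
  let adj := Scheme.Modules.pullbackPushforwardAdjunction f
  let β := (adj.homEquiv _ _).symm α
  have hβ : adj.unit.app (ClSub.idealMod I) ≫ (Scheme.Modules.pushforward f).map β = α :=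
    (Adjunction.homEquiv_unit _ _ _ _).symm.trans ((adj.homEquiv _ _).apply_symm_apply α)
  refine ⟨β, LimMod.epi_of_surjective β
    (fun q : {q : X.affineOpens × Y.affineOpens // q.2.1 ≤ f ⁻¹ᵁ q.1.1} => q.1.2.1) (fun q => q.1.2.2)
    (fun y => ?_) (QCoh.isQCoh_pullback f (PPSheaf.GrCoh.isQCoh_idealMod I)) (PPSheaf.GrCoh.isQCoh_idealMod _)
    fun q z => ?_⟩
  · obtain ⟨U, hU, hyU, -⟩ := exists_isAffineOpen_mem_and_subset (x := f y) (U := ⊤) trivial
    obtain ⟨V, hV, hyV, hVU⟩ := exists_isAffineOpen_mem_and_subset (show y ∈ f ⁻¹ᵁ U from hyU)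
    exact ⟨⟨(⟨U, hU⟩, ⟨V, hV⟩), hVU⟩, hyV⟩
  obtain ⟨⟨U, V⟩, hVU⟩ := q
  suffices h : ∀ g ∈ (I.comap f).ideal V, ∃ w, OmegaSh.idealSect (I.comap f) V.1 (β.app V.1 w) = g by
    obtain ⟨w, hw⟩ := h _ (OmegaLib.idealSect_mem (I.comap f) V z)
    exact ⟨w, OmegaLib.idealSect_injective _ V.1 hw⟩
  intro g hg
  rw [ModPairLib.ideal_comap I f U V hVU] at hg
  induction hg using Submodule.span_induction with
  | mem g hg =>
    obtain ⟨a, ha, rfl⟩ := hg
    obtain ⟨e, rfl⟩ := OmegaLib.exists_of_mem I U a ha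
    refine ⟨AModX.res _ hVU (InvX.pullElt f e), ?_⟩
    have e1 : β.app V.1 (AModX.res _ hVU (InvX.pullElt f e)) = AModX.res _ hVU (α.app U.1 e) := by
      rw [← hβ]
      exact AModX.app_res β hVU (InvX.pullElt f e)
    rw [e1]
    refine (OmegaLib.idealSect_map (I.comap f) hVU (α.app U.1 e)).trans ?_
    rw [hα, Scheme.Hom.appLE]
    rfl
  | zero => exact ⟨0, by rw [map_zero]; exact map_zero _⟩
  | add g g' _ _ hg hg' =>
    obtain ⟨w, rfl⟩ := hg
    obtain ⟨w', rfl⟩ := hg'
    exact ⟨w + w', by rw [map_add]; exact map_add _ _ _⟩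
  | smul r g _ hg =>
    obtain ⟨w, rfl⟩ := hg
    exact ⟨r • w, by rw [Scheme.Modules.Hom.app_smul, OmegaLib.idealSect_smul]; rfl⟩

end Groth.Agent.BlowCoh
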