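import Groth.Agent.BlowCoh.Push
import Groth.Agent.InvX.GenLocus

/-!
# The direct images of the structure sheaf and of the inverse of the exceptional ideal, globally
-/

set_option autoImplicit false
set_option linter.style.haveILetI false
set_option linter.unusedSectionVars false
set_option backward.isDefEq.respectTransparency false
set_option backward.isDefEq.respectTransparency.types false
set_option maxHeartbeats 400000

universe u

open CategoryTheory CategoryTheory.Limits AlgebraicGeometry TopologicalSpace Opposite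
open Groth.Agent.BlowUpLib Groth.Agent.AModX

noncomputable section

namespace Groth.Agent.BlowCoh

open Groth.Agent

variable {X Y : Scheme.{u}} {σ : X ⟶ Y} {I : Y.IdealSheafData} {d : ℕ}

theorem fU_fromSpec (U : Y.affineOpens) : fU σ U ≫ U.2.fromSpec = (σ ⁻¹ᵁ U.1).ι ≫ σ := by
  rw [fU, ← IsAffineOpen.isoSpec_inv_ι, Category.assoc, Iso.hom_inv_id_assoc]
  exact morphismRestrict_ι σ U.1

theorem image_top_le (U : Y.affineOpens) : (σ ⁻¹ᵁ U.1).ι ''ᵁ ⊤ ≤ σ ⁻¹ᵁ U.1 := Scheme.Opens.ι_image_le _ _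

theorem le_image_top (U : Y.affineOpens) : σ ⁻¹ᵁ U.1 ≤ (σ ⁻¹ᵁ U.1).ι ''ᵁ ⊤ := fun y hy =>
  ⟨⟨y, hy⟩, trivial, rfl⟩

/-- The structure map of the restriction on global functions. -/
theorem strHom_fU (U : Y.affineOpens) (r : Γ(Y, U.1)) :
    strHom (fU σ U) ⊤ r = (show Γ((σ ⁻¹ᵁ U.1).toScheme, ⊤) from resR (image_top_le U) (σ.app U.1 r)) := by
  have h1 : U.2.fromSpec.appLE U.1 ⊤ (by rw [U.2.fromSpec_preimage_self]) =
      (Scheme.ΓSpecIso Γ(Y, U.1)).inv := by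
    rw [Scheme.Hom.appLE, U.2.fromSpec_app_self, Category.assoc, ← Functor.map_comp]
    erw [(Spec Γ(Y, U.1)).presheaf.map_id]
    exact Category.comp_id _
  have h0 : ∀ {Z : Scheme.{u}} {g₁ g₂ : Z ⟶ Y} (_ : g₁ = g₂) (W : Z.Opens) (e₁ : W ≤ g₁ ⁻¹ᵁ U.1)
      (e₂ : W ≤ g₂ ⁻¹ᵁ U.1), g₁.appLE U.1 W e₁ = g₂.appLE U.1 W e₂ := by
    rintro Z g₁ _ rfl W e₁ e₂; rfl
  have hle : (⊤ : (σ ⁻¹ᵁ U.1).toScheme.Opens) ≤ (σ ⁻¹ᵁ U.1).ι ⁻¹ᵁ σ ⁻¹ᵁ U.1 := fun z _ => z.2
  have h2 : (Scheme.ΓSpecIso Γ(Y, U.1)).inv ≫ (fU σ U).appLE ⊤ ⊤ le_top =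
      σ.app U.1 ≫ (σ ⁻¹ᵁ U.1).ι.appLE (σ ⁻¹ᵁ U.1) ⊤ hle := by
    rw [← h1, Scheme.Hom.appLE_comp_appLE, ← Scheme.Hom.comp_appLE]
    exact h0 (fU_fromSpec U) ⊤ _ _
  rw [Scheme.Opens.ι_appLE] at h2
  exact congrArg (fun φ => φ.hom r) h2

variable (hI : HasGood I d) (hσ : BlowUp.IsBlowUp σ I) (hd : 0 < d)

include hσ hd

theorem app_bijective_good {U : Y.affineOpens} (G : Good I U d) : Function.Bijective (σ.app U.1) := by
  haveI := G.noeth
  haveI : Nonempty (Fin d) := ⟨⟨0, hd⟩⟩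
  obtain ⟨Cd⟩ := exists_chartsU G hσ
  have h := strHom_top_bijective Cd G.regular (isEff_excU G hσ) G.quasi hd
  have h2 : (strHom (fU σ U) ⊤ : Γ(Y, U.1) → _) = fun r => resR (image_top_le U) (σ.app U.1 r) :=
    funext (strHom_fU U)
  rw [h2] at h
  refine (Function.Bijective.of_comp_iff' ?_ _).1 h
  exact Function.bijective_iff_has_inverse.2 ⟨resR (le_image_top U),
    fun x => by rw [resR_resR]; exact resR_self x, fun x => by rw [resR_resR]; exact resR_self x⟩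

include hI

theorem app_bijective (V : Y.Opens) : Function.Bijective (σ.app V) :=
  app_bijective_of_basis (ClSub.unitToPush σ) (fun V y hy => by
    obtain ⟨U, hyU, hUV, ⟨G⟩⟩ := hI V y hy
    exact ⟨U.1, hUV, hyU, app_bijective_good hσ hd G⟩) V

theorem nonempty_pushforward_inverse' {L : X.Modules} {m : ℕ}
    (hL : ClSub.IsInverseOf L (ClSub.idealMod ((I.comap σ) ^ m))) (hm : m < d ∨ 1 < d) :
    Nonempty ((Scheme.Modules.pushforward σ).obj L ≅ Coh.structureModule Y) := by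
  obtain ⟨-, hLq⟩ := isQCoh_inverse hσ hL
  obtain ⟨s, hs⟩ := exists_isCanonical (isEffCartierIdeal_pow hσ.1 m) hLq hL
  let ψ : Coh.structureModule Y ⟶ (Scheme.Modules.pushforward σ).obj L :=
    InvX.ofSect (M := (Scheme.Modules.pushforward σ).obj L) (show Γ(L, σ ⁻¹ᵁ ⊤) from s)
  have hψ : ∀ (V : Y.Opens) (r : Γ(Y, V)),
      ψ.app V r = σ.app V r • res L (le_top : σ ⁻¹ᵁ V ≤ ⊤) s := fun V r => by
    refine (InvX.app_eq_smul ψ r).trans ?_
    rw [InvX.one_ofSect]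
    rfl
  have hbij := app_bijective_of_basis ψ fun V y hy => by
    obtain ⟨U, hyU, hUV, ⟨G⟩⟩ := hI V y hy
    refine ⟨U.1, hUV, hyU, ?_⟩
    haveI := G.noeth
    haveI : Nonempty (Fin d) := ⟨⟨0, hd⟩⟩
    obtain ⟨Cd⟩ := exists_chartsU G hσ
    obtain ⟨e⟩ := nonempty_restrict_inverse hσ hL G
    have hc : IsCanonical (exc G.a (fU σ U) ^ m)
        (show Γ(L.restrict (σ ⁻¹ᵁ U.1).ι, ⊤) from res L le_top s) := by
      rw [exc_fU G, ← FComplLib.comap_pow]
      exact hs.restrict _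
    have h := canonical_bijective Cd G.regular (isEff_excU G hσ) G.quasi m hm
      (QCoh.isQCoh_restrict _ hLq) e hc
    have h2 : ∀ r : Γ(Y, U.1), (show Γ(L, (σ ⁻¹ᵁ U.1).ι ''ᵁ ⊤) from strHom (fU σ U) ⊤ r •
        (show Γ(L.restrict (σ ⁻¹ᵁ U.1).ι, ⊤) from res L le_top s)) =
        res L (image_top_le U) (ψ.app U.1 r) := fun r => by
      rw [hψ, res_smul, res_res, strHom_fU]
      refine (InvUfdLib.restrict_smul_def _ _ _).trans ?_
      rw [Scheme.Opens.ι_appIso]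
      rfl
    have h3 : Function.Bijective (res L (image_top_le (σ := σ) U) : Γ(L, σ ⁻¹ᵁ U.1) → _) :=
      Function.bijective_iff_has_inverse.2 ⟨res L (le_image_top U),
        fun x => by rw [res_res]; exact res_self x, fun x => by rw [res_res]; exact res_self x⟩
    refine (Function.Bijective.of_comp_iff' h3 _).1 ?_
    rw [show (res L (image_top_le (σ := σ) U)) ∘ (ψ.app U.1) = _ from funext fun r => (h2 r).symm]
    exact h
  haveI : IsIso ψ := Scheme.Modules.Hom.isIso_iff_isIso_app.2 fun V =>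
    (ConcreteCategory.isIso_iff_bijective _).2 (hbij V)
  exact ⟨(asIso ψ).symm⟩

theorem nonempty_pushforward_inverse {L : X.Modules} {m : ℕ}
    (hL : ClSub.IsInverseOf L (ClSub.idealMod ((I.comap σ) ^ m))) (hm : m < d) :
    Nonempty ((Scheme.Modules.pushforward σ).obj L ≅ Coh.structureModule Y) :=
  nonempty_pushforward_inverse' hI hσ hd hL (Or.inl hm)

end Groth.Agent.BlowCoh
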