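import Groth.Agent.BlowCoh.Twist
import Groth.Agent.BlowCoh.PushGlobal

/-!
# Twists by small multiples of the exceptional divisor
-/

set_option autoImplicit false
set_option linter.style.haveILetI false
set_option linter.unusedSectionVars false
set_option backward.isDefEq.respectTransparency false
set_option backward.isDefEq.respectTransparency.types false
set_option maxHeartbeats 400000

universe u

open CategoryTheory CategoryTheory.Limits AlgebraicGeometry TopologicalSpace Opposite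
open Groth.Agent.BlowUpLib Groth.Agent.AModX Groth.Agent.QCoh.Ab

noncomputable section

namespace Groth.Agent.BlowCoh

open Groth.Agent

variable {X Y : Scheme.{u}} {σ : X ⟶ Y} {I : Y.IdealSheafData} {d : ℕ}
  (hI : HasGood I d) (hσ : BlowUp.IsBlowUp σ I) (hd : 0 < d) {L : X.Modules} {m : ℕ}
  (hL : ClSub.IsInverseOf L (ClSub.idealMod ((I.comap σ) ^ m))) (hm : m < d)
  {M : Y.Modules} (hM : PicF.IsInvertible M)

include hI hσ hd hL hm hM

theorem natPushEquiv_inverse (q : ℕ) :
    PnCoh.NatPushEquiv (Y := Y.toPresheafedSpace.carrier) σ.base (QCoh.abSheaf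
      (CohB1.tensorMod ((Scheme.Modules.pullback σ).obj M) L)) q :=
  PnCoh.H_push_equiv_natural_of_HU σ.base
    (fun W : Opens Y => ∃ U : Y.affineOpens, U.1 = W ∧ Nonempty (Good I U d) ∧
      ∃ U₀ : Y.Opens, U.1 ≤ U₀ ∧ Nonempty (M.restrict U₀.ι ≅ Coh.structureModule U₀.toScheme))
    (fun V y hy => by
      obtain ⟨U₀, hy₀, he⟩ := hM y
      obtain ⟨U, hyU, hUV, hG⟩ := hI (V ⊓ U₀) y ⟨hy, hy₀⟩
      exact ⟨U.1, hUV.trans inf_le_left, hyU, U, rfl, hG, U₀, hUV.trans inf_le_right, he⟩)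
    _ (fun W hW q => by
      obtain ⟨U, rfl, ⟨G⟩, U₀, hU, ⟨e⟩⟩ := hW
      haveI : Nonempty (Fin d) := ⟨⟨0, hd⟩⟩
      obtain ⟨Cd⟩ := exists_chartsU G hσ
      obtain ⟨r⟩ := nonempty_restrict_twist (σ := σ) e hU L
      obtain ⟨eL⟩ := nonempty_restrict_inverse hσ hL G
      have hq := QCoh.isQCoh_restrict (σ ⁻¹ᵁ U.1).ι (isQCoh_inverse hσ hL).2
      exact subsingleton_HU_preimage G hσ Cd
        (KFlatLib.isQCoh_tensor (ProjUPX.isQCoh_of_isInvertible (PicClLib.isInvertible_pullback σ hM))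
          (isQCoh_inverse hσ hL).2) r (embTwist Cd G.regular (isEff_excU G hσ) m eL hq) (by omega) q) q

theorem nonempty_pushforward_inverse_twist :
    Nonempty ((Scheme.Modules.pushforward σ).obj (CohB1.tensorMod ((Scheme.Modules.pullback σ).obj M) L) ≅ M) := by
  haveI : HasInjectiveResolutions X.Modules := KFlatLib.hasInjectiveResolutions_modules
  obtain ⟨e⟩ := S0927.result σ L M (H23.PullPush.isFinLocFree_of_isInvertible hM) 0
  obtain ⟨p⟩ := nonempty_pushforward_inverse hI hσ hd hL hm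
  obtain ⟨u⟩ := H23.PicMul.unit M
  let z := (Scheme.Modules.pushforward σ).rightDerivedZeroIsoSelf
  exact ⟨(z.app _).symm ≪≫ e.symm ≪≫ PicGrp.tensorModIso (Iso.refl M) (z.app _ ≪≫ p) ≪≫ u⟩

omit hm in
theorem nonempty_pushforward_inverse_twist_of_two_le (hd2 : 2 ≤ d) :
    Nonempty ((Scheme.Modules.pushforward σ).obj (CohB1.tensorMod ((Scheme.Modules.pullback σ).obj M) L) ≅ M) := by
  haveI : HasInjectiveResolutions X.Modules := KFlatLib.hasInjectiveResolutions_modules
  obtain ⟨e⟩ := S0927.result σ L M (H23.PullPush.isFinLocFree_of_isInvertible hM) 0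
  obtain ⟨p⟩ := nonempty_pushforward_inverse' hI hσ hd hL (Or.inr hd2)
  obtain ⟨u⟩ := H23.PicMul.unit M
  let z := (Scheme.Modules.pushforward σ).rightDerivedZeroIsoSelf
  exact ⟨(z.app _).symm ≪≫ e.symm ≪≫ PicGrp.tensorModIso (Iso.refl M) (z.app _ ≪≫ p) ≪≫ u⟩

end Groth.Agent.BlowCoh
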