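import Groth.Agent.BlowCoh.KoszulVanish
import Groth.Agent.KFlatLib.Perfect.Tensor

/-!
# The Koszul sequence of an invertible module generated by two sections
-/

set_option autoImplicit false
set_option linter.style.haveILetI false
set_option linter.unusedSectionVars false
set_option backward.isDefEq.respectTransparency false
set_option backward.isDefEq.respectTransparency.types false
set_option maxHeartbeats 400000

universe u

open CategoryTheory CategoryTheory.Limits AlgebraicGeometry TopologicalSpace Opposite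
open Groth.Agent.ExtPowSh
open Groth.Agent.H23.PicMul

noncomputable section

namespace Groth.Agent.BlowCoh

open Groth.Agent

variable {X : Scheme.{u}} [IsLocallyNoetherian X]

/-- `0 → N ⊗ G'^2 → (N ⊗ G')^2 → N → 0`. -/
theorem exists_koszul_two {G G' : X.Modules} (hG' : PicF.IsInvertible G') (hinv : ClSub.IsInverseOf G G')
    (ψ : FlatMod.freeMod X 2 ⟶ G) [Epi ψ] {N : X.Modules} (hN : FlatMod.IsFinLocFree N) :
    ∃ S : ShortComplex X.Modules, S.ShortExact ∧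
      PicF.cl S.X₁ = PicF.cl N * PicF.cl G' ^ 2 ∧
      Nonempty (S.X₂ ≅ ∐ fun _ : Fin ((2 : ℕ).choose 1) => CohB1.tensorMod N G') ∧ PicF.cl S.X₃ = PicF.cl N := by
  have hG'f := H23.PullPush.isFinLocFree_of_isInvertible hG'
  obtain ⟨ε⟩ := hinv
  let F : X.Modules ⥤ X.Modules := DCoh.tensorBi.flip.obj G'
  let E : X.Modules := tens (FlatMod.freeMod X 2) G'
  let φ : E ⟶ Coh.structureModule X := F.map ψ ≫ (Jets.tbiIso G G').inv ≫ ε.hom
  haveI : Epi (F.map ψ) := inferInstance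
  haveI : Epi φ := epi_comp _ _
  have hS : (ShortComplex.mk (kernel.ι φ) φ (kernel.condition φ)).ShortExact :=
    ShortComplex.ShortExact.mk' (ShortComplex.exact_of_f_is_kernel _ (kernelIsKernel φ)) inferInstance inferInstance
  have hE : FlatMod.IsFinLocFreeOfRank 2 E := fun x => by
    obtain ⟨U, hxU, ⟨e⟩⟩ := hG' x
    refine ⟨U, hxU, ?_⟩
    obtain ⟨t⟩ := H23.PicMul.pull U.ι (FlatMod.freeMod X 2) G'
    obtain ⟨v⟩ := H23.PicMul.unit ((Scheme.Modules.pullback U.ι).obj (FlatMod.freeMod X 2))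
    let P := Scheme.Modules.restrictFunctorIsoPullback U.ι
    obtain ⟨q⟩ := AVPoinc.nonempty_pullback_freeMod U.ι 2
    exact ⟨(Scheme.Modules.restrictFunctor U.ι).mapIso (Jets.tbiIso _ _).symm ≪≫ P.app _ ≪≫ t ≪≫
      PicGrp.tensorModIso (Iso.refl _) ((P.app G').symm ≪≫ e) ≪≫ v ≪≫ q⟩
  have hO : FlatMod.IsFinLocFreeOfRank 1 (Coh.structureModule X) :=
    InvEnd.isFinLocFreeOfRank_one (PicLoc.isInvertible_structureModule X)
  have hK : FlatMod.IsFinLocFreeOfRank 1 (kernel φ) := H9PB.isFinLocFreeOfRank_kernel hS hE hO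
  have hKf := ExtPowSh.flf_of_rank hK
  obtain ⟨l⟩ := PnEuler.nonempty_L_one (QCoh.isQCoh_of_isFinLocFree hKf)
  obtain ⟨f, g, w, hse⟩ := PnEuler.exists_ses_extPow hS hKf (Iso.refl _) (ExtPowSh.flf_of_rank hO) 1
  have hz : IsZero (L (kernel φ) 2) := by
    have hr := ExtPowSh.isFinLocFreeOfRank (i := 2) hK
    rw [Nat.choose_eq_zero_of_lt (Nat.lt_succ_self 1)] at hr
    exact ExtPowSh.isZero_of_rank_zero hr
  haveI : IsIso g := hse.isIso_g_iff.2 hz
  let R : ℕ → X.Modules ⥤ X.Modules := fun p => DCoh.tensorBi.flip.obj (CohB1.tensorPow G' p)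
  obtain ⟨a⟩ := ExtPowSh.nonempty_twist_iso (E := FlatMod.freeMod X 2) 2 (PnEuler.isQCoh_free X 2) hG'
  obtain ⟨b⟩ := PnEuler.nonempty_extPow_free X 2 2
  haveI : Unique (Fin ((2 : ℕ).choose 2)) := by rw [Nat.choose_self]; infer_instance
  let e₁ : kernel φ ≅ CohB1.tensorPow G' 2 := l.symm ≪≫ (asIso g).symm ≪≫ a ≪≫
    (R 2).mapIso (b ≪≫ coproductUniqueIso _) ≪≫ CurveTensor.structureTensorIso _
  obtain ⟨a'⟩ := ExtPowSh.nonempty_twist_iso (E := FlatMod.freeMod X 2) 1 (PnEuler.isQCoh_free X 2) hG'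
  obtain ⟨b'⟩ := PnEuler.nonempty_extPow_free X 2 1
  obtain ⟨l'⟩ := PnEuler.nonempty_L_one (QCoh.isQCoh_of_isFinLocFree (ExtPowSh.flf_of_rank hE))
  let T : X.Modules ⥤ X.Modules := DCoh.tensorBi.obj N
  have htbi : ∀ A : X.Modules, PicF.cl (T.obj A) = PicF.cl N * PicF.cl A := fun A => by
    rw [← cl_tensor]; exact cl_eq_iff.2 ⟨(Jets.tbiIso N A).symm⟩
  obtain ⟨c⟩ := (cl_eq_iff (A := T.obj (CohB1.tensorPow G' 1)) (B := CohB1.tensorMod N G')).1 (by
    rw [htbi, cl_tensor, cl_tensorPow, pow_one])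
  let e₂ : T.obj E ≅ ∐ fun _ : Fin ((2 : ℕ).choose 1) => CohB1.tensorMod N G' :=
    T.mapIso (l'.symm ≪≫ a' ≪≫ (R 1).mapIso b' ≪≫ PreservesCoproduct.iso (R 1) _ ≪≫
      Sigma.mapIso fun _ => CurveTensor.structureTensorIso _) ≪≫
      PreservesCoproduct.iso T _ ≪≫ Sigma.mapIso fun _ => c
  refine ⟨_, CurveTensor.shortExact_tensor hN _ _ _ hS, ?_, ⟨e₂⟩, ?_⟩
  · show PicF.cl (T.obj (kernel φ)) = _
    rw [htbi, cl_eq_iff.2 ⟨e₁⟩, cl_tensorPow]
  · show PicF.cl (T.obj (Coh.structureModule X)) = _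
    rw [htbi, ← H23.PicMul.one_def, mul_one]

end Groth.Agent.BlowCoh
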