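import Groth.Agent.BlowCoh.PnJets

/-!
# Cohomology of twisted powers of the ideal of a point of projective space
-/

set_option autoImplicit false
set_option linter.style.haveILetI false
set_option linter.unusedSectionVars false
set_option backward.isDefEq.respectTransparency false
set_option backward.isDefEq.respectTransparency.types false
set_option maxHeartbeats 400000

universe u

open CategoryTheory CategoryTheory.Limits AlgebraicGeometry TopologicalSpace Opposite
open Groth.Agent.PnCoh.Finite (mapLin deltaLin)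

noncomputable section

namespace Groth.Agent.BlowCoh

open Groth.Agent

namespace Jets

variable {X : Scheme.{u}} (T : X.Modules) (J : X.IdealSheafData)

/-- The sequence `0 → T ⊗ I → T → T ⊗ O/I → 0`. -/
def seq : ShortComplex X.Modules :=
  ShortComplex.mk ((DCoh.tensorBi.obj T).map (ClSub.idealModι J) ≫ (unitIso T).inv) (theta T J) (by
    rw [theta, Category.assoc, Iso.inv_hom_id_assoc, ← Functor.map_comp,
      show ClSub.idealModι J ≫ ClSub.toSubscheme J = 0 from kernel.condition _]
    exact Functor.map_zero _ _ _)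

theorem shortExact_seq (hT : PicF.IsInvertible T) : (seq T J).ShortExact :=
  by
    have h := CurveTensor.shortExact_tensor (H23.PullPush.isFinLocFree_of_isInvertible hT) (ClSub.idealModι J)
      (ClSub.toSubscheme J) (kernel.condition _) (Big.shortExact_ideal J)
    refine ShortComplex.shortExact_of_iso ?_ h
    exact ShortComplex.isoMk (Iso.refl _) (unitIso T).symm (Iso.refl _) (by simp [seq]) (by simp [seq, theta])

/-- Tensor products as values of the bifunctor. -/
def tbiIso (M N : X.Modules) : CohB1.tensorMod M N ≅ (DCoh.tensorBi.obj M).obj N := Iso.refl _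

theorem deltaLin_map_g (k : Type u) [Field k] [X.Over (Spec (CommRingCat.of k))] {S : ShortComplex X.Modules}
    (hS : S.ShortExact) (t : Coh.HH X S.X₂ 0) : deltaLin k hS 0 (mapLin k S.g 0 t) = 0 :=
  (QCoh.Ab.connecting_eq_zero_iff (X := X.toPresheafedSpace.carrier) (QCoh.toAb_shortExact hS) 0 _).2 ⟨t, rfl⟩

variable {T J} (k : Type u) [Field k] [X.Over (Spec (CommRingCat.of k))] [IsProper (X ↘ Spec (CommRingCat.of k))]
  (hT : PicF.IsInvertible T) {p : X} (hp : IsClosed ({p} : Set X)) (hJ : (J.support : Set X) ⊆ {p})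

include k hT in
theorem isCoh_ideal : Coh.IsCoh ((DCoh.tensorBi.obj T).obj (ClSub.idealMod J)) := by
  haveI := CurveCohLib.isNoetherian_of_proper (k := k) (X := X)
  exact CurveTensor.isCoh_tensor (H23.PullPush.isFinLocFree_of_isInvertible hT)
    (QCoh.isCoh_kernel QCoh.isCoh_structureModule' (ParShLib.isCoh_quotMod J) (ClSub.toSubscheme J))

include hT hp hJ

theorem finrank_h0_quot :
    letI := CurveCohLib.stalkModuleK k (ClSub.quotMod J) p
    Module.finrank k (Coh.HH X ((DCoh.tensorBi.obj T).obj (ClSub.quotMod J)) 0) =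
      Module.finrank k ((ClSub.quotMod J).presheaf.stalk p) := by
  haveI := CurveCohLib.isNoetherian_of_proper (k := k) (X := X)
  letI := CurveCohLib.stalkModuleK k (ClSub.quotMod J) p
  letI := CurveCohLib.stalkModuleK k ((DCoh.tensorBi.obj T).obj (ClSub.quotMod J)) p
  obtain ⟨l, -⟩ := exists_h0_stalk k hT hp hJ
  obtain ⟨b⟩ := CurveTensor.exists_basis_stalk (InvEnd.isFinLocFreeOfRank_one hT) p
  rw [l.finrank_eq, CurveTensor.finrank_stalk_tensor k p b ((CurveCohLib.euler_eq_sum_stalks (k := k)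
    (ParShLib.isCoh_quotMod J) (fun z hz => Set.mem_singleton_iff.1 (hJ (Big.support_quotMod_subset J hz)) ▸ hp)
    {p} (by rw [Finset.coe_singleton]; exact (Big.support_quotMod_subset J).trans hJ)).2 p (Finset.mem_singleton_self p)),
    one_mul]

theorem finite_h0_quot : Module.Finite k (Coh.HH X ((DCoh.tensorBi.obj T).obj (ClSub.quotMod J)) 0) :=
  CurveCohLib.finite_HH (isCoh_quot k hT hp hJ) 0

theorem nonempty_equiv_high (q : ℕ) :
    Nonempty (Coh.HH X ((DCoh.tensorBi.obj T).obj (ClSub.idealMod J)) (q + 2) ≃ₗ[k] Coh.HH X T (q + 2)) := by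
  have hS := shortExact_seq T J hT
  exact ⟨LinearEquiv.ofBijective (mapLin k (seq T J).f (q + 2))
    ⟨PnEuler.injective_f_succ k hS (q + 1) (subsingleton_quot k hT hp hJ (q + 1) (by omega)),
      fun x => PnEuler.exact₂ k hS (q + 2) ((subsingleton_quot k hT hp hJ (q + 2) (by omega)).elim _ _)⟩⟩

theorem of_surjective (h1 : Subsingleton (Coh.HH X T 1)) (hs : Function.Surjective (mapLin k (theta T J) 0)) :
    Module.finrank k (Coh.HH X ((DCoh.tensorBi.obj T).obj (ClSub.idealMod J)) 0) +
        Module.finrank k (Coh.HH X ((DCoh.tensorBi.obj T).obj (ClSub.quotMod J)) 0) =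
      Module.finrank k (Coh.HH X T 0) ∧
      Subsingleton (Coh.HH X ((DCoh.tensorBi.obj T).obj (ClSub.idealMod J)) 1) := by
  have hS := shortExact_seq T J hT
  haveI := CurveCohLib.isNoetherian_of_proper (k := k) (X := X)
  haveI : Module.Finite k (Coh.HH X (seq T J).X₂ 0) :=
    CurveCohLib.finite_HH (CurveDeg.isCoh_of_isInvertible hT) 0
  refine ⟨(PnEuler.finrank_add k hS 0 (PnEuler.injective_f_zero k hS) hs).2.2, ?_⟩
  refine subsingleton_of_forall_eq 0 fun x => ?_
  obtain ⟨y, rfl⟩ := PnEuler.exact₁ k hS 0 (x := x) (h1.elim _ _)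
  obtain ⟨t, rfl⟩ := hs y
  exact deltaLin_map_g k hS t

theorem of_injective (h1 : Subsingleton (Coh.HH X T 1)) (hi : Function.Injective (mapLin k (theta T J) 0)) :
    Subsingleton (Coh.HH X ((DCoh.tensorBi.obj T).obj (ClSub.idealMod J)) 0) ∧
      Module.finrank k (Coh.HH X ((DCoh.tensorBi.obj T).obj (ClSub.idealMod J)) 1) +
          Module.finrank k (Coh.HH X T 0) =
        Module.finrank k (Coh.HH X ((DCoh.tensorBi.obj T).obj (ClSub.quotMod J)) 0) := by
  have hS := shortExact_seq T J hT
  refine ⟨subsingleton_of_forall_eq 0 fun x => PnEuler.injective_f_zero k hS ?_, ?_⟩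
  · rw [map_zero]
    exact hi ((PnEuler.f_g k hS 0 x).trans (map_zero _).symm)
  · haveI := finite_h0_quot k hT hp hJ
    haveI : Module.Finite k (Coh.HH X (seq T J).X₃ 0) := finite_h0_quot k hT hp hJ
    have hi' : Function.Injective (mapLin k (seq T J).g 0) := hi
    let δ := deltaLin k hS 0
    have hsurj : Function.Surjective δ := fun x => PnEuler.exact₁ k hS 0 (h1.elim _ _)
    have hker : LinearMap.ker δ = LinearMap.range (mapLin k (seq T J).g 0) :=
      le_antisymm (fun y hy => PnCoh.Finite.exists_of_deltaLin_eq_zero k hS 0 hy) (by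
        rintro _ ⟨t, rfl⟩
        exact deltaLin_map_g k hS t)
    have h := δ.finrank_range_add_finrank_ker
    rw [hker, LinearMap.range_eq_top.2 hsurj, finrank_top, LinearMap.finrank_range_of_inj hi'] at h
    exact h

end Jets

variable {n : ℕ} {k : Type u} [Field k] [IsAlgClosed k] {p : ↥(CohB1.ProjSpace n k)}
  (hp : IsClosed ({p} : Set ↥(CohB1.ProjSpace n k)))

/-- The twisted power of the ideal of the point. -/
abbrev twIdeal (d : ℤ) (b : ℕ) : (CohB1.ProjSpace n k).Modules :=
  CohB1.tensorMod (Twist.twistProjSpace n k d) (ClSub.idealMod (ptPow hp b))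

/-- The number of jets of order `b`. -/
theorem finrank_h0_quot_pt (hn : 0 < n) (d : ℤ) (b : ℕ) :
    Module.finrank k (Coh.HH (CohB1.ProjSpace n k)
      ((DCoh.tensorBi.obj (Twist.twistProjSpace n k d)).obj (ClSub.quotMod (ptPow hp b))) 0) = (b + n - 1).choose n := by
  letI := CurveCohLib.stalkModuleK k (ClSub.quotMod (ptPow hp b)) p
  rw [Jets.finrank_h0_quot k (isInvertible_Tw d) hp (support_ptPow hp b)]
  rcases Nat.eq_zero_or_pos b with rfl | hb
  · haveI := ParShLib.subsingleton_stalk_quotMod (ptPow hp 0) (x := p) (fun h => by simp [ptPow] at h; exact h)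
    rw [Module.finrank_zero_of_subsingleton, Nat.choose_eq_zero_of_lt (by omega)]
  · obtain ⟨c, rfl⟩ := Nat.exists_eq_add_of_le' hb
    rw [← Jets.finrank_h0_quot k (isInvertible_Tw (c : ℤ)) hp (support_ptPow hp (c + 1)),
      ← (LinearEquiv.ofBijective _ ⟨injective_theta hp (show c < c + 1 by omega),
        surjective_theta hp (le_refl (c + 1))⟩).finrank_eq, finrank_h0_Tw]
    congr 1
    omega

theorem subsingleton_Tw (d : ℤ) (q : ℕ) (h₀ : ¬ (q = 0 ∧ 0 ≤ d)) (hn : ¬ (q = n ∧ d ≤ -((n : ℤ) + 1))) :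
    Subsingleton (Coh.HH (CohB1.ProjSpace n k) (Twist.twistProjSpace n k d) q) :=
  S0844.result k n d q h₀ hn

theorem finrank_twIdeal (d : ℤ) (b q : ℕ) : Module.finrank k (Coh.HH (CohB1.ProjSpace n k) (twIdeal hp d b) q) =
    Module.finrank k (Coh.HH (CohB1.ProjSpace n k)
      ((DCoh.tensorBi.obj (Twist.twistProjSpace n k d)).obj (ClSub.idealMod (ptPow hp b))) q) :=
  (PnEuler.hhIso k (Jets.tbiIso _ _) q).finrank_eq

/-- Degree `≥ 2`: no change. -/
theorem finrank_twIdeal_high (d : ℤ) (b q : ℕ) :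
    Module.finrank k (Coh.HH (CohB1.ProjSpace n k) (twIdeal hp d b) (q + 2)) =
      Module.finrank k (Coh.HH (CohB1.ProjSpace n k) (Twist.twistProjSpace n k d) (q + 2)) := by
  obtain ⟨e⟩ := Jets.nonempty_equiv_high k (isInvertible_Tw d) hp (support_ptPow hp b) q
  rw [finrank_twIdeal hp, e.finrank_eq]

theorem finite_twIdeal (d : ℤ) (b q : ℕ) :
    Module.Finite k (Coh.HH (CohB1.ProjSpace n k) (twIdeal hp d b) q) := by
  haveI := CurveCohLib.finite_HH (k := k) (Jets.isCoh_ideal k (J := ptPow hp b) (isInvertible_Tw (n := n) d)) q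
  exact Module.Finite.equiv (PnEuler.hhIso k (Jets.tbiIso _ _) q).symm

/-- Degrees `0` and `1` when the twist is at least `b - 1`. -/
theorem finrank_twIdeal_of_le (hn : 2 ≤ n) {d : ℤ} {b : ℕ} (h : (b : ℤ) ≤ d + 1) :
    (Module.finrank k (Coh.HH (CohB1.ProjSpace n k) (twIdeal hp d b) 0) : ℤ) =
        ((d + n).toNat.choose n : ℤ) - ((b + n - 1).choose n : ℤ) ∧
      Module.finrank k (Coh.HH (CohB1.ProjSpace n k) (twIdeal hp d b) 1) = 0 := by
  rw [finrank_twIdeal hp, finrank_twIdeal hp]
  have h1 : Subsingleton (Coh.HH (CohB1.ProjSpace n k) (Twist.twistProjSpace n k d) 1) :=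
    subsingleton_Tw d 1 (fun hc => by omega) (fun hc => by omega)
  by_cases hd : 0 ≤ d
  · obtain ⟨c, rfl⟩ := Int.eq_ofNat_of_zero_le hd
    obtain ⟨he, hs⟩ := Jets.of_surjective k (isInvertible_Tw _) hp (support_ptPow hp b) h1
      (surjective_theta hp (show b ≤ c + 1 by omega))
    rw [finrank_h0_quot_pt hp (by omega), finrank_h0_Tw] at he
    refine ⟨?_, Module.finrank_zero_of_subsingleton⟩
    rw [show ((c : ℤ) + n).toNat = c + n by omega]
    omega
  · obtain rfl : b = 0 := by omega
    have hT0 : Subsingleton (Coh.HH (CohB1.ProjSpace n k) (Twist.twistProjSpace n k d) 0) :=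
      subsingleton_Tw d 0 (fun hc => hd hc.2) (fun hc => by omega)
    obtain ⟨h0, he⟩ := Jets.of_injective k (isInvertible_Tw _) hp (support_ptPow hp 0) h1
      (fun x y _ => hT0.elim x y)
    rw [finrank_h0_quot_pt hp (by omega), Nat.choose_eq_zero_of_lt (by omega)] at he
    refine ⟨?_, by omega⟩
    rw [Module.finrank_zero_of_subsingleton, Nat.choose_eq_zero_of_lt (show (d + n).toNat < n by omega),
      Nat.choose_eq_zero_of_lt (show 0 + n - 1 < n by omega)]
    simp

/-- Degrees `0` and `1` when the twist is at most `b - 1`. -/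
theorem finrank_twIdeal_of_ge (hn : 2 ≤ n) {d : ℤ} {b : ℕ} (h : d + 1 ≤ (b : ℤ)) :
    Module.finrank k (Coh.HH (CohB1.ProjSpace n k) (twIdeal hp d b) 0) = 0 ∧
      (Module.finrank k (Coh.HH (CohB1.ProjSpace n k) (twIdeal hp d b) 1) : ℤ) =
        ((b + n - 1).choose n : ℤ) - ((d + n).toNat.choose n : ℤ) := by
  rw [finrank_twIdeal hp, finrank_twIdeal hp]
  have h1 : Subsingleton (Coh.HH (CohB1.ProjSpace n k) (Twist.twistProjSpace n k d) 1) :=
    subsingleton_Tw d 1 (fun hc => by omega) (fun hc => by omega)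
  by_cases hd : 0 ≤ d
  · obtain ⟨c, rfl⟩ := Int.eq_ofNat_of_zero_le hd
    obtain ⟨h0, he⟩ := Jets.of_injective k (isInvertible_Tw _) hp (support_ptPow hp b) h1
      (injective_theta hp (show c < b by omega))
    rw [finrank_h0_quot_pt hp (by omega), finrank_h0_Tw] at he
    refine ⟨Module.finrank_zero_of_subsingleton, ?_⟩
    rw [show ((c : ℤ) + n).toNat = c + n by omega]
    omega
  · have hT0 : Subsingleton (Coh.HH (CohB1.ProjSpace n k) (Twist.twistProjSpace n k d) 0) :=
      subsingleton_Tw d 0 (fun hc => hd hc.2) (fun hc => by omega)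
    obtain ⟨h0, he⟩ := Jets.of_injective k (isInvertible_Tw _) hp (support_ptPow hp b) h1
      (fun x y _ => hT0.elim x y)
    rw [finrank_h0_quot_pt hp (by omega), Module.finrank_zero_of_subsingleton (M := Coh.HH (CohB1.ProjSpace n k) (Twist.twistProjSpace n k d) 0)] at he
    refine ⟨Module.finrank_zero_of_subsingleton, ?_⟩
    rw [Nat.choose_eq_zero_of_lt (show (d + n).toNat < n by omega)]
    omega

end Groth.Agent.BlowCoh
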