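import Groth.Agent.PnEuler.ExtLine
import Groth.Agent.PnEuler.ExtFree
import Groth.Agent.PnEuler.Coh
import Groth.Agent.ExtPowSh.Twist
import Groth.Agent.H9PB.Split
import Groth.Agent.Lib.CurveTensor
import Groth.Agent.InvX.Pullback
import Groth.Agent.AVPoinc.ExtPowFree
import Groth.Agent.BlowCoh.PnTwist

/-!
# Vanishing along the Koszul complex of a generated invertible module
-/

set_option autoImplicit false
set_option linter.style.haveILetI false
set_option linter.unusedSectionVars false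
set_option backward.isDefEq.respectTransparency false
set_option backward.isDefEq.respectTransparency.types false
set_option maxHeartbeats 400000

universe u

open CategoryTheory CategoryTheory.Limits AlgebraicGeometry TopologicalSpace Opposite
open Groth.Agent.ExtPowSh

noncomputable section

namespace Groth.Agent.BlowCoh

open Groth.Agent

variable {X : Scheme.{u}} [IsLocallyNoetherian X] (k : Type u) [Field k] [X.Over (Spec (CommRingCat.of k))]

include k in
theorem koszul_vanishing {n : ℕ} {G G' : X.Modules} (hG' : PicF.IsInvertible G')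
    (hinv : ClSub.IsInverseOf G G') (ψ : FlatMod.freeMod X (n + 1) ⟶ G) [Epi ψ] {N : X.Modules}
    (hN : PicF.IsInvertible N)
    (h : ∀ m ≤ n, ∀ j ≤ m, Subsingleton (Coh.HH X (CohB1.tensorMod N (CohB1.tensorPow G' m)) j)) :
    ∀ j ≤ n, Subsingleton (Coh.HH X (CohB1.tensorMod N (CohB1.tensorPow G' (n + 1))) j) := by
  let F : X.Modules ⥤ X.Modules := DCoh.tensorBi.flip.obj G'
  have hG'f := H23.PullPush.isFinLocFree_of_isInvertible hG'
  obtain ⟨ε⟩ := hinv
  let E : X.Modules := tens (FlatMod.freeMod X (n + 1)) G'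
  let φ : E ⟶ Coh.structureModule X := F.map ψ ≫ (Jets.tbiIso G G').inv ≫ ε.hom
  haveI : Epi (F.map ψ) := inferInstance
  haveI : Epi φ := epi_comp _ _
  have hS : (ShortComplex.mk (kernel.ι φ) φ (kernel.condition φ)).ShortExact :=
    ShortComplex.ShortExact.mk' (ShortComplex.exact_of_f_is_kernel _ (kernelIsKernel φ)) inferInstance inferInstance
  have hE : FlatMod.IsFinLocFreeOfRank (n + 1) E := fun x => by
    obtain ⟨U, hxU, ⟨e⟩⟩ := hG' x
    refine ⟨U, hxU, ?_⟩
    obtain ⟨t⟩ := H23.PicMul.pull U.ι (FlatMod.freeMod X (n + 1)) G'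
    obtain ⟨v⟩ := H23.PicMul.unit ((Scheme.Modules.pullback U.ι).obj (FlatMod.freeMod X (n + 1)))
    let P := Scheme.Modules.restrictFunctorIsoPullback U.ι
    obtain ⟨q⟩ := AVPoinc.nonempty_pullback_freeMod U.ι (n + 1)
    exact ⟨(Scheme.Modules.restrictFunctor U.ι).mapIso (Jets.tbiIso _ _).symm ≪≫ P.app _ ≪≫ t ≪≫
      PicGrp.tensorModIso (Iso.refl _) ((P.app G').symm ≪≫ e) ≪≫ v ≪≫
      q⟩
  have hO : FlatMod.IsFinLocFreeOfRank 1 (Coh.structureModule X) :=
    InvEnd.isFinLocFreeOfRank_one (PicLoc.isInvertible_structureModule X)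
  have hK : FlatMod.IsFinLocFreeOfRank n (kernel φ) := H9PB.isFinLocFreeOfRank_kernel hS hE hO
  have hKf := ExtPowSh.flf_of_rank hK
  have hEq : Coh.IsQCoh E := QCoh.isQCoh_of_isFinLocFree (ExtPowSh.flf_of_rank hE)
  have hNf := H23.PullPush.isFinLocFree_of_isInvertible hN
  let T : X.Modules ⥤ X.Modules := DCoh.tensorBi.obj N
  have hmid : ∀ p j, p ≤ n + 1 → Subsingleton (Coh.HH X (CohB1.tensorMod N (CohB1.tensorPow G' p)) j) →
      Subsingleton (Coh.HH X (T.obj (L E p)) j) := fun p j _ hs => by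
    obtain ⟨a⟩ := ExtPowSh.nonempty_twist_iso (E := FlatMod.freeMod X (n + 1)) p (PnEuler.isQCoh_free X (n + 1)) hG'
    obtain ⟨b⟩ := PnEuler.nonempty_extPow_free X (n + 1) p
    let R : X.Modules ⥤ X.Modules := DCoh.tensorBi.flip.obj (CohB1.tensorPow G' p)
    let one : R.obj (Coh.structureModule X) ≅ CohB1.tensorPow G' p := CurveTensor.structureTensorIso _
    let e : T.obj (L E p) ≅ ∐ fun _ : Fin ((n + 1).choose p) => CohB1.tensorMod N (CohB1.tensorPow G' p) :=
      T.mapIso (a ≪≫ R.mapIso b ≪≫ PreservesCoproduct.iso R _ ≪≫ Sigma.mapIso fun _ => one) ≪≫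
        PreservesCoproduct.iso T _ ≪≫ Sigma.mapIso fun _ => (Jets.tbiIso _ _).symm
    haveI := PnEuler.subsingleton_sigma k (CohB1.tensorMod N (CohB1.tensorPow G' p)) ((n + 1).choose p) j hs
    exact (PnEuler.hhIso k e j).toEquiv.subsingleton
  have hses : ∀ p, ∃ S : ShortComplex X.Modules, S.ShortExact ∧ Nonempty (S.X₁ ≅ T.obj (L (kernel φ) (p + 1))) ∧
      Nonempty (S.X₂ ≅ T.obj (L E (p + 1))) ∧ Nonempty (S.X₃ ≅ T.obj (L (kernel φ) p)) := fun p => by
    obtain ⟨f, g, w, hse⟩ := PnEuler.exists_ses_extPow hS hKf (Iso.refl _) (ExtPowSh.flf_of_rank hO) p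
    exact ⟨_, CurveTensor.shortExact_tensor hNf f g w hse, ⟨Iso.refl _⟩, ⟨Iso.refl _⟩, ⟨Iso.refl _⟩⟩
  have key : ∀ m ≤ n, ∀ j ≤ m, Subsingleton (Coh.HH X (T.obj (L (kernel φ) m)) j) := by
    intro m
    induction m with
    | zero =>
      intro _ j hj
      obtain ⟨l⟩ := PnEuler.nonempty_L_zero (QCoh.isQCoh_of_isFinLocFree hKf)
      haveI : Subsingleton (Coh.HH X (CohB1.tensorMod N (Coh.structureModule X)) j) := h 0 (Nat.zero_le n) j hj
      exact (PnEuler.hhIso k (T.mapIso l ≪≫ (Jets.tbiIso N (Coh.structureModule X)).symm) j).toEquiv.subsingleton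
    | succ m ih =>
      intro hm j hj
      obtain ⟨S, hSe, ⟨e₁⟩, ⟨e₂⟩, ⟨e₃⟩⟩ := hses m
      haveI h₂ := hmid (m + 1) j (by omega) (h (m + 1) hm j hj)
      have h₂' : Subsingleton (Coh.HH X S.X₂ j) := (PnEuler.hhIso k e₂ j).toEquiv.subsingleton
      have h₁ : Subsingleton (Coh.HH X S.X₁ j) := by
        cases j with
        | zero => exact PnEuler.subsingleton_X₁_zero k hSe h₂'
        | succ j =>
          haveI := ih (by omega) j (by omega)
          exact PnEuler.subsingleton_X₁_succ k hSe j h₂' (PnEuler.hhIso k e₃ j).toEquiv.subsingleton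
      exact (PnEuler.hhIso k e₁ j).symm.toEquiv.subsingleton
  intro j hj
  obtain ⟨S, hSe, ⟨e₁⟩, ⟨e₂⟩, ⟨e₃⟩⟩ := hses n
  have hz : IsZero S.X₁ := by
    refine IsZero.of_iso (T.map_isZero ?_) e₁
    have hr := ExtPowSh.isFinLocFreeOfRank (i := n + 1) hK
    rw [Nat.choose_eq_zero_of_lt (Nat.lt_succ_self n)] at hr
    exact ExtPowSh.isZero_of_rank_zero hr
  haveI : IsIso S.g := hSe.isIso_g_iff.2 hz
  haveI := key n le_rfl j hj
  haveI h₂ : Subsingleton (Coh.HH X (T.obj (L E (n + 1))) j) :=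
    (PnEuler.hhIso k (e₂.symm ≪≫ asIso S.g ≪≫ e₃) j).toEquiv.subsingleton
  obtain ⟨a⟩ := ExtPowSh.nonempty_twist_iso (E := FlatMod.freeMod X (n + 1)) (n + 1) (PnEuler.isQCoh_free X (n + 1)) hG'
  obtain ⟨b⟩ := PnEuler.nonempty_extPow_free X (n + 1) (n + 1)
  let R : X.Modules ⥤ X.Modules := DCoh.tensorBi.flip.obj (CohB1.tensorPow G' (n + 1))
  haveI : Unique (Fin ((n + 1).choose (n + 1))) := by rw [Nat.choose_self]; infer_instance
  let e : T.obj (L E (n + 1)) ≅ CohB1.tensorMod N (CohB1.tensorPow G' (n + 1)) :=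
    T.mapIso (a ≪≫ R.mapIso (b ≪≫ coproductUniqueIso _) ≪≫ CurveTensor.structureTensorIso _) ≪≫ (Jets.tbiIso _ _).symm
  exact (PnEuler.hhIso k e j).symm.toEquiv.subsingleton

end Groth.Agent.BlowCoh
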