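import Groth.Agent.BlowCoh.PushGlobal
import Groth.Agent.AVPoinc.ExtPowFree
import Groth.Agent.Lib.RegEpiGen

/-!
# Direct images of pullbacks of locally free modules
-/

set_option autoImplicit false
set_option linter.style.haveILetI false
set_option linter.unusedSectionVars false
set_option backward.isDefEq.respectTransparency false
set_option backward.isDefEq.respectTransparency.types false
set_option maxHeartbeats 400000

universe u

open CategoryTheory CategoryTheory.Limits AlgebraicGeometry TopologicalSpace Opposite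
open Groth.Agent.AModX

noncomputable section

namespace Groth.Agent.BlowCoh

open Groth.Agent

variable {X Y : Scheme.{u}} {σ : X ⟶ Y} {I : Y.IdealSheafData} {d : ℕ}
  (hI : HasGood I d) (hσ : BlowUp.IsBlowUp σ I) (hd : 0 < d)

/-- The pullback of a module free on an open is free over the preimage of smaller opens. -/
theorem nonempty_restrict_pullback {E : Y.Modules} {n : ℕ} {U₀ : Y.Opens}
    (e : E.restrict U₀.ι ≅ FlatMod.freeMod U₀.toScheme n) {U : Y.Opens} (h : U ≤ U₀) :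
    Nonempty (((Scheme.Modules.pullback σ).obj E).restrict (σ ⁻¹ᵁ U).ι ≅
      FlatMod.freeMod (σ ⁻¹ᵁ U).toScheme n) := by
  let j := (σ ⁻¹ᵁ U).ι
  let g := σ ∣_ U ≫ Y.homOfLE h
  have hg : j ≫ σ = g ≫ U₀.ι := by
    rw [Category.assoc, Scheme.homOfLE_ι]
    exact (morphismRestrict_ι σ U).symm
  obtain ⟨q⟩ := AVPoinc.nonempty_pullback_freeMod g n
  exact ⟨(Scheme.Modules.restrictFunctorIsoPullback j).app _ ≪≫ (Scheme.Modules.pullbackComp j σ).app E ≪≫
    (Scheme.Modules.pullbackCongr hg).app E ≪≫ ((Scheme.Modules.pullbackComp g U₀.ι).app E).symm ≪≫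
    (Scheme.Modules.pullback g).mapIso (((Scheme.Modules.restrictFunctorIsoPullback U₀.ι).app E).symm ≪≫ e) ≪≫ q⟩

include hI hσ hd

theorem isIso_unit {E : Y.Modules} (hE : FlatMod.IsFinLocFree E) :
    IsIso ((Scheme.Modules.pullbackPushforwardAdjunction σ).unit.app E) :=
  H23.PullPush.isIso_unit_of_isFinLocFree σ (app_bijective hI hσ hd) E hE

omit hI in
theorem subsingleton_HU_pullback {E : Y.Modules} {U : Y.affineOpens} (G : Good I U d) {U₀ : Y.Opens} {n : ℕ}
    (hU : U.1 ≤ U₀) (e : E.restrict U₀.ι ≅ FlatMod.freeMod U₀.toScheme n) (q : ℕ) :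
    Subsingleton (CohTop.HU (X := X.toPresheafedSpace.carrier) (QCoh.abSheaf ((Scheme.Modules.pullback σ).obj E))
      (q + 1) (σ ⁻¹ᵁ U.1)) := by
  haveI := G.noeth
  haveI : Nonempty (Fin d) := ⟨⟨0, hd⟩⟩
  obtain ⟨Cd⟩ := exists_chartsU G hσ
  obtain ⟨r⟩ := nonempty_restrict_pullback (σ := σ) e hU
  refine PnCoh.Chow.subsingleton_HU_of_HHon _ _ q (QCoh.subsingleton_HH_of_iso r.symm (q + 1) ?_)
  exact RegEpi.subsingleton_HH_sigma _ _ fun _ => subsingleton_HH (embO Cd G.regular (isEff_excU G hσ))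
    (isEff_excU G hσ) G.regular G.quasi (by omega) QCoh.isQCoh_structureModule q

theorem isZero_RpushAb_pullback {E : Y.Modules} (hE : FlatMod.IsFinLocFree E) (p : ℕ) (hp : 1 ≤ p) :
    IsZero ((Coh.RpushAb σ p).obj (Coh.toAb ((Scheme.Modules.pullback σ).obj E))) := by
  refine QCoh.Ab.Rpush_isZero_of_bound σ.base
    (fun W : Opens Y => ∃ U : Y.affineOpens, U.1 = W ∧ Nonempty (Good I U d) ∧
      ∃ (U₀ : Y.Opens) (n : ℕ), U.1 ≤ U₀ ∧ Nonempty (E.restrict U₀.ι ≅ FlatMod.freeMod U₀.toScheme n))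
    (fun V y hy => by
      obtain ⟨U₀, n, hy₀, he⟩ := hE y
      obtain ⟨U, hyU, hUV, hG⟩ := hI (V ⊓ U₀) y ⟨hy, hy₀⟩
      exact ⟨U.1, hUV.trans inf_le_left, hyU, U, rfl, hG, U₀, n, hUV.trans inf_le_right, he⟩)
    0 (QCoh.abSheaf ((Scheme.Modules.pullback σ).obj E)) (fun W hW q hq => ?_) p hp
  obtain ⟨U, rfl, ⟨G⟩, U₀, n, hU, ⟨e⟩⟩ := hW
  obtain ⟨q, rfl⟩ := Nat.exists_eq_add_of_le' hq
  exact subsingleton_HU_pullback hσ hd G hU e q

end Groth.Agent.BlowCoh
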