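import Groth.Agent.BlowCoh.Emb
import Groth.Agent.FComplLib.IdealComap
import Groth.Agent.H9LiftLF.IdealFlat
import Groth.Agent.PnCoh.Chow.Relative

/-!
# The restriction of a blow-up to an affine open on which the centre is quasi-regular
-/

set_option autoImplicit false
set_option linter.style.haveILetI false
set_option linter.unusedSectionVars false
set_option backward.isDefEq.respectTransparency false
set_option backward.isDefEq.respectTransparency.types false
set_option maxHeartbeats 400000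

universe u

open CategoryTheory CategoryTheory.Limits AlgebraicGeometry TopologicalSpace Opposite
open Groth.Agent.BlowUpLib Groth.Agent.AModX

noncomputable section

namespace Groth.Agent.BlowCoh

open Groth.Agent

variable {X Y : Scheme.{u}} (σ : X ⟶ Y) (I : Y.IdealSheafData) (U : Y.affineOpens)

/-- The blow-up over an affine open. -/
def fU : (σ ⁻¹ᵁ U.1).toScheme ⟶ Spec (CommRingCat.of Γ(Y, U.1)) := σ ∣_ U.1 ≫ U.2.isoSpec.hom

/-- An affine open with the centre cut out by a quasi-regular sequence of non-zero-divisors of length `d`. -/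
structure Good (d : ℕ) where
  a : Fin d → Γ(Y, U.1)
  noeth : IsNoetherianRing Γ(Y, U.1)
  regular : ∀ i, a i ∈ nonZeroDivisors Γ(Y, U.1)
  quasi : CAlgX.IsQuasiRegular a
  eq : I.ideal U = ctr a

variable {σ I U} {d : ℕ} (G : Good I U d) (hσ : BlowUp.IsBlowUp σ I)

include G

theorem comap_centre : (centre (ctr G.a)).comap U.2.isoSpec.hom = I.comap U.1.ι := by
  rw [← G.eq, ← comap_fromSpec I U, ← Scheme.IdealSheafData.comap_comp, ← IsAffineOpen.isoSpec_inv_ι,
    Iso.hom_inv_id_assoc]

theorem exc_fU : exc G.a (fU σ U) = (I.comap σ).comap (σ ⁻¹ᵁ U.1).ι := by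
  rw [exc, fU, Scheme.IdealSheafData.comap_comp, comap_centre G, ← Scheme.IdealSheafData.comap_comp,
    morphismRestrict_ι, Scheme.IdealSheafData.comap_comp]

include hσ

theorem isBlowUp_fU : BlowUp.IsBlowUp (fU σ U) (centre (ctr G.a)) := by
  refine isBlowUp_comp_iso _ ?_
  rw [comap_centre G]
  exact isBlowUp_of_isPullback (isPullback_morphismRestrict σ U.1) hσ

theorem exists_chartsU : Nonempty (Charts G.a (fU σ U)) :=
  exists_charts G.a (fU σ U) (isBlowUp_fU G hσ) G.regular

theorem isEff_excU : BlowUp.IsEffCartierIdeal (exc G.a (fU σ U)) :=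
  (isBlowUp_fU G hσ).1

omit G hσ in
/-- The restriction of a power of the exceptional ideal. -/
theorem nonempty_restrict_idealMod (J : X.IdealSheafData) (Z : X.Opens) :
    Nonempty ((ClSub.idealMod J).restrict Z.ι ≅ ClSub.idealMod (J.comap Z.ι)) := by
  obtain ⟨e⟩ := H9LiftLF.nonempty_idealMod_comap Z.ι J
  exact ⟨(Scheme.Modules.restrictFunctorIsoPullback Z.ι).app _ ≪≫ e⟩

omit hσ in
theorem nonempty_restrict_pow (m : ℕ) :
    Nonempty ((ClSub.idealMod ((I.comap σ) ^ m)).restrict (σ ⁻¹ᵁ U.1).ι ≅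
      ClSub.idealMod (exc G.a (fU σ U) ^ m)) := by
  obtain ⟨e⟩ := nonempty_restrict_idealMod (X := X) ((I.comap σ) ^ m) (σ ⁻¹ᵁ U.1)
  exact ⟨e ≪≫ eqToIso (by rw [FComplLib.comap_pow, exc_fU G])⟩

/-- Vanishing over the open, from a description in degree above `-d`. -/
theorem subsingleton_HU_preimage [Nonempty (Fin d)] (Cd : Charts G.a (fU σ U)) {N : X.Modules} {n : ℤ}
    (hN : Coh.IsQCoh N) {N' : (σ ⁻¹ᵁ U.1).toScheme.Modules} (e : N.restrict (σ ⁻¹ᵁ U.1).ι ≅ N')
    (Em : Emb Cd N' n) (hn : -(d : ℤ) < n) (q : ℕ) :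
    Subsingleton (CohTop.HU (X := X.toPresheafedSpace.carrier) (QCoh.abSheaf N) (q + 1) (σ ⁻¹ᵁ U.1)) := by
  haveI := G.noeth
  refine PnCoh.Chow.subsingleton_HU_of_HHon N _ q ?_
  refine QCoh.subsingleton_HH_of_iso e.symm (q + 1) ?_
  exact subsingleton_HH Em (isEff_excU G hσ) G.regular G.quasi hn
    (KFlatLib.isQCoh_of_iso e (QCoh.isQCoh_restrict _ hN)) q

end Groth.Agent.BlowCoh
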