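import Groth.Agent.BlowCoh.Twist

/-!
# Ideals which are locally powers of the centre
-/

set_option autoImplicit false
set_option linter.style.haveILetI false
set_option linter.unusedSectionVars false
set_option backward.isDefEq.respectTransparency false
set_option backward.isDefEq.respectTransparency.types false
set_option maxHeartbeats 400000

universe u

open CategoryTheory CategoryTheory.Limits AlgebraicGeometry TopologicalSpace Opposite
open Groth.Agent.BlowUpLib Groth.Agent.AModX Groth.Agent.QCoh.Ab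

noncomputable section

namespace Groth.Agent.BlowCoh

open Groth.Agent

variable {X Y : Scheme.{u}}

theorem exists_affine_image (Z : X.Opens) (V : Z.toScheme.affineOpens) :
    ∃ (W : X.affineOpens) (e : V.1 ≤ Z.ι ⁻¹ᵁ W.1), W.1 ≤ Z ∧ Z.ι ''ᵁ V.1 = W.1 ∧
      Function.Bijective (Z.ι.appLE W.1 V.1 e).hom := by
  let W : X.affineOpens := ⟨Z.ι ''ᵁ V.1, V.2.image_of_isOpenImmersion Z.ι⟩
  have e : V.1 ≤ Z.ι ⁻¹ᵁ W.1 := fun z hz => ⟨z, hz, rfl⟩
  refine ⟨W, e, Z.ι_image_le _, rfl, ?_⟩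
  have h : Z.ι.appLE W.1 V.1 e = (Z.ι.appIso V.1).hom := by
    rw [Scheme.Hom.appIso_hom']
  rw [h]
  exact ConcreteCategory.bijective_of_isIso _

/-- Ideals agreeing on an open have the same sections on affines inside it. -/
theorem ideal_eq_of_comap_eq {J J' : X.IdealSheafData} {Z : X.Opens} (h : J.comap Z.ι = J'.comap Z.ι)
    (W : X.affineOpens) (hW : W.1 ≤ Z) : J.ideal W = J'.ideal W := by
  have hpre : IsAffineOpen (Z.ι ⁻¹ᵁ W.1) :=
    W.2.preimage_of_isOpenImmersion Z.ι (by rw [Scheme.Opens.opensRange_ι]; exact hW)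
  let V : Z.toScheme.affineOpens := ⟨Z.ι ⁻¹ᵁ W.1, hpre⟩
  have hb : Function.Bijective (Z.ι.appLE W.1 V.1 le_rfl).hom := by
    have h1 : Z.ι ''ᵁ (Z.ι ⁻¹ᵁ W.1) = W.1 := by
      rw [Scheme.Hom.image_preimage_eq_opensRange_inf, Scheme.Opens.opensRange_ι]
      exact inf_eq_right.2 hW
    haveI : IsIso (Z.ι.app W.1) := Z.ι.isIso_app W.1 (by rw [Scheme.Opens.opensRange_ι]; exact hW)
    rw [show Z.ι.appLE W.1 V.1 le_rfl = Z.ι.app W.1 from Scheme.Hom.appLE_eq_app _]
    exact ConcreteCategory.bijective_of_isIso _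
  have h2 := congrArg (fun K : Z.toScheme.IdealSheafData => K.ideal V) h
  rw [ModPairLib.ideal_comap _ Z.ι W V le_rfl, ModPairLib.ideal_comap _ Z.ι W V le_rfl] at h2
  rw [← Ideal.comap_map_of_bijective _ hb (I := J.ideal W), h2, Ideal.comap_map_of_bijective _ hb]

variable (σ : X ⟶ Y) (I D : Y.IdealSheafData) (d : ℕ)

/-- `D` is locally a power of the centre, on good opens. -/
def HasGoodPow : Prop :=
  ∀ (V : Y.Opens) (y : Y), y ∈ V → ∃ (U : Y.affineOpens) (m : ℕ), y ∈ U.1 ∧ U.1 ≤ V ∧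
    Nonempty (Good I U d) ∧ D.comap U.1.ι = (I ^ m).comap U.1.ι

variable {σ I D d}

theorem comap_restrict_eq {U : Y.Opens} {m : ℕ} (h : D.comap U.ι = (I ^ m).comap U.ι) :
    (D.comap σ).comap (σ ⁻¹ᵁ U).ι = ((I.comap σ) ^ m).comap (σ ⁻¹ᵁ U).ι := by
  rw [← FComplLib.comap_pow, ← Scheme.IdealSheafData.comap_comp, ← Scheme.IdealSheafData.comap_comp,
    ← morphismRestrict_ι, Scheme.IdealSheafData.comap_comp, h, Scheme.IdealSheafData.comap_comp]

variable (hD : HasGoodPow I D d) (hσ : BlowUp.IsBlowUp σ I) (hd : 0 < d)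

include hD hσ

theorem isEffCartier_comap_goodPow : BlowUp.IsEffCartierIdeal (D.comap σ) := by
  intro x
  obtain ⟨U, m, hxU, -, -, hm⟩ := hD ⊤ (σ x) trivial
  let Z := σ ⁻¹ᵁ U.1
  have hc : BlowUp.IsEffCartierIdeal ((D.comap σ).comap Z.ι) := by
    rw [comap_restrict_eq hm]
    exact BlowUpLib.isEffCartier_comap_flat Z.ι (isEffCartierIdeal_pow hσ.1 m)
  obtain ⟨V, hxV, g, hg, hgI⟩ := hc ⟨x, hxU⟩
  obtain ⟨W, e, -, hWV, hb⟩ := exists_affine_image Z V
  let φ := RingEquiv.ofBijective _ hb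
  refine ⟨W, hWV ▸ ⟨_, hxV, rfl⟩, φ.symm g, ?_, ?_⟩
  · refine mem_nonZeroDivisors_iff_right.2 fun v hv => φ.injective ?_
    rw [map_zero]
    refine mem_nonZeroDivisors_iff_right.1 hg _ ?_
    have h := congrArg φ hv
    rwa [map_mul, RingEquiv.apply_symm_apply, map_zero] at h
  · rw [ModPairLib.ideal_comap _ Z.ι W V e] at hgI
    rw [← Ideal.comap_map_of_bijective _ hb (I := (D.comap σ).ideal W), hgI]
    refine le_antisymm (fun r hr => ?_) (Ideal.span_le.2 (Set.singleton_subset_iff.2 ?_))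
    · obtain ⟨c, hc⟩ := Ideal.mem_span_singleton'.1 (Ideal.mem_comap.1 hr)
      refine Ideal.mem_span_singleton'.2 ⟨φ.symm c, φ.injective ?_⟩
      rw [map_mul, RingEquiv.apply_symm_apply, RingEquiv.apply_symm_apply]
      exact hc
    · rw [SetLike.mem_coe, Ideal.mem_comap]
      exact (φ.apply_symm_apply g).symm ▸ Ideal.mem_span_singleton_self g

theorem isInvertible_comap_goodPow : PicF.IsInvertible (ClSub.idealMod (D.comap σ)) :=
  Big.isInvertible_ideal (isEffCartier_comap_goodPow hD hσ)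

theorem hasGood_of_goodPow : HasGood I d := fun V y hy => by
  obtain ⟨U, m, h1, h2, h3, -⟩ := hD V y hy
  exact ⟨U, h1, h2, h3⟩

omit hσ in
theorem nonempty_restrict_goodPow {U : Y.affineOpens} (G : Good I U d) {m : ℕ}
    (h : D.comap U.1.ι = (I ^ m).comap U.1.ι) :
    Nonempty ((ClSub.idealMod (D.comap σ)).restrict (σ ⁻¹ᵁ U.1).ι ≅ ClSub.idealMod (exc G.a (fU σ U) ^ m)) := by
  obtain ⟨e⟩ := nonempty_restrict_idealMod (X := X) (D.comap σ) (σ ⁻¹ᵁ U.1)
  exact ⟨e ≪≫ eqToIso (by rw [comap_restrict_eq h, FComplLib.comap_pow, exc_fU G])⟩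

include hd

theorem natPushEquiv_goodPow {M : Y.Modules} (hM : PicF.IsInvertible M) (q : ℕ) :
    PnCoh.NatPushEquiv (Y := Y.toPresheafedSpace.carrier) σ.base (QCoh.abSheaf
      (CohB1.tensorMod ((Scheme.Modules.pullback σ).obj M) (ClSub.idealMod (D.comap σ)))) q :=
  PnCoh.H_push_equiv_natural_of_HU σ.base
    (fun W : Opens Y => ∃ (U : Y.affineOpens) (m : ℕ), U.1 = W ∧ Nonempty (Good I U d) ∧
      D.comap U.1.ι = (I ^ m).comap U.1.ι ∧
      ∃ U₀ : Y.Opens, U.1 ≤ U₀ ∧ Nonempty (M.restrict U₀.ι ≅ Coh.structureModule U₀.toScheme))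
    (fun V y hy => by
      obtain ⟨U₀, hy₀, he⟩ := hM y
      obtain ⟨U, m, hyU, hUV, hG, hm⟩ := hD (V ⊓ U₀) y ⟨hy, hy₀⟩
      exact ⟨U.1, hUV.trans inf_le_left, hyU, U, m, rfl, hG, hm, U₀, hUV.trans inf_le_right, he⟩)
    _ (fun W hW q => by
      obtain ⟨U, m, rfl, ⟨G⟩, hm, U₀, hU, ⟨e⟩⟩ := hW
      haveI : Nonempty (Fin d) := ⟨⟨0, hd⟩⟩
      obtain ⟨Cd⟩ := exists_chartsU G hσ
      obtain ⟨r⟩ := nonempty_restrict_twist (σ := σ) e hU (ClSub.idealMod (D.comap σ))
      obtain ⟨r'⟩ := nonempty_restrict_goodPow (σ := σ) hD G hm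
      exact subsingleton_HU_preimage G hσ Cd
        (KFlatLib.isQCoh_tensor (ProjUPX.isQCoh_of_isInvertible (PicClLib.isInvertible_pullback σ hM))
          (PPSheaf.GrCoh.isQCoh_idealMod _)) (r ≪≫ r') (embIdeal Cd G.regular (isEff_excU G hσ) m) (by omega) q) q

/-- The direct image of the pulled back ideal. -/
theorem nonempty_pushforward_goodPow :
    Nonempty ((Scheme.Modules.pushforward σ).obj (ClSub.idealMod (D.comap σ)) ≅ ClSub.idealMod D) := by
  obtain ⟨α, hα⟩ := Big.exists_idealPush σ D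
  have hσb := app_bijective (hasGood_of_goodPow hD hσ) hσ hd
  have hb : ∀ (U : Y.affineOpens) (m : ℕ), Nonempty (Good I U d) → D.comap U.1.ι = (I ^ m).comap U.1.ι →
      Function.Bijective (α.app U.1) := fun U m ⟨G⟩ hm =>
    bijective_idealPush α hα U (hσb U.1) fun r hr => by
      rw [ideal_eq_of_comap_eq hm U le_rfl]
      refine mem_pow_of_app hσ hd m G r fun W hW => ?_
      have h1 := comap_restrict_eq (σ := σ) hm
      rw [← FComplLib.comap_pow] at h1
      rw [← ideal_eq_of_comap_eq h1 W hW]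
      exact hr W hW
  have hbij := app_bijective_of_basis α fun V y hy => by
    obtain ⟨U, m, hyU, hUV, hG, hm⟩ := hD V y hy
    exact ⟨U.1, hUV, hyU, hb U m hG hm⟩
  haveI : IsIso α := Scheme.Modules.Hom.isIso_iff_isIso_app.2 fun V =>
    (ConcreteCategory.isIso_iff_bijective _).2 (hbij V)
  exact ⟨(asIso α).symm⟩

theorem nonempty_pushforward_twist_goodPow {M : Y.Modules} (hM : PicF.IsInvertible M) :
    Nonempty ((Scheme.Modules.pushforward σ).obj
      (CohB1.tensorMod ((Scheme.Modules.pullback σ).obj M) (ClSub.idealMod (D.comap σ))) ≅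
        CohB1.tensorMod M (ClSub.idealMod D)) := by
  haveI : HasInjectiveResolutions X.Modules := KFlatLib.hasInjectiveResolutions_modules
  obtain ⟨e⟩ := S0927.result σ (ClSub.idealMod (D.comap σ)) M (H23.PullPush.isFinLocFree_of_isInvertible hM) 0
  obtain ⟨p⟩ := nonempty_pushforward_goodPow hD hσ hd
  let z := (Scheme.Modules.pushforward σ).rightDerivedZeroIsoSelf
  exact ⟨(z.app _).symm ≪≫ e.symm ≪≫ PicGrp.tensorModIso (Iso.refl M) (z.app _ ≪≫ p)⟩

end Groth.Agent.BlowCoh
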