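import Groth.Agent.BlowCoh.BlowPn
import Groth.Agent.S0845
import Groth.Agent.CurveCohLib.Euler

/-!
# The cohomology of `σ^*O(d) ⊗ I_E^b` on the plane blown up at a point
-/

set_option autoImplicit false
set_option linter.style.haveILetI false
set_option linter.unusedSectionVars false
set_option backward.isDefEq.respectTransparency false
set_option backward.isDefEq.respectTransparency.types false

universe u

open CategoryTheory CategoryTheory.Limits AlgebraicGeometry TopologicalSpace Opposite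

noncomputable section

namespace Groth.Agent.BlowCoh

open Groth.Agent

variable {k : Type u} [Field k] [IsAlgClosed k] {p : ↥(CohB1.ProjSpace 2 k)}
  (hp : IsClosed ({p} : Set ↥(CohB1.ProjSpace 2 k))) {X : Scheme.{u}} [X.Over (Spec (CommRingCat.of k))]
  (σ : X ⟶ CohB1.ProjSpace 2 k) (hσk : σ ≫ CohB1.ProjSpace.toSpec 2 k = X ↘ Spec (CommRingCat.of k))
  (hσ : BlowUp.IsBlowUp σ (Scheme.IdealSheafData.vanishingIdeal ⟨{p}, hp⟩))

theorem finrank_top_Tw (d : ℤ) :
    Module.finrank k (Coh.HH (CohB1.ProjSpace 2 k) (Twist.twistProjSpace 2 k d) 2) = (-d - 1).toNat.choose 2 := by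
  rcases lt_or_ge (-3 : ℤ) d with h | h
  · haveI := subsingleton_Tw (n := 2) (k := k) d 2 (fun hc => by omega) (fun hc => by omega)
    rw [Module.finrank_zero_of_subsingleton, Nat.choose_eq_zero_of_lt (by omega)]
  · obtain ⟨j, hj⟩ := Int.eq_ofNat_of_zero_le (show (0 : ℤ) ≤ -d - 3 by omega)
    obtain ⟨e⟩ := S0845.result k 2 j
    rw [show d = -(((2 : ℕ) : ℤ) + 1 + (j : ℤ)) by omega, e.finrank_eq,
      show (-(-(((2 : ℕ) : ℤ) + 1 + (j : ℤ))) - 1).toNat = j + 2 by omega, ← Int.natCast_inj,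
      S4466.finrank_hom k 2 j, ← Nat.cast_add, Ring.choose_natCast]

include hσk hσ

theorem h2_blowTwist (d : ℤ) (b : ℕ) :
    Module.finrank k (Coh.HH X (blowTwist hp σ d b) 2) = (-d - 1).toNat.choose 2 := by
  rw [finrank_blowTwist hp σ hσk hσ (by omega), finrank_twIdeal_high hp d b 0]
  exact finrank_top_Tw d

theorem subsingleton_ge_three (d : ℤ) (b q : ℕ) (hq : 3 ≤ q) :
    Subsingleton (Coh.HH X (blowTwist hp σ d b) q) := by
  obtain ⟨q, rfl⟩ := Nat.exists_eq_add_of_le' (show 2 ≤ q by omega)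
  obtain ⟨e⟩ := nonempty_blowTwist_equiv hp σ hσk hσ (by omega) d b (q + 2)
  obtain ⟨e'⟩ := Jets.nonempty_equiv_high k (isInvertible_Tw (n := 2) d) hp (support_ptPow hp b) q
  haveI := subsingleton_Tw (n := 2) (k := k) d (q + 2) (fun hc => by omega) (fun hc => by omega)
  exact (e.trans ((PnEuler.hhIso k (Jets.tbiIso _ _) (q + 2)).trans e')).toEquiv.subsingleton

theorem h01_of_le {d : ℤ} {b : ℕ} (h : (b : ℤ) ≤ d + 1) :
    (Module.finrank k (Coh.HH X (blowTwist hp σ d b) 0) : ℤ) =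
        ((d + 2).toNat.choose 2 : ℤ) - ((b + 1).choose 2 : ℤ) ∧
      Module.finrank k (Coh.HH X (blowTwist hp σ d b) 1) = 0 := by
  rw [finrank_blowTwist hp σ hσk hσ (by omega), finrank_blowTwist hp σ hσk hσ (by omega)]
  exact finrank_twIdeal_of_le hp le_rfl h

theorem h01_of_ge {d : ℤ} {b : ℕ} (h : d + 1 ≤ (b : ℤ)) :
    Module.finrank k (Coh.HH X (blowTwist hp σ d b) 0) = 0 ∧
      (Module.finrank k (Coh.HH X (blowTwist hp σ d b) 1) : ℤ) =
        ((b + 1).choose 2 : ℤ) - ((d + 2).toNat.choose 2 : ℤ) := by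
  rw [finrank_blowTwist hp σ hσk hσ (by omega), finrank_blowTwist hp σ hσk hσ (by omega)]
  exact finrank_twIdeal_of_ge hp le_rfl h

theorem euler_blowTwist (a : ℤ) (b : ℕ) :
    Curv2.euler k X (blowTwist hp σ a b) = (a * a + 3 * a) / 2 - ((b : ℤ) * b + b) / 2 + 1 := by
  rw [CurveCohLib.euler_eq_sum (k := k) (N := 3) fun q hq => subsingleton_ge_three hp σ hσk hσ a b q hq,
    Finset.sum_range_succ, Finset.sum_range_succ, Finset.sum_range_one, h2_blowTwist hp σ hσk hσ]
  have hb : (((b + 1).choose 2 : ℕ) : ℤ) = ((b : ℤ) * b + b) / 2 := by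
    rw [Nat.choose_two_right, Nat.add_sub_cancel]
    push_cast
    ring_nf
  rcases le_total ((b : ℤ)) (a + 1) with h | h
  · obtain ⟨h0, h1⟩ := h01_of_le hp σ hσk hσ h
    rw [h0, h1, hb]
    simp only [Nat.choose_two_right]
    obtain ⟨c, hc⟩ := Int.eq_ofNat_of_zero_le (show (0 : ℤ) ≤ a + 1 by omega)
    obtain rfl : a = (c : ℤ) - 1 := by omega
    rw [show (-((c : ℤ) - 1) - 1).toNat = 0 by omega, show ((c : ℤ) - 1 + 2).toNat = c + 1 by omega]
    rw [show ((c : ℤ) - 1) * ((c : ℤ) - 1) + 3 * ((c : ℤ) - 1) = (c : ℤ) * c + c - 2 by ring]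
    simp only [Nat.add_sub_cancel]
    push_cast
    rw [show ((c : ℤ) + 1) * c = (c : ℤ) * c + c by ring]
    omega
  · obtain ⟨h0, h1⟩ := h01_of_ge hp σ hσk hσ h
    rw [h0, h1, hb]
    simp only [Nat.choose_two_right]
    rcases le_total (-1 : ℤ) a with ha | ha
    · obtain ⟨c, hc⟩ := Int.eq_ofNat_of_zero_le (show (0 : ℤ) ≤ a + 1 by omega)
      obtain rfl : a = (c : ℤ) - 1 := by omega
      rw [show (-((c : ℤ) - 1) - 1).toNat = 0 by omega, show ((c : ℤ) - 1 + 2).toNat = c + 1 by omega]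
      rw [show ((c : ℤ) - 1) * ((c : ℤ) - 1) + 3 * ((c : ℤ) - 1) = (c : ℤ) * c + c - 2 by ring]
      simp only [Nat.add_sub_cancel]
      push_cast
      rw [show ((c : ℤ) + 1) * c = (c : ℤ) * c + c by ring]
      omega
    · obtain ⟨c, hc⟩ := Int.eq_ofNat_of_zero_le (show (0 : ℤ) ≤ -a - 1 by omega)
      obtain rfl : a = -(c : ℤ) - 1 := by omega
      rw [show (-(-(c : ℤ) - 1) - 1).toNat = c by omega, show (-(c : ℤ) - 1 + 2).toNat = 1 - c by omega]
      rw [show (-(c : ℤ) - 1) * (-(c : ℤ) - 1) + 3 * (-(c : ℤ) - 1) = (c : ℤ) * c - c - 2 by ring]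
      rcases Nat.eq_zero_or_pos c with rfl | hc0
      · simp
        omega
      · obtain ⟨e, rfl⟩ := Nat.exists_eq_add_of_le' hc0
        simp only [Nat.add_sub_cancel, show 1 - (e + 1) = 0 by omega]
        push_cast
        rw [show ((e : ℤ) + 1) * (e + 1) - (e + 1) = ((e : ℤ) + 1) * e by ring]
        omega

end Groth.Agent.BlowCoh
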