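import Groth.Agent.BlowCoh.PnVanishBase
import Groth.Agent.BlowCoh.AntiCanon
import Groth.Agent.BlowCoh.KoszulTwo
import Groth.Agent.BlowCoh.Plane
import Groth.Agent.BlowCoh.DimBlow
import Groth.Agent.BlowCoh.AntiKernel
import Groth.Agent.Snapper.DimVanish
import Groth.Agent.CurveCohLib.Proper
import Groth.Agent.Lib.CurveDeg

/-!
# The cohomology of `σ^*O(p) ⊗ O(bE)` on the plane blown up at a point
-/

set_option autoImplicit false
set_option linter.style.haveILetI false
set_option linter.unusedSectionVars false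
set_option backward.isDefEq.respectTransparency false
set_option backward.isDefEq.respectTransparency.types false
set_option maxHeartbeats 400000

universe u

open CategoryTheory CategoryTheory.Limits AlgebraicGeometry TopologicalSpace Opposite
open Groth.Agent.H23.PicMul

noncomputable section

namespace Groth.Agent.BlowCoh

open Groth.Agent

theorem finrank_h0_Tw_plane {k : Type u} [Field k] [IsAlgClosed k] (c : ℤ) :
    Module.finrank k (Coh.HH (CohB1.ProjSpace 2 k) (Twist.twistProjSpace 2 k c) 0) = (c + 2).toNat.choose 2 := by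
  rcases lt_or_ge c 0 with hc | hc
  · haveI := subsingleton_Tw (n := 2) (k := k) c 0 (fun h => by omega) (fun h => by omega)
    rw [Module.finrank_zero_of_subsingleton, Nat.choose_eq_zero_of_lt (by omega)]
  · obtain ⟨m, rfl⟩ := Int.eq_ofNat_of_zero_le hc
    rw [finrank_h0_Tw m, show ((m : ℤ) + 2).toNat = m + 2 by omega]

theorem two_mul_choose_two (m : ℕ) : 2 * (m.choose 2 : ℤ) = (m : ℤ) * ((m : ℤ) - 1) := by
  induction m with
  | zero => simp
  | succ m ih =>
    rw [Nat.choose_succ_succ', Nat.choose_one_right]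
    push_cast
    linear_combination ih

variable {k : Type u} [Field k] [IsAlgClosed k] {X : Scheme.{u}} {π : X ⟶ CohB1.ProjSpace 2 k}
  (Z : Closeds ↥(CohB1.ProjSpace 2 k)) [X.Over (Spec (CommRingCat.of k))]
  (hπ : BlowUp.IsBlowUp π (Scheme.IdealSheafData.vanishingIdeal Z))
  (hπk : π ≫ CohB1.ProjSpace.toSpec 2 k = X ↘ Spec (CommRingCat.of k))
  {p : ↥(CohB1.ProjSpace 2 k)} (hp : IsClosed ({p} : Set ↥(CohB1.ProjSpace 2 k))) (hZ : Z = ⟨{p}, hp⟩)
  {L : X.Modules} (hL : ClSub.IsInverseOf L (excMod π Z))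

include hπ hπk hp hZ hL

omit hπk hp hZ in
theorem isInvertible_excInverse : PicF.IsInvertible L := by
  refine AmpleNeg.isInvertible_inverse (isInvertible_excMod π Z hπ) ?_
  obtain ⟨e⟩ := hL
  obtain ⟨c⟩ := H23.PicMul.comm (excMod π Z) L
  exact ⟨c ≪≫ e⟩

omit hπk hp hZ in
theorem isInvertible_twB (c : ℤ) (b : ℕ) : PicF.IsInvertible (twB π L c b) :=
  H23.PicMul.isInvertible_tensor (PicClLib.isInvertible_pullback π (isInvertible_Tw (n := 2) c))
    (H23.PicMul.isInvertible_tensorPow (isInvertible_excInverse Z hπ hL) b)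

omit hL in
theorem isProper_over : IsProper (X ↘ Spec (CommRingCat.of k)) := by
  haveI : IsProper π := BlowUpLib.isProper_of_isBlowUp _ hπ fun U => by
    haveI := IsLocallyNoetherian.component_noetherian (X := CohB1.ProjSpace 2 k) U
    exact IsNoetherian.noetherian _
  rw [← hπk]
  haveI : IsProper (CohB1.ProjSpace.toSpec 2 k) := PnCoh.Chow.isProper_toSpec 2 k
  infer_instance

omit hZ in
theorem finrank_h0_twB (c : ℤ) (b : ℕ) (hZf : (Z : Set ↥(CohB1.ProjSpace 2 k)).Finite)
    (hZc : ∀ z ∈ Z, IsClosed ({z} : Set ↥(CohB1.ProjSpace 2 k))) :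
    Module.finrank k (Coh.HH X (twB π L c b) 0) = (c + 2).toNat.choose 2 := by
  have hg := hasGood_Pn_points (show 0 < 2 by omega) Z hZf hZc
  have h1 : PicF.cl L * PicF.cl (excMod π Z) = 1 := by
    rw [← cl_tensor, H23.PicMul.one_def]; exact cl_eq_iff.2 hL
  have hLb : ClSub.IsInverseOf (CohB1.tensorPow L b)
      (ClSub.idealMod ((BlowUp.exceptional π (Scheme.IdealSheafData.vanishingIdeal Z)) ^ b)) :=
    cl_eq_iff.1 (by rw [cl_tensor, cl_tensorPow, cl_exc_pow π Z hπ, ← mul_pow, h1, one_pow, H23.PicMul.one_def])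
  obtain ⟨e⟩ := PnCoh.nonempty_linearEquiv_of_natPushEquiv k π hπk (twB π L c b) 0
    ⟨PnCoh.pushH0 π.base _, fun φ x => PnCoh.pushH0_natural π.base φ x⟩
  obtain ⟨e'⟩ := nonempty_pushforward_inverse_twist_of_two_le hg hπ (show 0 < 2 by omega) hLb
    (isInvertible_Tw (n := 2) (k := k) c) le_rfl
  rw [(e.trans (PnEuler.hhIso k e' 0)).finrank_eq, finrank_h0_Tw_plane]

theorem exists_seq (c : ℤ) (b : ℕ) : ∃ S : ShortComplex X.Modules, S.ShortExact ∧
    Nonempty (S.X₁ ≅ twB π L c (b + 2)) ∧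
    Nonempty (S.X₂ ≅ ∐ fun _ : Fin ((2 : ℕ).choose 1) => twB π L (c + 1) (b + 1)) ∧
    Nonempty (S.X₃ ≅ twB π L (c + 2) b) := by
  haveI := isProper_over Z hπ hπk hp hZ
  haveI := CurveCohLib.isNoetherian_of_proper (k := k) (X := X)
  obtain ⟨ψ, hψ⟩ := exists_gen_point π Z hπ hp hZ
  have h1 : PicF.cl L * PicF.cl (excMod π Z) = 1 := by
    rw [← cl_tensor, H23.PicMul.one_def]; exact cl_eq_iff.2 hL
  have hinv : ClSub.IsInverseOf (twA π Z 1 1) (twB π L (-1) 1) :=
    cl_eq_iff.1 (by rw [cl_tensor, cl_twA, cl_twB, mul_mul_mul_comm, ← clT_add, add_neg_cancel, clT_zero, one_mul,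
      ← mul_pow, mul_comm, h1, one_pow, H23.PicMul.one_def])
  obtain ⟨S, hS, h₁, ⟨e₂⟩, h₃⟩ := exists_koszul_two (isInvertible_twB Z hπ hL (-1) 1) hinv ψ
    (N := twB π L (c + 2) b) (H23.PullPush.isFinLocFree_of_isInvertible (isInvertible_twB Z hπ hL _ _))
  refine ⟨S, hS, cl_eq_iff.1 ?_, ?_, cl_eq_iff.1 h₃⟩
  · rw [h₁, cl_twB, cl_twB, cl_twB, pow_one, mul_pow, mul_mul_mul_comm, pow_clT, ← clT_add, ← pow_add]
    congr 2
    push_cast
    ring
  · obtain ⟨d⟩ := (cl_eq_iff (A := CohB1.tensorMod (twB π L (c + 2) b) (twB π L (-1) 1))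
      (B := twB π L (c + 1) (b + 1))).1 (by
        rw [cl_tensor, cl_twB, cl_twB, cl_twB, pow_one, mul_mul_mul_comm, ← clT_add, ← pow_succ]
        congr 2
        ring)
    exact ⟨e₂ ≪≫ Sigma.mapIso fun _ => d⟩

omit hL in
theorem subsingleton_ge_three_twB (hL : ClSub.IsInverseOf L (excMod π Z)) (c : ℤ) (b q : ℕ) (hq : 3 ≤ q) :
    Subsingleton (Coh.HH X (twB π L c b) q) := by
  haveI := isProper_over Z hπ hπk hp hZ
  haveI := CurveCohLib.isNoetherian_of_proper (k := k) (X := X)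
  haveI : IsProper π := BlowUpLib.isProper_of_isBlowUp _ hπ fun U => by
    haveI := IsLocallyNoetherian.component_noetherian (X := CohB1.ProjSpace 2 k) U
    exact IsNoetherian.noetherian _
  haveI : X.IsSeparated := ⟨by
    have h : terminal.from X = (X ↘ Spec (CommRingCat.of k)) ≫ terminal.from (Spec (CommRingCat.of k)) :=
      Subsingleton.elim _ _
    rw [h]
    infer_instance⟩
  exact Snapper.subsingleton_HH_of_dim_le (topologicalKrullDim_blow_le π hπ)
    (ProjUPX.isQCoh_of_isInvertible (isInvertible_twB Z hπ hL c b)) (show 2 < q by omega)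

theorem finite_twB (c : ℤ) (b q : ℕ) : Module.Finite k (Coh.HH X (twB π L c b) q) := by
  haveI := isProper_over Z hπ hπk hp hZ
  haveI := CurveCohLib.isNoetherian_of_proper (k := k) (X := X)
  exact CurveCohLib.finite_HH (CurveDeg.isCoh_of_isInvertible (isInvertible_twB Z hπ hL c b)) q

omit hp hZ in
theorem finrank_twB_small (hZf : (Z : Set ↥(CohB1.ProjSpace 2 k)).Finite)
    (hZc : ∀ z ∈ Z, IsClosed ({z} : Set ↥(CohB1.ProjSpace 2 k))) (c : ℤ) {b : ℕ} (hb : b < 2) (q : ℕ) :
    Module.finrank k (Coh.HH X (twB π L c b) q) =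
      Module.finrank k (Coh.HH (CohB1.ProjSpace 2 k) (Twist.twistProjSpace 2 k c) q) := by
  have hg := hasGood_Pn_points (show 0 < 2 by omega) Z hZf hZc
  have h1 : PicF.cl L * PicF.cl (excMod π Z) = 1 := by
    rw [← cl_tensor, H23.PicMul.one_def]; exact cl_eq_iff.2 hL
  have hLb : ClSub.IsInverseOf (CohB1.tensorPow L b)
      (ClSub.idealMod ((BlowUp.exceptional π (Scheme.IdealSheafData.vanishingIdeal Z)) ^ b)) :=
    cl_eq_iff.1 (by rw [cl_tensor, cl_tensorPow, cl_exc_pow π Z hπ, ← mul_pow, h1, one_pow, H23.PicMul.one_def])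
  obtain ⟨e⟩ := PnCoh.nonempty_linearEquiv_of_natPushEquiv k π hπk _ q
    (natPushEquiv_inverse hg hπ (show 0 < 2 by omega) hLb hb (isInvertible_Tw (n := 2) c) q)
  obtain ⟨e'⟩ := nonempty_pushforward_inverse_twist hg hπ (show 0 < 2 by omega) hLb hb
    (isInvertible_Tw (n := 2) (k := k) c)
  exact (e.trans (PnEuler.hhIso k e' q)).finrank_eq

/-- The Euler characteristic. -/
theorem euler_twB (b : ℕ) : ∀ c : ℤ,
    2 * Curv2.euler k X (twB π L c b) = (c + 1) * (c + 2) - (b : ℤ) * ((b : ℤ) - 1) := by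
  have hZf : (Z : Set ↥(CohB1.ProjSpace 2 k)).Finite := by rw [hZ]; exact Set.finite_singleton p
  have hZc : ∀ z ∈ Z, IsClosed ({z} : Set ↥(CohB1.ProjSpace 2 k)) := by
    subst hZ; exact fun z hz => Set.mem_singleton_iff.1 hz ▸ hp
  induction b using Nat.strong_induction_on with
  | _ b ih =>
    intro c
    rcases Nat.lt_or_ge b 2 with hb | hb
    · haveI := subsingleton_Tw (n := 2) (k := k) c 1 (fun h => by omega) (fun h => by omega)
      have hb0 : (b : ℤ) * ((b : ℤ) - 1) = 0 := by interval_cases b <;> norm_num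
      rw [CurveCohLib.euler_eq_sum (k := k) (N := 3) fun q hq => subsingleton_ge_three_twB Z hπ hπk hp hZ hL c b q hq,
        Finset.sum_range_succ, Finset.sum_range_succ, Finset.sum_range_one, finrank_twB_small Z hπ hπk hL hZf hZc c hb 0,
        finrank_twB_small Z hπ hπk hL hZf hZc c hb 1, finrank_twB_small Z hπ hπk hL hZf hZc c hb 2,
        finrank_h0_Tw_plane, finrank_top_Tw, Module.finrank_zero_of_subsingleton, hb0]
      have h0 := two_mul_choose_two (c + 2).toNat
      have h2 := two_mul_choose_two (-c - 1).toNat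
      rcases lt_or_ge c (-1) with hc | hc
      · rw [show ((-c - 1).toNat : ℤ) = -c - 1 by omega] at h2
        rw [Nat.choose_eq_zero_of_lt (show (c + 2).toNat < 2 by omega)]
        push_cast
        linear_combination h2
      · rw [show ((c + 2).toNat : ℤ) = c + 2 by omega] at h0
        rw [Nat.choose_eq_zero_of_lt (show (-c - 1).toNat < 2 by omega)]
        push_cast
        linear_combination h0
    obtain ⟨b, rfl⟩ := Nat.exists_eq_add_of_le' hb
    obtain ⟨S, hS, ⟨e₁⟩, ⟨e₂⟩, ⟨e₃⟩⟩ := exists_seq Z hπ hπk hp hZ hL c b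
    have hsub : ∀ q, 3 ≤ q → Subsingleton (Coh.HH X (∐ fun _ : Fin ((2 : ℕ).choose 1) => twB π L (c + 1) (b + 1)) q) :=
      fun q hq => PnEuler.subsingleton_sigma k _ _ q (subsingleton_ge_three_twB Z hπ hπk hp hZ hL _ _ q hq)
    have hfin : ∀ q, Module.Finite k (Coh.HH X S.X₂ q) := fun q => by
      haveI := finite_twB Z hπ hπk hp hZ hL (c + 1) (b + 1) q
      exact Module.Finite.equiv ((PnEuler.hhIso k e₂ q).trans (PnEuler.hhSigma k _ _ q)).symm
    have hadd := CurveCohLib.euler_additive_of_finite (k := k) hS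
      (fun q => by
        haveI := finite_twB Z hπ hπk hp hZ hL c (b + 2) q
        exact Module.Finite.equiv (PnEuler.hhIso k e₁ q).symm)
      hfin
      (fun q => by
        haveI := finite_twB Z hπ hπk hp hZ hL (c + 2) b q
        exact Module.Finite.equiv (PnEuler.hhIso k e₃ q).symm)
      (N := 3)
      (fun q hq => @Equiv.subsingleton _ _ (PnEuler.hhIso k e₁ q).toEquiv (subsingleton_ge_three_twB Z hπ hπk hp hZ hL _ _ q hq))
      (fun q hq => @Equiv.subsingleton _ _ (PnEuler.hhIso k e₂ q).toEquiv (hsub q hq))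
      (fun q hq => @Equiv.subsingleton _ _ (PnEuler.hhIso k e₃ q).toEquiv (subsingleton_ge_three_twB Z hπ hπk hp hZ hL _ _ q hq))
    rw [CurveCohLib.euler_congr e₁, CurveCohLib.euler_congr e₂, CurveCohLib.euler_congr e₃] at hadd
    have hsig : Curv2.euler k X (∐ fun _ : Fin ((2 : ℕ).choose 1) => twB π L (c + 1) (b + 1)) =
        2 * Curv2.euler k X (twB π L (c + 1) (b + 1)) := by
      rw [CurveCohLib.euler_eq_sum (k := k) (N := 3) hsub, CurveCohLib.euler_eq_sum (k := k) (N := 3)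
        fun q hq => subsingleton_ge_three_twB Z hπ hπk hp hZ hL _ _ q hq, Finset.mul_sum]
      refine Finset.sum_congr rfl fun q _ => ?_
      haveI := finite_twB Z hπ hπk hp hZ hL (c + 1) (b + 1) q
      rw [(PnEuler.hhSigma k (twB π L (c + 1) (b + 1)) _ q).finrank_eq, Module.finrank_pi_fintype,
        Finset.sum_const, Finset.card_univ, Fintype.card_fin]
      push_cast [Nat.choose_one_right, smul_eq_mul]
      ring
    rw [hsig] at hadd
    have i1 := ih (b + 1) (by omega) (c + 1)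
    have i2 := ih b (by omega) (c + 2)
    push_cast at i1 i2 ⊢
    linear_combination (-2 : ℤ) * hadd + 2 * i1 - i2

/-- Twisting by `π^*O(1)` preserves the vanishing of `H^2`. -/
theorem subsingleton_h2_step (c : ℤ) (b : ℕ) (h : Subsingleton (Coh.HH X (twB π L c b) 2)) :
    Subsingleton (Coh.HH X (twB π L (c + 1) b) 2) := by
  haveI := isProper_over Z hπ hπk hp hZ
  haveI := CurveCohLib.isNoetherian_of_proper (k := k) (X := X)
  haveI : IsProper π := BlowUpLib.isProper_of_isBlowUp _ hπ fun U => by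
    haveI := IsLocallyNoetherian.component_noetherian (X := CohB1.ProjSpace 2 k) U
    exact IsNoetherian.noetherian _
  haveI : X.IsSeparated := ⟨by
    have ht : terminal.from X = (X ↘ Spec (CommRingCat.of k)) ≫ terminal.from (Spec (CommRingCat.of k)) :=
      Subsingleton.elim _ _
    rw [ht]
    infer_instance⟩
  obtain ⟨ψ₀, hψ₀⟩ := exists_epi_free_Tw1 (n := 2) (k := k)
  obtain ⟨q₀⟩ := AVPoinc.nonempty_pullback_freeMod π (2 + 1)
  let T := (Scheme.Modules.pullback π).obj (Twist.twistProjSpace 2 k 1)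
  let ψ : FlatMod.freeMod X (2 + 1) ⟶ T := q₀.inv ≫ (Scheme.Modules.pullback π).map ψ₀
  haveI : Epi ψ := epi_comp _ _
  have hN := H23.PullPush.isFinLocFree_of_isInvertible (isInvertible_twB Z hπ hL c b)
  have hS : (ShortComplex.mk (kernel.ι ψ) ψ (kernel.condition ψ)).ShortExact :=
    ShortComplex.ShortExact.mk' (ShortComplex.exact_of_f_is_kernel _ (kernelIsKernel ψ)) inferInstance inferInstance
  have hT := CurveTensor.shortExact_tensor hN (kernel.ι ψ) ψ _ hS
  have hTq : Coh.IsQCoh T := ProjUPX.isQCoh_of_isInvertible (PicClLib.isInvertible_pullback π (isInvertible_Tw (n := 2) 1))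
  have hK : Coh.IsQCoh (kernel ψ) := QCoh.isQCoh_kernel (PnEuler.isQCoh_free X (2 + 1)) hTq ψ
  have hKN : Coh.IsQCoh ((DCoh.tensorBi.obj (twB π L c b)).obj (kernel ψ)) :=
    KFlatLib.isQCoh_tensor (QCoh.isQCoh_of_isFinLocFree hN) hK
  have h2 : Subsingleton (Coh.HH X ((DCoh.tensorBi.obj (twB π L c b)).obj (FlatMod.freeMod X (2 + 1))) 2) :=
    subsingleton_tensor_sigma k (M := twB π L c b) (nonempty_free_sigma (2 + 1))
      (show PicF.cl (twB π L c b) = PicF.cl (Coh.structureModule X) * PicF.cl (twB π L c b) by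
        rw [← H23.PicMul.one_def, one_mul]) 2 h
  refine subsingleton_of_cl (k := k) ?_ 2 (PnEuler.subsingleton_X₃ k hT 2 h2
    (Snapper.subsingleton_HH_of_dim_le (topologicalKrullDim_blow_le π hπ) hKN (show 2 < 2 + 1 by omega)))
  rw [cl_tbi, cl_twB, cl_twB, clT_add, mul_right_comm]
  rfl

theorem subsingleton_h01_twB (c : ℤ) (b : ℕ) (h : c + b < 0) (j : ℕ) (hj : j < 2) :
    Subsingleton (Coh.HH X (twB π L c b) j) := by
  have hZf : (Z : Set ↥(CohB1.ProjSpace 2 k)).Finite := by rw [hZ]; exact Set.finite_singleton p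
  have hZc : ∀ z ∈ Z, IsClosed ({z} : Set ↥(CohB1.ProjSpace 2 k)) := by
    subst hZ; exact fun z hz => Set.mem_singleton_iff.1 hz ▸ hp
  have hsub : (Z : Set ↥(CohB1.ProjSpace 2 k)).Subsingleton := by rw [hZ]; exact Set.subsingleton_singleton
  exact subsingleton_twB π Z hπ hπk le_rfl hZf hZc hsub (isInvertible_excInverse Z hπ hL) hL b c h j hj

theorem euler_eq (c : ℤ) (b : ℕ) : Curv2.euler k X (twB π L c b) =
    (Module.finrank k (Coh.HH X (twB π L c b) 0) : ℤ) - Module.finrank k (Coh.HH X (twB π L c b) 1) +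
      Module.finrank k (Coh.HH X (twB π L c b) 2) := by
  rw [CurveCohLib.euler_eq_sum (k := k) (N := 3) fun q hq => subsingleton_ge_three_twB Z hπ hπk hp hZ hL c b q hq,
    Finset.sum_range_succ, Finset.sum_range_succ, Finset.sum_range_one]
  ring

theorem subsingleton_h2_twB (b : ℕ) (c : ℤ) (hc : -1 ≤ c + b) : Subsingleton (Coh.HH X (twB π L c b) 2) := by
  obtain ⟨j, hj⟩ := Int.eq_ofNat_of_zero_le (show 0 ≤ c + b + 1 by omega)
  obtain rfl : c = -(b : ℤ) - 1 + j := by omega
  clear hj hc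
  induction j with
  | zero =>
    haveI := subsingleton_h01_twB Z hπ hπk hp hZ hL (-(b : ℤ) - 1 + ((0 : ℕ) : ℤ)) b (by omega) 0 (by omega)
    haveI := subsingleton_h01_twB Z hπ hπk hp hZ hL (-(b : ℤ) - 1 + ((0 : ℕ) : ℤ)) b (by omega) 1 (by omega)
    haveI := finite_twB Z hπ hπk hp hZ hL (-(b : ℤ) - 1 + ((0 : ℕ) : ℤ)) b 2
    have h := euler_twB Z hπ hπk hp hZ hL b (-(b : ℤ) - 1 + ((0 : ℕ) : ℤ))
    rw [euler_eq Z hπ hπk hp hZ hL, Module.finrank_zero_of_subsingleton, Module.finrank_zero_of_subsingleton] at h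
    refine (Module.finrank_zero_iff (R := k)).1 ?_
    push_cast at h
    have : (2 : ℤ) * Module.finrank k (Coh.HH X (twB π L (-(b : ℤ) - 1 + ((0 : ℕ) : ℤ)) b) 2) = 0 := by
      linear_combination h
    omega
  | succ j ih =>
    rw [show -(b : ℤ) - 1 + ((j + 1 : ℕ) : ℤ) = -(b : ℤ) - 1 + (j : ℤ) + 1 by push_cast; ring]
    exact subsingleton_h2_step Z hπ hπk hp hZ hL _ b ih

/-- All dimensions. -/
theorem finrank_twB_plane (c : ℤ) (b : ℕ) :
    (0 ≤ c + b →
      Module.finrank k (Coh.HH X (twB π L c b) 0) = (c + 2).toNat.choose 2 ∧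
      (Module.finrank k (Coh.HH X (twB π L c b) 1) : ℤ) = (b.choose 2 : ℤ) - ((-c - 1).toNat.choose 2 : ℤ) ∧
      Module.finrank k (Coh.HH X (twB π L c b) 2) = 0) ∧
    (c + b = -1 →
      Module.finrank k (Coh.HH X (twB π L c b) 0) = 0 ∧
      Module.finrank k (Coh.HH X (twB π L c b) 1) = 0 ∧
      Module.finrank k (Coh.HH X (twB π L c b) 2) = 0) ∧
    (c + b ≤ -2 →
      Module.finrank k (Coh.HH X (twB π L c b) 0) = 0 ∧
      Module.finrank k (Coh.HH X (twB π L c b) 1) = 0 ∧
      (Module.finrank k (Coh.HH X (twB π L c b) 2) : ℤ) = ((-c - 1).toNat.choose 2 : ℤ) - (b.choose 2 : ℤ)) := by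
  have hZf : (Z : Set ↥(CohB1.ProjSpace 2 k)).Finite := by rw [hZ]; exact Set.finite_singleton p
  have hZc : ∀ z ∈ Z, IsClosed ({z} : Set ↥(CohB1.ProjSpace 2 k)) := by
    subst hZ; exact fun z hz => Set.mem_singleton_iff.1 hz ▸ hp
  have h0 := finrank_h0_twB Z hπ hπk hp hL c b hZf hZc
  have h01 : c + b < 0 → Module.finrank k (Coh.HH X (twB π L c b) 0) = 0 ∧
      Module.finrank k (Coh.HH X (twB π L c b) 1) = 0 := fun h => by
    haveI := subsingleton_h01_twB Z hπ hπk hp hZ hL c b h 0 (by omega)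
    haveI := subsingleton_h01_twB Z hπ hπk hp hZ hL c b h 1 (by omega)
    exact ⟨Module.finrank_zero_of_subsingleton, Module.finrank_zero_of_subsingleton⟩
  have h2 : -1 ≤ c + b → Module.finrank k (Coh.HH X (twB π L c b) 2) = 0 := fun h => by
    haveI := subsingleton_h2_twB Z hπ hπk hp hZ hL b c h
    exact Module.finrank_zero_of_subsingleton
  have hχ := euler_twB Z hπ hπk hp hZ hL b c
  rw [euler_eq Z hπ hπk hp hZ hL] at hχ
  have ha := two_mul_choose_two (c + 2).toNat
  have hb := two_mul_choose_two b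
  have hm := two_mul_choose_two (-c - 1).toNat
  have hid : 2 * ((c + 2).toNat.choose 2 : ℤ) + 2 * ((-c - 1).toNat.choose 2 : ℤ) = (c + 1) * (c + 2) := by
    rcases lt_or_ge c (-1) with hc | hc
    · rw [show ((-c - 1).toNat : ℤ) = -c - 1 by omega] at hm
      rw [Nat.choose_eq_zero_of_lt (show (c + 2).toNat < 2 by omega)]
      push_cast
      linear_combination hm
    · rw [show ((c + 2).toNat : ℤ) = c + 2 by omega] at ha
      rw [Nat.choose_eq_zero_of_lt (show (-c - 1).toNat < 2 by omega)]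
      push_cast
      linear_combination ha
  refine ⟨fun h => ⟨h0, ?_, h2 (by omega)⟩, fun h => ⟨(h01 (by omega)).1, (h01 (by omega)).2, h2 (by omega)⟩,
    fun h => ⟨(h01 (by omega)).1, (h01 (by omega)).2, ?_⟩⟩
  · rw [h0, h2 (by omega)] at hχ
    push_cast at hχ
    linarith
  · rw [(h01 (by omega)).1, (h01 (by omega)).2] at hχ
    rw [Nat.choose_eq_zero_of_lt (show (c + 2).toNat < 2 by omega)] at hid
    push_cast at hχ hid
    linarith

end Groth.Agent.BlowCoh
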