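import Groth.Agent.BlowCoh.PnTwist
import Groth.Agent.InvX.GenEpi

/-!
# The linear forms through a point generate `I_p(1)`
-/

set_option autoImplicit false
set_option linter.style.haveILetI false
set_option linter.unusedSectionVars false
set_option backward.isDefEq.respectTransparency false
set_option backward.isDefEq.respectTransparency.types false
set_option maxHeartbeats 400000

universe u

open CategoryTheory CategoryTheory.Limits AlgebraicGeometry TopologicalSpace Opposite
open MvPolynomial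
open Groth.Agent.PnCoh.Finite (mapLin)

noncomputable section

attribute [local instance] MvPolynomial.gradedAlgebra

namespace Groth.Agent.BlowCoh

open Groth.Agent

/-- A subsheaf whose given global sections span the kernel in every stalk is generated by them. -/
theorem exists_epi_of_span {X : Scheme.{u}} {A B C : X.Modules} (f : A ⟶ B) (g : B ⟶ C) (hfg : f ≫ g = 0)
    [Mono f] {N : ℕ} (σ : Fin N → Γ(A, ⊤)) (s : Fin N → Γ(B, ⊤)) (hs : ∀ j, f.app ⊤ (σ j) = s j)
    (h : ∀ (y : X) (m : ParShLib.stk B y), ParShLib.stkMap g y m = 0 →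
      m ∈ Submodule.span (X.presheaf.stalk y) (Set.range fun j =>
        B.presheaf.germ ⊤ y trivial (s j))) :
    ∃ ψ : FlatMod.freeMod X N ⟶ A, Epi ψ := by
  refine InvX.exists_epi_freeMod (s := σ) fun y => ?_
  let L := ParShLib.stkMap f y
  have hLi : Function.Injective L :=
    (ModuleCat.mono_iff_injective ((DerSch.stalkFunctor _ y).map f)).1 inferInstance
  have hLσ : ∀ j, L (A.presheaf.germ ⊤ y trivial (σ j)) = B.presheaf.germ ⊤ y trivial (s j) := fun j =>
    (ParShLib.stkMap_germ f (U := ⊤) trivial (σ j)).trans (congrArg _ (hs j))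
  refine eq_top_iff.2 fun m _ => ?_
  have h0 : ParShLib.stkMap g y (L m) = 0 := by
    have h : ParShLib.stkMap (f ≫ g) y m = 0 := by
      rw [hfg, ParShLib.stkMap, Functor.map_zero]
      rfl
    rw [ParShLib.stkMap, Functor.map_comp] at h
    exact h
  have h1 := h y (L m) h0
  rw [← funext hLσ, Set.range_comp' L, ← Submodule.map_span, Submodule.mem_map] at h1
  obtain ⟨m', hm', he⟩ := h1
  exact hLi he ▸ hm'

/-- Lifting global sections killed by the quotient map of a short exact sequence. -/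
theorem exists_lift_section {X : Scheme.{u}} {S : ShortComplex X.Modules} (k : Type u) [Field k]
    [X.Over (Spec (CommRingCat.of k))] (hS : S.ShortExact) (s : Γ(S.X₂, ⊤))
    (t : Coh.HH X S.X₂ 0) (hts : Sheaf.H.equiv₀ (Coh.toAb S.X₂) isTerminalTop t = s)
    (ht : mapLin k S.g 0 t = 0) :
    ∃ σ : Γ(S.X₁, ⊤), S.f.app ⊤ σ = s := by
  obtain ⟨v, hv⟩ := PnEuler.exact₂ k hS 0 ht
  refine ⟨Sheaf.H.equiv₀ (Coh.toAb S.X₁) isTerminalTop v, Eq.trans ?_ hts⟩
  refine Eq.trans ?_ (congrArg (Sheaf.H.equiv₀ (Coh.toAb S.X₂) isTerminalTop) hv)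
  exact Sheaf.H.equiv₀_naturality isTerminalTop ((QCoh.toAbFunctor _).map S.f) v

variable {n : ℕ} {k : Type u} [Field k]

/-- The linear form `X_{i,j} - w_j X_i`. -/
def linForm (i : Fin (n + 1)) (w : Fin n → k) (j : Fin n) : MvPolynomial (Fin (n + 1)) k :=
  X (i.succAbove j) - C (w j) * X i

theorem linForm_mem (i : Fin (n + 1)) (w : Fin n → k) (j : Fin n) : linForm i w j ∈ CohB1.polyGrading n k 1 := by
  have h : (linForm i w j).IsHomogeneous 1 := by
    have := (isHomogeneous_X k (i.succAbove j)).sub ((isHomogeneous_C (Fin (n + 1)) (w j)).mul (isHomogeneous_X k i))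
    simpa [linForm] using this
  exact h

theorem shiftHom_linForm (i : Fin (n + 1)) (w : Fin n → k) (j : Fin n) : shiftHom i w (linForm i w j) = X j := by
  simp [linForm, shiftHom]

/-- The section of a linear form. -/
def linSect (i : Fin (n + 1)) (w : Fin n → k) (j : Fin n) :
    Γ(Twist.twistProjSpace n k ((1 : ℕ) : ℤ), ⊤) :=
  Twist.globalOf (CohB1.polyGrading n k) ⟨linForm i w j, linForm_mem i w j⟩

theorem res_linSect (i : Fin (n + 1)) (w : Fin n → k) (j : Fin n) :
    AModX.res (Twist.twistProjSpace n k ((1 : ℕ) : ℤ)) (le_top : Dpl i ≤ ⊤) (linSect i w j) =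
      coordHomW i w (X j) • frameC i 1 := by
  rw [linSect, res_globalOf_eq i w (linForm_mem i w j), shiftHom_linForm]

theorem germ_linSect (i : Fin (n + 1)) (w : Fin n → k) (j : Fin n) (y : ↥(CohB1.ProjSpace n k))
    (hy : y ∈ Dpl (k := k) i) :
    (Twist.twistProjSpace n k ((1 : ℕ) : ℤ)).presheaf.germ ⊤ y trivial (linSect i w j) =
      (CohB1.ProjSpace n k).presheaf.germ (Dpl i) y hy (coordHomW i w (X j)) •
        (Twist.twistProjSpace n k ((1 : ℕ) : ℤ)).presheaf.germ (Dpl i) y hy (frameC i 1) := by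
  rw [← QCoh.germ_smul', ← res_linSect i w j]
  exact ((Twist.twistProjSpace n k ((1 : ℕ) : ℤ)).presheaf.germ_res_apply (homOfLE le_top) y hy _).symm

theorem mem_Dpl_of_all (i : Fin (n + 1)) (w : Fin n → k) (y : ↥(CohB1.ProjSpace n k))
    (h : ∀ j, linForm i w j ∈ (y : ProjectiveSpectrum (CohB1.polyGrading n k)).asHomogeneousIdeal) :
    y ∈ Dpl (k := k) i := by
  obtain ⟨l, hl⟩ := mem_Dpl_cases y
  intro hXi
  apply hl
  induction l using Fin.succAboveCases i with
  | x => exact hXi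
  | p j =>
    have h := add_mem (h j) (Ideal.mul_mem_left
      (y : ProjectiveSpectrum (CohB1.polyGrading n k)).asHomogeneousIdeal.toIdeal (C (w j)) hXi)
    simpa [linForm] using h

theorem mem_span_of_notMem (i : Fin (n + 1)) (w : Fin n → k) (j : Fin n) (y : ↥(CohB1.ProjSpace n k))
    (hj : linForm i w j ∉ (y : ProjectiveSpectrum (CohB1.polyGrading n k)).asHomogeneousIdeal)
    (m : ParShLib.stk (Twist.twistProjSpace n k ((1 : ℕ) : ℤ)) y) :
    m ∈ Submodule.span ((CohB1.ProjSpace n k).presheaf.stalk y) (Set.range fun j =>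
      (Twist.twistProjSpace n k ((1 : ℕ) : ℤ)).presheaf.germ ⊤ y trivial (linSect i w j)) := by
  let U := Proj.basicOpen (CohB1.polyGrading n k) (linForm i w j)
  have hyj : y ∈ U := hj
  have hframe : InvX.IsFrame (AModX.res (Twist.twistProjSpace n k ((1 : ℕ) : ℤ)) (le_top : U ≤ ⊤)
      (linSect i w j)) := TwistX.isFrame_res_globalOf (linForm_mem i w j) fun z => z.2
  obtain ⟨r, hr⟩ := (hframe.germ_bijective hyj).2 m
  rw [← hr]
  refine Submodule.smul_mem _ r (Submodule.subset_span ⟨j, ?_⟩)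
  exact ((Twist.twistProjSpace n k ((1 : ℕ) : ℤ)).presheaf.germ_res_apply (homOfLE le_top) y hyj _).symm

variable [IsAlgClosed k] {p : ↥(CohB1.ProjSpace n k)} (hp : IsClosed ({p} : Set ↥(CohB1.ProjSpace n k)))

theorem stI_ptPow_one (i : Fin (n + 1)) (w : Fin n → k) (hpi : p ∈ Dpl (k := k) i)
    (hw : ((isAffineOpen_Dpl i).primeIdealOf ⟨p, hpi⟩).asIdeal =
      (MvPolynomial.idealOfVars (Fin n) k).map (coordHomW i w))
    (y : ↥(CohB1.ProjSpace n k)) (hy : y ∈ Dpl (k := k) i) :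
    Div21Lib.stI (ptPow hp 1) y =
      Ideal.span (Set.range fun j => (CohB1.ProjSpace n k).presheaf.germ (Dpl i) y hy (coordHomW i w (X j))) := by
  rw [Div21Lib.stI_eq (ptPow hp 1) ⟨_, isAffineOpen_Dpl i⟩ hy]
  show Ideal.map _ (((Scheme.IdealSheafData.vanishingIdeal ⟨{p}, hp⟩) ^ 1).ideal ⟨_, isAffineOpen_Dpl i⟩) = _
  rw [pow_one, vanishingIdeal_ideal_of_inter_eq _ ⟨_, isAffineOpen_Dpl i⟩ hpi rfl fun z hz _ => hz,
    show ((isAffineOpen_Dpl (k := k) i).primeIdealOf ⟨p, hpi⟩).asIdeal = _ from hw, MvPolynomial.idealOfVars,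
    Ideal.map_span, Ideal.map_span, ← Set.range_comp, ← Set.range_comp]
  rfl

theorem exists_lift_linSect (i : Fin (n + 1)) (w : Fin n → k) (hpi : p ∈ Dpl (k := k) i)
    (hw : ((isAffineOpen_Dpl i).primeIdealOf ⟨p, hpi⟩).asIdeal =
      (MvPolynomial.idealOfVars (Fin n) k).map (coordHomW i w)) (j : Fin n) :
    ∃ σ : Γ((DCoh.tensorBi.obj (Twist.twistProjSpace n k ((1 : ℕ) : ℤ))).obj (ClSub.idealMod (ptPow hp 1)), ⊤),
      (Jets.seq (Twist.twistProjSpace n k ((1 : ℕ) : ℤ)) (ptPow hp 1)).f.app ⊤ σ = linSect i w j := by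
  have hts := AddEquiv.apply_symm_apply (Sheaf.H.equiv₀ (Coh.toAb (Twist.twistProjSpace n k ((1 : ℕ) : ℤ)))
    isTerminalTop) (linSect i w j)
  refine exists_lift_section k (Jets.shortExact_seq _ (ptPow hp 1) (isInvertible_Tw _)) _ _ hts ?_
  refine (Jets.mapLin_theta_eq_zero_iff k (isInvertible_Tw _) hp (support_ptPow hp 1) hpi (isFrame_frameC i 1)
      _ (coordHomW i w (X j)) ?_).2 ?_
  · exact (congrArg (AModX.res (Twist.twistProjSpace n k ((1 : ℕ) : ℤ)) (le_top : Dpl i ≤ ⊤)) hts).trans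
      (res_linSect i w j)
  · rw [stI_ptPow_one hp i w hpi hw p hpi]
    exact Ideal.subset_span ⟨j, rfl⟩

theorem mem_span_linSect (i : Fin (n + 1)) (w : Fin n → k) (hpi : p ∈ Dpl (k := k) i)
    (hw : ((isAffineOpen_Dpl i).primeIdealOf ⟨p, hpi⟩).asIdeal =
      (MvPolynomial.idealOfVars (Fin n) k).map (coordHomW i w))
    (y : ↥(CohB1.ProjSpace n k)) (m : ParShLib.stk (Twist.twistProjSpace n k ((1 : ℕ) : ℤ)) y)
    (hm : ParShLib.stkMap (Jets.theta (Twist.twistProjSpace n k ((1 : ℕ) : ℤ)) (ptPow hp 1)) y m = 0) :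
    m ∈ Submodule.span ((CohB1.ProjSpace n k).presheaf.stalk y) (Set.range fun j =>
        (Twist.twistProjSpace n k ((1 : ℕ) : ℤ)).presheaf.germ ⊤ y trivial (linSect i w j)) := by
  by_cases hall : ∀ j, linForm i w j ∈ (y : ProjectiveSpectrum (CohB1.polyGrading n k)).asHomogeneousIdeal
  · have hyi := mem_Dpl_of_all i w y hall
    have hb := (isFrame_frameC (k := k) i 1).germ_bijective hyi
    obtain ⟨r, rfl⟩ := hb.2 m
    have hrJ := (Jets.stkMap_theta_eq_zero_iff (ptPow hp 1) hb r).1 hm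
    rw [stI_ptPow_one hp i w hpi hw y hyi] at hrJ
    refine Submodule.span_induction (p := fun r _ => r • (Twist.twistProjSpace n k ((1 : ℕ) : ℤ)).presheaf.germ
      (Dpl i) y hyi (frameC i 1) ∈ _) ?_ ?_ ?_ ?_ hrJ
    · rintro _ ⟨j, rfl⟩
      exact Submodule.subset_span ⟨j, germ_linSect i w j y hyi⟩
    · rw [zero_smul]; exact zero_mem _
    · intro b c _ _ hb hc; rw [add_smul]; exact add_mem hb hc
    · intro b c _ hc; rw [smul_eq_mul, mul_smul]; exact Submodule.smul_mem _ b hc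
  · push Not at hall
    obtain ⟨j, hj⟩ := hall
    exact mem_span_of_notMem i w j y hj m

theorem exists_epi_linear :
    ∃ ψ : FlatMod.freeMod (CohB1.ProjSpace n k) n ⟶
      (DCoh.tensorBi.obj (Twist.twistProjSpace n k ((1 : ℕ) : ℤ))).obj (ClSub.idealMod (ptPow hp 1)), Epi ψ := by
  obtain ⟨i, hpi, w, hw⟩ := exists_coord hp
  choose σ hσ using exists_lift_linSect hp i w hpi hw
  have hS := Jets.shortExact_seq (Twist.twistProjSpace n k ((1 : ℕ) : ℤ)) (ptPow hp 1) (isInvertible_Tw _)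
  haveI : Mono (Jets.seq (Twist.twistProjSpace n k ((1 : ℕ) : ℤ)) (ptPow hp 1)).f := hS.mono_f
  exact exists_epi_of_span _ _ (Jets.seq (Twist.twistProjSpace n k ((1 : ℕ) : ℤ)) (ptPow hp 1)).zero σ _ hσ
    (mem_span_linSect hp i w hpi hw)

end Groth.Agent.BlowCoh
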