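import Groth.Agent.BlowCoh.MultiPow
import Groth.Agent.BlowCoh.BlowPn
import Groth.Agent.SurfRR.Divisors

/-!
# Fat points in projective space and the blow-up at finitely many points
-/

set_option autoImplicit false
set_option linter.style.haveILetI false
set_option linter.unusedSectionVars false
set_option backward.isDefEq.respectTransparency false
set_option backward.isDefEq.respectTransparency.types false
set_option maxHeartbeats 400000

universe u

open CategoryTheory CategoryTheory.Limits AlgebraicGeometry TopologicalSpace Opposite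
open Groth.Agent.H23.PicMul

noncomputable section

namespace Groth.Agent.BlowCoh

open Groth.Agent

theorem comap_ι_eq_of_ideal_eq {X : Scheme.{u}} {J J' : X.IdealSheafData} {Z : X.Opens}
    (h : ∀ W : X.affineOpens, W.1 ≤ Z → J.ideal W = J'.ideal W) : J.comap Z.ι = J'.comap Z.ι := by
  refine Scheme.IdealSheafData.ext (funext fun V => ?_)
  obtain ⟨W, e, hWZ, -, -⟩ := exists_affine_image Z V
  rw [ModPairLib.ideal_comap _ Z.ι W V e, ModPairLib.ideal_comap _ Z.ι W V e, h W hWZ]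

section Points

variable {Y : Scheme.{u}} {s : ℕ} (P : Fin s → Y) (hPc : ∀ i, IsClosed ({P i} : Set Y))
  (hZ : IsClosed (Set.range P))

/-- The ideal of the fat points. -/
def fatIdeal (d : Fin s → ℕ) : Y.IdealSheafData :=
  ∏ t, (Scheme.IdealSheafData.vanishingIdeal ⟨{P t}, hPc t⟩) ^ d t

theorem ideal_fatIdeal (d : Fin s → ℕ) (W : Y.affineOpens) :
    (fatIdeal P hPc d).ideal W = ∏ t, ((Scheme.IdealSheafData.vanishingIdeal ⟨{P t}, hPc t⟩).ideal W) ^ d t := by
  have h : ∀ S : Finset (Fin s), (∏ t ∈ S, (Scheme.IdealSheafData.vanishingIdeal ⟨{P t}, hPc t⟩) ^ d t).ideal W =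
      ∏ t ∈ S, ((Scheme.IdealSheafData.vanishingIdeal ⟨{P t}, hPc t⟩).ideal W) ^ d t := fun S => by
    classical
    induction S using Finset.induction with
    | empty =>
      rw [Finset.prod_empty, Finset.prod_empty, Scheme.IdealSheafData.one_eq_top, Scheme.IdealSheafData.ideal_top,
        Ideal.one_eq_top]
      rfl
    | insert a S ha ih =>
      rw [Finset.prod_insert ha, Finset.prod_insert ha, Scheme.IdealSheafData.ideal_mul, Pi.mul_apply, ih,
        Scheme.IdealSheafData.ideal_pow, Pi.pow_apply]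
  exact h Finset.univ

theorem ideal_vanishing_single_of_notMem (t : Fin s) (W : Y.affineOpens) (h : P t ∉ W.1) :
    (Scheme.IdealSheafData.vanishingIdeal ⟨{P t}, hPc t⟩).ideal W = ⊤ :=
  BlowUpX.ideal_eq_top_of_disjoint _ W fun z hz hs => by
    rw [Scheme.IdealSheafData.coe_support_vanishingIdeal] at hs
    exact h (Set.mem_singleton_iff.1 hs ▸ hz)

theorem ideal_fatIdeal_away (d : Fin s → ℕ) (W : Y.affineOpens) (h : ∀ t, P t ∉ W.1) :
    (fatIdeal P hPc d).ideal W = ⊤ := by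
  rw [ideal_fatIdeal, Finset.prod_eq_one fun t _ => by
    rw [ideal_vanishing_single_of_notMem P hPc t W (h t), ← Ideal.one_eq_top, one_pow]]
  exact Ideal.one_eq_top

theorem ideal_fatIdeal_at (hP : Function.Injective P) (d : Fin s → ℕ) (t : Fin s) (W : Y.affineOpens)
    (h : ∀ u, P u ∈ W.1 → u = t) :
    (fatIdeal P hPc d).ideal W =
      ((Scheme.IdealSheafData.vanishingIdeal ⟨Set.range P, hZ⟩) ^ d t).ideal W := by
  rw [ideal_fatIdeal, Finset.prod_eq_single t (fun u _ hu => by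
      rw [ideal_vanishing_single_of_notMem P hPc u W fun hm => hu (h u hm), ← Ideal.one_eq_top, one_pow])
    (fun hh => absurd (Finset.mem_univ t) hh), Scheme.IdealSheafData.ideal_pow, Pi.pow_apply]
  refine congrArg (· ^ d t) ?_
  rw [Scheme.IdealSheafData.vanishingIdeal_ideal, Scheme.IdealSheafData.vanishingIdeal_ideal]
  refine congrArg PrimeSpectrum.vanishingIdeal (Set.ext fun q => ⟨fun hq => ⟨t, (Set.mem_singleton_iff.1 hq).symm⟩, ?_⟩)
  rintro ⟨u, hu⟩
  have h1 : W.2.fromSpec q ∈ Set.range W.2.fromSpec := Set.mem_range_self q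
  rw [W.2.range_fromSpec] at h1
  have hut := h u (show P u ∈ W.1 by rw [hu]; exact h1)
  subst hut
  exact hu.symm

theorem hasGoodPow_fatIdeal (hP : Function.Injective P) {n : ℕ} (d : Fin s → ℕ)
    (hg : HasGood (Scheme.IdealSheafData.vanishingIdeal ⟨Set.range P, hZ⟩) n) :
    HasGoodPow (Scheme.IdealSheafData.vanishingIdeal ⟨Set.range P, hZ⟩) (fatIdeal P hPc d) n := by
  intro V y hy
  by_cases hyZ : y ∈ Set.range P
  · obtain ⟨t, rfl⟩ := hyZ
    let rest : Set Y := ⋃ u ∈ {u : Fin s | u ≠ t}, {P u}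
    have hrest : IsClosed rest := Set.Finite.isClosed_biUnion (Set.toFinite _) fun u _ => hPc u
    have hyr : P t ∉ rest := by
      simp only [rest, Set.mem_iUnion, Set.mem_singleton_iff, not_exists]
      exact fun u hu he => hu (hP he).symm
    obtain ⟨U, hyU, hUV, hG⟩ := hg (V ⊓ ⟨restᶜ, hrest.isOpen_compl⟩) (P t) ⟨hy, hyr⟩
    refine ⟨U, d t, hyU, hUV.trans inf_le_left, hG, comap_ι_eq_of_ideal_eq fun W hW => ?_⟩
    refine ideal_fatIdeal_at P hPc hZ hP d t W fun u hu => ?_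
    by_contra hne
    exact (hUV (hW hu)).2 (Set.mem_biUnion hne rfl)
  · obtain ⟨U, hyU, hUV, hG⟩ := hg (V ⊓ ⟨(Set.range P)ᶜ, hZ.isOpen_compl⟩) y ⟨hy, hyZ⟩
    refine ⟨U, 0, hyU, hUV.trans inf_le_left, hG, comap_ι_eq_of_ideal_eq fun W hW => ?_⟩
    rw [ideal_fatIdeal_away P hPc d W fun t ht => (hUV (hW ht)).2 ⟨t, rfl⟩, pow_zero,
      Scheme.IdealSheafData.one_eq_top, Scheme.IdealSheafData.ideal_top]
    rfl

theorem fatIdeal_single (t : Fin s) :
    fatIdeal P hPc (Pi.single t 1) = Scheme.IdealSheafData.vanishingIdeal ⟨{P t}, hPc t⟩ := by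
  rw [fatIdeal, Finset.prod_eq_single t (fun u _ hu => by rw [Pi.single_eq_of_ne hu, pow_zero])
    (fun hh => absurd (Finset.mem_univ t) hh), Pi.single_eq_same, pow_one]

theorem support_fatIdeal (d : Fin s → ℕ) : ((fatIdeal P hPc d).support : Set Y) ⊆ Set.range P := by
  intro y hy
  by_contra hyZ
  obtain ⟨_, ⟨W, hW, rfl⟩, hyW, hWV⟩ := Y.isBasis_affineOpens.exists_subset_of_mem_open
    (show y ∈ ((⋂ t, {P t}ᶜ : Set Y)) from Set.mem_iInter.2 fun t h => hyZ ⟨t, h.symm⟩)
    (isOpen_iInter_of_finite fun t => (hPc t).isOpen_compl)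
  have h1 := ((fatIdeal P hPc d).coe_support_inter ⟨W, hW⟩).le ⟨hy, hyW⟩
  rw [ideal_fatIdeal_away P hPc d ⟨W, hW⟩ fun t ht => Set.mem_iInter.1 (hWV ht) t rfl] at h1
  exact ((Y.mem_zeroLocus_iff _ _).1 h1.1 1 (Submodule.mem_top)) (by rw [Scheme.basicOpen_of_isUnit _ isUnit_one]; exact hyW)

end Points

section Blow

variable {X Y : Scheme.{u}} (σ : X ⟶ Y) {s : ℕ} (P : Fin s → Y) (hPc : ∀ i, IsClosed ({P i} : Set Y))
  (hZ : IsClosed (Set.range P))

theorem cl_idealMod_fat (hP : Function.Injective P) {n : ℕ}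
    (hg : HasGood (Scheme.IdealSheafData.vanishingIdeal ⟨Set.range P, hZ⟩) n)
    (hσ : BlowUp.IsBlowUp σ (Scheme.IdealSheafData.vanishingIdeal ⟨Set.range P, hZ⟩)) (d : Fin s → ℕ) :
    PicF.cl (FGA.multiTwist (fun t => ClSub.idealMod ((Scheme.IdealSheafData.vanishingIdeal ⟨{P t}, hPc t⟩).comap σ)) d) =
      PicF.cl (ClSub.idealMod ((fatIdeal P hPc d).comap σ)) := by
  classical
  let E : Fin s → X.IdealSheafData := fun t => (Scheme.IdealSheafData.vanishingIdeal ⟨{P t}, hPc t⟩).comap σ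
  have hE : ∀ t, BlowUp.IsEffCartierIdeal (E t) := fun t => by
    have h := isEffCartier_comap_goodPow (hasGoodPow_fatIdeal P hPc hZ hP (Pi.single t 1) hg) hσ
    rwa [fatIdeal_single] at h
  have hpow : ∀ t (m : ℕ), BlowUp.IsEffCartierIdeal (E t ^ m) ∧
      PicF.cl (ClSub.idealMod (E t ^ m)) = PicF.cl (ClSub.idealMod (E t)) ^ m := fun t m => by
    refine ⟨isEffCartierIdeal_pow (hE t) m, ?_⟩
    induction m with
    | zero =>
      rw [pow_zero, pow_zero, SurfRR.cl_idealMod_of_support_empty (D := (1 : X.IdealSheafData)) rfl]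
    | succ m ih => rw [pow_succ, pow_succ, SurfRR.cl_idealMod_mul (isEffCartierIdeal_pow (hE t) m) (hE t), ih]
  have hprod : ∀ S : Finset (Fin s), BlowUp.IsEffCartierIdeal
      ((∏ t ∈ S, (Scheme.IdealSheafData.vanishingIdeal ⟨{P t}, hPc t⟩) ^ d t).comap σ) ∧
      PicF.cl (ClSub.idealMod ((∏ t ∈ S, (Scheme.IdealSheafData.vanishingIdeal ⟨{P t}, hPc t⟩) ^ d t).comap σ)) =
        ∏ t ∈ S, PicF.cl (ClSub.idealMod (E t)) ^ d t := fun S => by
    induction S using Finset.induction with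
    | empty =>
      rw [Finset.prod_empty, Finset.prod_empty, Scheme.IdealSheafData.one_eq_top,
        Scheme.IdealSheafData.comap_top, ← Scheme.IdealSheafData.one_eq_top]
      exact ⟨by rw [Scheme.IdealSheafData.one_eq_top]; exact BlowUpLib.isEffCartier_top X,
        by rw [SurfRR.cl_idealMod_of_support_empty (D := (1 : X.IdealSheafData)) rfl]⟩
    | insert a S ha ih =>
      rw [Finset.prod_insert ha, Finset.prod_insert ha, ModPairLib.ideal_comap_mul, FComplLib.comap_pow]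
      exact ⟨ModPairLib.isEffCartier_mul (hpow a (d a)).1 ih.1,
        by rw [SurfRR.cl_idealMod_mul (hpow a (d a)).1 ih.1, (hpow a (d a)).2, ih.2]⟩
  rw [FGA.multiTwist, Big.cl_tensorList, ← List.ofFn_eq_map, List.prod_ofFn,
    Finset.prod_congr rfl fun j _ => H23.PicMul.cl_tensorPow _ _]
  exact (hprod Finset.univ).2.symm

end Blow

variable {n : ℕ} {k : Type u} [Field k] [IsAlgClosed k] {s : ℕ} (P : Fin s → ↥(CohB1.ProjSpace n k))
  (hP : Function.Injective P) (hPc : ∀ i, IsClosed ({P i} : Set ↥(CohB1.ProjSpace n k)))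
  (hZ : IsClosed (Set.range P)) {X : Scheme.{u}} (π : X ⟶ CohB1.ProjSpace n k)
  (hπ : BlowUp.IsBlowUp π (Scheme.IdealSheafData.vanishingIdeal ⟨Set.range P, hZ⟩))

/-- `π^*O(c) ⊗ ⊗_t I_{E_t}^{d_t}`. -/
abbrev multiBlowTwist (c : ℤ) (d : Fin s → ℕ) : X.Modules :=
  CohB1.tensorMod ((Scheme.Modules.pullback π).obj (Twist.twistProjSpace n k c))
    (FGA.multiTwist (fun t : Fin s => ClSub.idealMod ((Scheme.IdealSheafData.vanishingIdeal ⟨{P t}, hPc t⟩).comap π)) d)

include hP hπ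

theorem nonempty_multi_equiv (hn : 0 < n) (c : ℤ) (d : Fin s → ℕ) (q : ℕ) :
    Nonempty (Coh.HH X (multiBlowTwist P hPc π c d) q ≃ Coh.HH (CohB1.ProjSpace n k)
      ((DCoh.tensorBi.obj (Twist.twistProjSpace n k c)).obj (ClSub.idealMod (fatIdeal P hPc d))) q) := by
  letI : X.Over (Spec (CommRingCat.of k)) := ⟨π ≫ CohB1.ProjSpace.toSpec n k⟩
  have hg : HasGood (Scheme.IdealSheafData.vanishingIdeal ⟨Set.range P, hZ⟩) n :=
    hasGood_Pn_points hn ⟨Set.range P, hZ⟩ (Set.finite_range P) fun z hz => by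
      obtain ⟨t, rfl⟩ := hz
      exact hPc t
  have hD := hasGoodPow_fatIdeal P hPc hZ hP d hg
  obtain ⟨e₀⟩ := cl_eq_iff.1 (cl_idealMod_fat π P hPc hZ hP hg hπ d)
  obtain ⟨e⟩ := PnCoh.nonempty_linearEquiv_of_natPushEquiv k π rfl _ q
    (natPushEquiv_goodPow hD hπ hn (isInvertible_Tw (n := n) c) q)
  obtain ⟨e'⟩ := nonempty_pushforward_twist_goodPow hD hπ hn (isInvertible_Tw (n := n) (k := k) c)
  exact ⟨((PnEuler.hhIso k (PicGrp.tensorModIso (Iso.refl _) e₀) q).trans (e.trans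
    (PnEuler.hhIso k (e' ≪≫ Jets.tbiIso _ _) q))).toEquiv⟩

omit hP hπ in
theorem subsingleton_fat_quot (c : ℤ) (d : Fin s → ℕ) (q : ℕ) (hq : 1 ≤ q) :
    Subsingleton (Coh.HH (CohB1.ProjSpace n k)
      ((DCoh.tensorBi.obj (Twist.twistProjSpace n k c)).obj (ClSub.quotMod (fatIdeal P hPc d))) q) :=
  S0047.result _ _ (CurveTensor.isCoh_tensor (H23.PullPush.isFinLocFree_of_isInvertible (isInvertible_Tw c))
      (ParShLib.isCoh_quotMod _))
    (fun z hz => by
      obtain ⟨t, rfl⟩ := support_fatIdeal P hPc d (Big.support_quotMod_subset _ (CurveTensor.support_tensor_subset hz))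
      exact hPc t) q hq

include hZ in
theorem subsingleton_multi_high (hn : 0 < n) (c : ℤ) (d : Fin s → ℕ) (q : ℕ)
    (h : Subsingleton (Coh.HH (CohB1.ProjSpace n k) (Twist.twistProjSpace n k c) (q + 2))) :
    Subsingleton (Coh.HH X (multiBlowTwist P hPc π c d) (q + 2)) := by
  obtain ⟨e⟩ := nonempty_multi_equiv P hP hPc hZ π hπ hn c d (q + 2)
  haveI := PnEuler.subsingleton_X₁_succ k (Jets.shortExact_seq _ (fatIdeal P hPc d) (isInvertible_Tw (n := n) c))
    (q + 1) h (subsingleton_fat_quot P hPc c d (q + 1) (by omega))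
  exact @Equiv.subsingleton _ _ e this

include hZ in
theorem subsingleton_multi_zero (hn : 0 < n) (c : ℤ) (d : Fin s → ℕ)
    (h : Subsingleton (Coh.HH (CohB1.ProjSpace n k) (Twist.twistProjSpace n k c) 0)) :
    Subsingleton (Coh.HH X (multiBlowTwist P hPc π c d) 0) := by
  obtain ⟨e⟩ := nonempty_multi_equiv P hP hPc hZ π hπ hn c d 0
  haveI := PnEuler.subsingleton_X₁_zero k (Jets.shortExact_seq _ (fatIdeal P hPc d) (isInvertible_Tw (n := n) c)) h
  exact @Equiv.subsingleton _ _ e this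

end Groth.Agent.BlowCoh
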