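import Groth.Agent.BlowCoh.Twist
import Groth.Agent.GrModX.Dehom
import Groth.Agent.H6PnSm.Basic
import Groth.Agent.GrLib8.RegBound
import Mathlib.RingTheory.Nullstellensatz
import Mathlib.RingTheory.MvPolynomial.Ideal

/-!
# Finite sets of closed points, and coordinates at a closed point of projective space
-/

set_option autoImplicit false
set_option linter.style.haveILetI false
set_option linter.unusedSectionVars false
set_option backward.isDefEq.respectTransparency false
set_option backward.isDefEq.respectTransparency.types false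
set_option maxHeartbeats 400000

universe u

open CategoryTheory CategoryTheory.Limits AlgebraicGeometry TopologicalSpace Opposite
open Groth.Agent.BlowUpLib Groth.Agent.AModX

noncomputable section

namespace Groth.Agent.BlowCoh

open Groth.Agent

section General

variable {Y : Scheme.{u}}

theorem comap_res_primeIdealOf {U U₀ : Y.affineOpens} (hle : U.1 ≤ U₀.1) {y : Y} (hy : y ∈ U.1) :
    (U.2.primeIdealOf ⟨y, hy⟩).asIdeal.comap (AModX.resR hle) = (U₀.2.primeIdealOf ⟨y, hle hy⟩).asIdeal := by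
  rw [U.2.primeIdealOf_eq_map_closedPoint, U₀.2.primeIdealOf_eq_map_closedPoint]
  show Ideal.comap (Y.presheaf.map (homOfLE hle).op).hom (Ideal.comap (Y.presheaf.germ U.1 y hy).hom _) = _
  rw [Ideal.comap_comap, ← CommRingCat.hom_comp, Y.presheaf.germ_res]
  rfl

theorem vanishingIdeal_ideal_of_inter_eq (Z : Closeds Y) (U : Y.affineOpens) {y : Y} (hy : y ∈ U.1)
    (hyZ : y ∈ Z) (h : ∀ z ∈ Z, z ∈ U.1 → z = y) :
    (Scheme.IdealSheafData.vanishingIdeal Z).ideal U = (U.2.primeIdealOf ⟨y, hy⟩).asIdeal := by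
  have he : U.2.fromSpec ⁻¹' (Z : Set Y) = {U.2.primeIdealOf ⟨y, hy⟩} := by
    refine Set.ext fun q => ⟨fun hq => ?_, fun hq => ?_⟩
    · refine U.2.fromSpec.isOpenEmbedding.injective ?_
      rw [U.2.fromSpec_primeIdealOf]
      refine h _ hq ?_
      have h1 : U.2.fromSpec q ∈ Set.range U.2.fromSpec := Set.mem_range_self q
      rwa [U.2.range_fromSpec] at h1
    · rw [Set.mem_singleton_iff] at hq
      subst hq
      show U.2.fromSpec (U.2.primeIdealOf ⟨y, hy⟩) ∈ Z
      rwa [U.2.fromSpec_primeIdealOf]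
  rw [Scheme.IdealSheafData.vanishingIdeal_ideal, he]
  exact PrimeSpectrum.vanishingIdeal_singleton _

/-- Finite sets of closed points cut out by quasi-regular sequences of non-zero-divisors. -/
theorem hasGood_points [IsLocallyNoetherian Y] {d : ℕ} (hd : 0 < d) (Z : Closeds Y) (hZf : (Z : Set Y).Finite)
    (hZc : ∀ z ∈ Z, IsClosed ({z} : Set Y))
    (h : ∀ z ∈ Z, ∃ (U₀ : Y.affineOpens) (hz : z ∈ U₀.1) (a : Fin d → Γ(Y, U₀.1)),
      (∀ j, a j ∈ nonZeroDivisors Γ(Y, U₀.1)) ∧ CAlgX.IsQuasiRegular a ∧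
        Ideal.span (Set.range a) = (U₀.2.primeIdealOf ⟨z, hz⟩).asIdeal) :
    HasGood (Scheme.IdealSheafData.vanishingIdeal Z) d := by
  intro V y hy
  by_cases hyZ : y ∈ Z
  · obtain ⟨U₀, hyU₀, a, hreg, hq, hspan⟩ := h y hyZ
    let rest : Set Y := (Z : Set Y) \ {y}
    have hrest : IsClosed rest := by
      rw [← Set.biUnion_of_singleton rest]
      exact (hZf.subset Set.diff_subset).isClosed_biUnion fun z hz => hZc z hz.1
    let V' : Y.Opens := V ⊓ ⟨restᶜ, hrest.isOpen_compl⟩
    have hy' : y ∈ V' := ⟨hy, fun h => h.2 rfl⟩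
    obtain ⟨g, hgV, hyg⟩ := U₀.2.exists_basicOpen_le (V := V') ⟨y, hy'⟩ hyU₀
    let U : Y.affineOpens := ⟨Y.basicOpen g, U₀.2.basicOpen _⟩
    have hle : U.1 ≤ U₀.1 := Y.basicOpen_le _
    haveI := IsLocallyNoetherian.component_noetherian U₀
    letI : Algebra Γ(Y, U₀.1) Γ(Y, U.1) := (AModX.resR hle).toAlgebra
    haveI : IsLocalization.Away g Γ(Y, U.1) := U₀.2.isLocalization_of_eq_basicOpen _ (homOfLE hle) rfl
    haveI : Module.Flat Γ(Y, U₀.1) Γ(Y, U.1) := IsLocalization.flat _ (Submonoid.powers g)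
    refine ⟨U, hyg, fun z hz => (hgV hz).1, ⟨⟨fun j => algebraMap Γ(Y, U₀.1) Γ(Y, U.1) (a j),
      IsLocallyNoetherian.component_noetherian U, fun j => ?_, Synt29.QRDescent.qr_flat hq, ?_⟩⟩⟩
    · refine mem_nonZeroDivisors_iff_right.2 fun v hv => ?_
      obtain ⟨⟨x, s⟩, hx⟩ := IsLocalization.surj (Submonoid.powers g) v
      have h1 : algebraMap Γ(Y, U₀.1) Γ(Y, U.1) (x * a j) = 0 := by
        rw [map_mul, ← hx, mul_right_comm, hv, zero_mul]
      obtain ⟨m, hm⟩ := (IsLocalization.map_eq_zero_iff (Submonoid.powers g) _ _).1 h1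
      rw [← mul_assoc] at hm
      have h3 : algebraMap Γ(Y, U₀.1) Γ(Y, U.1) x = 0 := (IsLocalization.map_eq_zero_iff (Submonoid.powers g) _ _).2
        ⟨m, mem_nonZeroDivisors_iff_right.1 (hreg j) _ hm⟩
      rw [← hx] at h3
      exact (IsLocalization.map_units Γ(Y, U.1) s).mul_left_eq_zero.1 h3
    · rw [vanishingIdeal_ideal_of_inter_eq Z U hyg hyZ fun z hz hzU => by
        by_contra hne
        exact (hgV hzU).2 ⟨hz, hne⟩]
      refine ((IsLocalization.map_comap (Submonoid.powers g) Γ(Y, U.1)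
        (U.2.primeIdealOf ⟨y, hyg⟩).asIdeal).symm.trans ?_)
      show Ideal.map (algebraMap Γ(Y, U₀.1) Γ(Y, U.1))
        (Ideal.comap (AModX.resR hle) (U.2.primeIdealOf ⟨y, hyg⟩).asIdeal) = _
      rw [comap_res_primeIdealOf hle hyg, ← hspan]
      exact Synt29.QRDescent.map_span_range a
  · obtain ⟨_, ⟨W, hW, rfl⟩, hyW, hWV⟩ := Y.isBasis_affineOpens.exists_subset_of_mem_open
      (show y ∈ ((V ⊓ Z.compl : Y.Opens) : Set Y) from ⟨hy, hyZ⟩) (V ⊓ Z.compl).2
    refine ⟨⟨W, hW⟩, hyW, fun z hz => (hWV hz).1, ⟨⟨fun _ => 1, IsLocallyNoetherian.component_noetherian ⟨W, hW⟩,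
      fun _ => one_mem _, Synt29.QRDescent.qr_of_span_eq_top ?_, ?_⟩⟩⟩
    · exact Ideal.eq_top_of_isUnit_mem _ (Ideal.subset_span ⟨⟨0, hd⟩, rfl⟩) isUnit_one
    · rw [BlowUpX.ideal_eq_top_of_disjoint _ ⟨W, hW⟩ fun z hz hs => (hWV hz).2 (by
        rwa [Scheme.IdealSheafData.coe_support_vanishingIdeal] at hs), eq_comm]
      exact Ideal.eq_top_of_isUnit_mem _ (Ideal.subset_span ⟨⟨0, hd⟩, rfl⟩) isUnit_one

end General

section Proj

open MvPolynomial

variable {n : ℕ} {k : Type u} [Field k]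

local notation "𝒜" => CohB1.polyGrading n k
local notation "T" => (MvPolynomial.X : Fin (n + 1) → MvPolynomial (Fin (n + 1)) k)

/-- The standard opens. -/
abbrev Dpl (i : Fin (n + 1)) : (CohB1.ProjSpace n k).Opens := Proj.basicOpen 𝒜 (T i)

theorem isAffineOpen_Dpl (i : Fin (n + 1)) : IsAffineOpen (Dpl (k := k) i) :=
  Proj.isAffineOpen_basicOpen 𝒜 (T i) (H6PnSm.X_mem_one n k i) Nat.one_pos

/-- A form in affine coordinates centred at `w`. -/
def shiftHom (i : Fin (n + 1)) (w : Fin n → k) : MvPolynomial (Fin (n + 1)) k →+* MvPolynomial (Fin n) k :=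
  eval₂Hom C (Fin.insertNth (α := fun _ => MvPolynomial (Fin n) k) i 1 fun m => X m + C (w m))

/-- The coordinates of the chart centred at `w`. -/
def coordHomW (i : Fin (n + 1)) (w : Fin n → k) : MvPolynomial (Fin n) k →+* Γ(CohB1.ProjSpace n k, Dpl i) :=
  (Proj.awayToSection 𝒜 (T i)).hom.comp
    (eval₂Hom (H6PnSm.base n k i) fun m => H6PnSm.coord n k i (i.succAbove m) - H6PnSm.base n k i (w m))

theorem coordHomW_shiftHom (i : Fin (n + 1)) (w : Fin n → k) (a : MvPolynomial (Fin (n + 1)) k) :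
    coordHomW i w (shiftHom i w a) = (Proj.awayToSection 𝒜 (T i)).hom (H6PnSm.dehom n k i a) := by
  refine congrArg (Proj.awayToSection 𝒜 (T i)).hom ?_
  refine congrFun (congrArg DFunLike.coe (MvPolynomial.ringHom_ext
    (f := (eval₂Hom (H6PnSm.base n k i) fun m => H6PnSm.coord n k i (i.succAbove m) - H6PnSm.base n k i (w m)).comp
      (shiftHom i w)) (g := H6PnSm.dehom n k i) (fun c => ?_) fun j => ?_)) a
  · simp [shiftHom, H6PnSm.dehom]
  · induction j using Fin.succAboveCases i with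
    | x => simp [shiftHom, H6PnSm.dehom, H6PnSm.coord_self]
    | p m => simp [shiftHom, H6PnSm.dehom]

theorem isIso_awayToSection (i : Fin (n + 1)) : IsIso (Proj.awayToSection 𝒜 (T i)) :=
  inferInstanceAs (IsIso (Proj.basicOpenIsoAway 𝒜 (T i) (H6PnSm.X_mem_one n k i) Nat.one_pos).hom)

theorem bijective_coordHomW (i : Fin (n + 1)) (w : Fin n → k) : Function.Bijective (coordHomW i w) := by
  haveI := isIso_awayToSection (k := k) i
  have hb := ConcreteCategory.bijective_of_isIso (Proj.awayToSection 𝒜 (T i))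
  refine hb.comp ⟨?_, fun z => ?_⟩
  · let v : Fin (n + 1) → MvPolynomial (Fin n) k := Fin.insertNth i 1 fun m => X m + C (w m)
    have hv : v i = 1 := Fin.insertNth_apply_same _ _ _
    have hl : (H6PnSm.evalAt i v hv).comp (eval₂Hom (H6PnSm.base n k i)
        fun m => H6PnSm.coord n k i (i.succAbove m) - H6PnSm.base n k i (w m)) = RingHom.id _ := by
      refine MvPolynomial.ringHom_ext (fun c => ?_) fun m => ?_
      · rw [RingHom.comp_apply, eval₂Hom_C, ← RingHom.comp_apply, H6PnSm.evalAt_base]; rfl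
      · rw [RingHom.comp_apply, eval₂Hom_X', map_sub, H6PnSm.evalAt_coord, ← RingHom.comp_apply,
          H6PnSm.evalAt_base]
        simp [v]
    exact Function.LeftInverse.injective (g := H6PnSm.evalAt i v hv) fun x => congr($hl x)
  · obtain ⟨a, rfl⟩ := H6PnSm.surjective_dehom n k i z
    exact ⟨shiftHom i w a, hb.1 (coordHomW_shiftHom i w a)⟩

theorem mem_Dpl_cases (p : ↥(CohB1.ProjSpace n k)) : ∃ i, p ∈ Dpl (k := k) i := by
  have h := Proj.iSup_basicOpen_eq_top 𝒜 T (by
    intro q hq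
    have hq0 : MvPolynomial.coeff 0 q = 0 := by
      have hq' := (HomogeneousIdeal.mem_irrelevant_iff 𝒜 q).1 hq
      rw [GradedRing.proj_apply] at hq'
      have h0 : MvPolynomial.homogeneousComponent 0 q = 0 :=
        (MvPolynomial.decomposition.decompose'_apply q 0).symm.trans hq'
      rw [MvPolynomial.homogeneousComponent_zero] at h0
      exact (MvPolynomial.C_injective _ _).eq_iff.1 (h0.trans (map_zero _).symm)
    rw [← Set.image_univ, MvPolynomial.mem_ideal_span_X_image]
    intro m hm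
    by_contra! hno
    have : m = 0 := Finsupp.ext fun i => hno i (Set.mem_univ i)
    subst this
    exact MvPolynomial.mem_support_iff.1 hm hq0)
  exact TopologicalSpace.Opens.mem_iSup.1 (show p ∈ ⨆ i, Proj.basicOpen 𝒜 (T i) by rw [h]; trivial)

theorem isMaximal_idealOfVars {σ : Type} {k : Type u} [Field k] :
    (MvPolynomial.idealOfVars σ k).IsMaximal := by
  have h : MvPolynomial.idealOfVars σ k = RingHom.ker (MvPolynomial.constantCoeff : MvPolynomial σ k →+* k) := by
    ext q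
    rw [← pow_one (MvPolynomial.idealOfVars σ k), MvPolynomial.mem_pow_idealOfVars_iff', RingHom.mem_ker,
      MvPolynomial.constantCoeff_eq]
    refine ⟨fun h => h 0 (by simp), fun h x hx => ?_⟩
    rw [Nat.lt_one_iff, Finsupp.degree_eq_zero_iff] at hx
    rw [hx, h]
  rw [h]
  exact RingHom.ker_isMaximal_of_surjective _ fun c => ⟨C c, constantCoeff_C σ c⟩

variable [IsAlgClosed k]

/-- Coordinates of a chart centred at a closed point. -/
theorem exists_coord {p : ↥(CohB1.ProjSpace n k)} (hp : IsClosed ({p} : Set ↥(CohB1.ProjSpace n k))) :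
    ∃ (i : Fin (n + 1)) (hpi : p ∈ Dpl (k := k) i) (w : Fin n → k),
      ((isAffineOpen_Dpl i).primeIdealOf ⟨p, hpi⟩).asIdeal =
        (MvPolynomial.idealOfVars (Fin n) k).map (coordHomW i w) := by
  obtain ⟨i, hpi⟩ := mem_Dpl_cases p
  haveI := (isAffineOpen_Dpl (k := k) i).primeIdealOf_isMaximal_of_isClosed ⟨p, hpi⟩ hp
  let P := ((isAffineOpen_Dpl (k := k) i).primeIdealOf ⟨p, hpi⟩).asIdeal
  haveI : (P.comap (coordHomW i 0)).IsMaximal :=
    Ideal.comap_isMaximal_of_surjective _ (bijective_coordHomW i 0).2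
  obtain ⟨w, hw⟩ := MvPolynomial.isMaximal_iff_eq_vanishingIdeal_singleton.1 this
  refine ⟨i, hpi, w, ?_⟩
  have hX : ∀ m, coordHomW i w (X m) = coordHomW i 0 (X m - C (w m)) := fun m => by
    refine congrArg (Proj.awayToSection 𝒜 (T i)).hom ?_
    simp
  have hmax : (MvPolynomial.idealOfVars (Fin n) k).map (coordHomW i w) ≤ P := by
    rw [MvPolynomial.idealOfVars, Ideal.map_span, Ideal.span_le]
    rintro _ ⟨_, ⟨m, rfl⟩, rfl⟩
    rw [hX, SetLike.mem_coe, ← Ideal.mem_comap, hw, MvPolynomial.mem_vanishingIdeal_singleton_iff]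
    simp
  refine (Ideal.IsMaximal.eq_of_le ?_ (Ideal.IsPrime.ne_top inferInstance) hmax).symm
  haveI := isMaximal_idealOfVars (σ := Fin n) (k := k)
  exact Ideal.IsMaximal.map_bijective _ (bijective_coordHomW i w) inferInstance

theorem isQuasiRegular_coord (i : Fin (n + 1)) (w : Fin n → k) :
    CAlgX.IsQuasiRegular fun m => coordHomW i w (X m) := by
  intro r P hP he e
  let ψ := RingEquiv.ofBijective _ (bijective_coordHomW i w)
  let a : Fin n → MvPolynomial (Fin n) k := fun m => X m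
  have hspan : Ideal.span (Set.range fun m => coordHomW i w (X m)) = (Ideal.span (Set.range a)).map ψ.toRingHom := by
    rw [Ideal.map_span, ← Set.range_comp]; rfl
  obtain ⟨P₀, rfl⟩ := MvPolynomial.map_surjective ψ.toRingHom ψ.surjective P
  rw [coeff_map, hspan]
  refine Ideal.mem_map_of_mem _ (LinType.quasiRegular (a := a) (GrLib8.isWeaklyRegular_X k n)
    (MvPolynomial.IsHomogeneous.of_map (f := ψ.toRingHom) ψ.injective hP) ?_ e)
  rw [hspan, ← Ideal.map_pow] at he
  have h2 : MvPolynomial.eval (fun m => coordHomW i w (X m)) (MvPolynomial.map ψ.toRingHom P₀) =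
      ψ.toRingHom (MvPolynomial.eval a P₀) := by
    rw [MvPolynomial.eval_map]
    exact (MvPolynomial.eval₂_comp ψ.toRingHom a P₀).symm
  rw [h2] at he
  obtain ⟨x, hx, hxe⟩ := (Ideal.mem_map_iff_of_surjective ψ.toRingHom ψ.surjective).1 he
  rwa [← ψ.injective hxe]

theorem hasGood_Pn_points (hn : 0 < n) (Z : Closeds ↥(CohB1.ProjSpace n k))
    (hZf : (Z : Set ↥(CohB1.ProjSpace n k)).Finite) (hZc : ∀ z ∈ Z, IsClosed ({z} : Set ↥(CohB1.ProjSpace n k)))
    [IsLocallyNoetherian (CohB1.ProjSpace n k)] :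
    HasGood (Scheme.IdealSheafData.vanishingIdeal Z) n :=
  hasGood_points hn Z hZf hZc fun z hz => by
    obtain ⟨i, hi, w, hw⟩ := exists_coord (hZc z hz)
    refine ⟨⟨_, isAffineOpen_Dpl i⟩, hi, fun m => coordHomW i w (X m), fun m => ?_, isQuasiRegular_coord i w, ?_⟩
    · refine mem_nonZeroDivisors_iff_right.2 fun x hx => ?_
      obtain ⟨q, rfl⟩ := (bijective_coordHomW i w).2 x
      rw [← map_mul] at hx
      have h1 := (bijective_coordHomW i w).1 (hx.trans (map_zero _).symm)
      rw [(mul_eq_zero_iff_right (X_ne_zero m)).1 h1, map_zero]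
    · rw [hw, MvPolynomial.idealOfVars, Ideal.map_span, ← Set.range_comp]
      rfl

end Proj

end Groth.Agent.BlowCoh
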