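import Groth.Agent.BlowCoh.PnMulti
import Groth.Agent.BlowCoh.InverseTwist
import Groth.Agent.BlowCoh.KoszulVanish
import Groth.Agent.BlowCoh.IdealPull
import Groth.Agent.BlowCoh.PnGen
import Groth.Agent.PnVan.Pull
import Groth.Agent.BlowUpLib.Glue

/-!
# Vanishing on the blow-up of projective space in at most one point
-/

set_option autoImplicit false
set_option linter.style.haveILetI false
set_option linter.unusedSectionVars false
set_option backward.isDefEq.respectTransparency false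
set_option backward.isDefEq.respectTransparency.types false
set_option maxHeartbeats 400000

universe u

open CategoryTheory CategoryTheory.Limits AlgebraicGeometry TopologicalSpace Opposite
open Groth.Agent.H23.PicMul

noncomputable section

namespace Groth.Agent.BlowCoh

open Groth.Agent

/-- The class of `O(c)`. -/
abbrev clO (n : ℕ) (k : Type u) [Field k] (c : ℤ) : PicF.Cl (CohB1.ProjSpace n k) :=
  PicF.cl (Twist.twistProjSpace n k c)

theorem clO_add {n : ℕ} {k : Type u} [Field k] (a b : ℤ) : clO n k (a + b) = clO n k a * clO n k b := by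
  rw [clO, clO, clO, ← cl_tensor]
  exact cl_eq_iff.2 ⟨(PnCoh.Finite.twist_tensor_iso (PnDual.coordsR k n) PnDual.coordsR_mem PnDual.coordsR_cover
    a b).some.symm⟩

theorem clO_zero {n : ℕ} {k : Type u} [Field k] : clO n k 0 = 1 := by
  rw [clO, one_def]
  exact cl_eq_iff.2 ⟨(PnVan.twist_zero (k := k) (r := n)).some.symm⟩

theorem pow_clO {n : ℕ} {k : Type u} [Field k] (a : ℤ) (t : ℕ) : clO n k a ^ t = clO n k (a * t) := by
  induction t with
  | zero => rw [pow_zero, Nat.cast_zero, mul_zero, clO_zero]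
  | succ t ih => rw [pow_succ, ih, ← clO_add, Nat.cast_succ, mul_add, mul_one]

variable {n : ℕ} {k : Type u} [Field k] {X : Scheme.{u}} (π : X ⟶ CohB1.ProjSpace n k)
  (Z : Closeds ↥(CohB1.ProjSpace n k))

/-- The exceptional ideal module. -/
abbrev excMod : X.Modules := ClSub.idealMod (BlowUp.exceptional π (Scheme.IdealSheafData.vanishingIdeal Z))

/-- `π^*O(c) ⊗ I_E^{⊗ d}`. -/
abbrev twA (c : ℤ) (d : ℕ) : X.Modules :=
  CohB1.tensorMod ((Scheme.Modules.pullback π).obj (Twist.twistProjSpace n k c)) (CohB1.tensorPow (excMod π Z) d)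

/-- `π^*O(c) ⊗ L^{⊗ b}`. -/
abbrev twB (L : X.Modules) (c : ℤ) (b : ℕ) : X.Modules :=
  CohB1.tensorMod ((Scheme.Modules.pullback π).obj (Twist.twistProjSpace n k c)) (CohB1.tensorPow L b)

/-- The class of `π^*O(c)`. -/
abbrev clT (c : ℤ) : PicF.Cl X := PicF.pullCl π (clO n k c)

theorem clT_add (a b : ℤ) : clT π (a + b) = clT π a * clT π b := by rw [clT, clO_add, pullCl_mul]

theorem clT_zero : clT π 0 = 1 := by rw [clT, clO_zero, pullCl_one]

theorem pow_clT (a : ℤ) (t : ℕ) : clT π a ^ t = clT π (a * t) := by rw [clT, ← pullCl_pow, pow_clO]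

theorem cl_pullTw (c : ℤ) :
    PicF.cl ((Scheme.Modules.pullback π).obj (Twist.twistProjSpace n k c)) = clT π c := rfl

theorem cl_twA (c : ℤ) (d : ℕ) : PicF.cl (twA π Z c d) = clT π c * PicF.cl (excMod π Z) ^ d := by
  rw [twA, cl_tensor, cl_tensorPow, cl_pullTw]

theorem cl_twB (L : X.Modules) (c : ℤ) (b : ℕ) : PicF.cl (twB π L c b) = clT π c * PicF.cl L ^ b := by
  rw [twB, cl_tensor, cl_tensorPow, cl_pullTw]

theorem subsingleton_tensor_ideal {Y : Scheme.{u}} [Y.Over (Spec (CommRingCat.of k))] (T : Y.Modules)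
    (J : Y.IdealSheafData) (hT : PicF.IsInvertible T) (q : ℕ) (h : Subsingleton (Coh.HH Y T (q + 1)))
    (h' : Subsingleton (Coh.HH Y ((DCoh.tensorBi.obj T).obj (ClSub.quotMod J)) q)) :
    Subsingleton (Coh.HH Y (CohB1.tensorMod T (ClSub.idealMod J)) (q + 1)) :=
  @Equiv.subsingleton _ _ (PnEuler.hhIso k (Jets.tbiIso T (ClSub.idealMod J)) (q + 1)).toEquiv
    (PnEuler.subsingleton_X₁_succ k (Jets.shortExact_seq T J hT) q h h')

theorem subsingleton_quot_points {Y : Scheme.{u}} [IsLocallyNoetherian Y] (T : Y.Modules) (J : Y.IdealSheafData)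
    (hT : PicF.IsInvertible T) (hJ : ∀ z ∈ (J.support : Set Y), IsClosed ({z} : Set Y)) (q : ℕ) (hq : 1 ≤ q) :
    Subsingleton (Coh.HH Y ((DCoh.tensorBi.obj T).obj (ClSub.quotMod J)) q) :=
  S0047.result _ _ (CurveTensor.isCoh_tensor (H23.PullPush.isFinLocFree_of_isInvertible hT)
      (ParShLib.isCoh_quotMod J))
    (fun z hz => hJ z (Big.support_quotMod_subset J (CurveTensor.support_tensor_subset hz))) q hq

theorem subsingleton_ideal_pow_high [IsAlgClosed k] (hZc : ∀ z ∈ Z, IsClosed ({z} : Set ↥(CohB1.ProjSpace n k)))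
    (c : ℤ) {d : ℕ} (hd : d ≠ 0) (q : ℕ)
    (h : Subsingleton (Coh.HH (CohB1.ProjSpace n k) (Twist.twistProjSpace n k c) (q + 2))) :
    Subsingleton (Coh.HH (CohB1.ProjSpace n k) (CohB1.tensorMod (Twist.twistProjSpace n k c)
      (ClSub.idealMod ((Scheme.IdealSheafData.vanishingIdeal Z) ^ d))) (q + 2)) :=
  subsingleton_tensor_ideal (k := k) _ _ (isInvertible_Tw (n := n) c) (q + 1) h
    (subsingleton_quot_points _ _ (isInvertible_Tw (n := n) c) (fun z hz => hZc z (by
      rwa [Scheme.IdealSheafData.support_pow _ d hd, Scheme.IdealSheafData.coe_support_vanishingIdeal] at hz))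
      (q + 1) (by omega))

variable (hπ : BlowUp.IsBlowUp π (Scheme.IdealSheafData.vanishingIdeal Z))

include hπ

theorem cl_exc_pow (d : ℕ) :
    PicF.cl (ClSub.idealMod ((BlowUp.exceptional π (Scheme.IdealSheafData.vanishingIdeal Z)) ^ d)) =
      PicF.cl (excMod π Z) ^ d := by
  induction d with
  | zero =>
    rw [pow_zero, pow_zero, SurfRR.cl_idealMod_of_support_empty (D := (1 : X.IdealSheafData)) rfl]
  | succ m ih => rw [pow_succ, pow_succ, SurfRR.cl_idealMod_mul (isEffCartierIdeal_pow hπ.1 m) hπ.1, ih]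

theorem isInvertible_excMod : PicF.IsInvertible (excMod π Z) := Big.isInvertible_ideal hπ.1

theorem isInvertible_twA (c : ℤ) (d : ℕ) : PicF.IsInvertible (twA π Z c d) :=
  H23.PicMul.isInvertible_tensor (PicClLib.isInvertible_pullback π (isInvertible_Tw (n := n) c))
    (H23.PicMul.isInvertible_tensorPow (isInvertible_excMod π Z hπ) d)

variable [IsAlgClosed k] [X.Over (Spec (CommRingCat.of k))]
  (hπk : π ≫ CohB1.ProjSpace.toSpec n k = X ↘ Spec (CommRingCat.of k)) (hn : 2 ≤ n)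
  (hZf : (Z : Set ↥(CohB1.ProjSpace n k)).Finite) (hZc : ∀ z ∈ Z, IsClosed ({z} : Set ↥(CohB1.ProjSpace n k)))

include hπk hn hZf hZc

theorem nonempty_twA_equiv (c : ℤ) (d q : ℕ) :
    Nonempty (Coh.HH X (twA π Z c d) q ≃ₗ[k] Coh.HH (CohB1.ProjSpace n k)
      (CohB1.tensorMod (Twist.twistProjSpace n k c)
        (ClSub.idealMod ((Scheme.IdealSheafData.vanishingIdeal Z) ^ d))) q) := by
  have hg := hasGood_Pn_points (show 0 < n by omega) Z hZf hZc
  obtain ⟨e⟩ := PnCoh.nonempty_linearEquiv_of_natPushEquiv k π hπk _ q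
    (natPushEquiv_twist hg hπ (show 0 < n by omega) (isInvertible_Tw (n := n) c) d q)
  obtain ⟨e'⟩ := nonempty_pushforward_twist hg hπ (show 0 < n by omega) (isInvertible_Tw (n := n) (k := k) c) d
  obtain ⟨e₀⟩ := cl_eq_iff.1 ((cl_twA π Z c d).trans (by
    rw [← cl_exc_pow π Z hπ d, ← cl_pullTw, ← cl_tensor]))
  exact ⟨(PnEuler.hhIso k e₀ q).trans (e.trans (PnEuler.hhIso k e' q))⟩

/-- Without a twist by the exceptional divisor the cohomology is that of projective space. -/
theorem subsingleton_twA_zero (c : ℤ) (q : ℕ)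
    (h : Subsingleton (Coh.HH (CohB1.ProjSpace n k) (Twist.twistProjSpace n k c) q)) :
    Subsingleton (Coh.HH X (twA π Z c 0) q) := by
  obtain ⟨e⟩ := nonempty_twA_equiv π Z hπ hπk hn hZf hZc c 0 q
  obtain ⟨e'⟩ := (cl_eq_iff (A := CohB1.tensorMod (Twist.twistProjSpace n k c)
    (ClSub.idealMod ((Scheme.IdealSheafData.vanishingIdeal Z) ^ 0))) (B := Twist.twistProjSpace n k c)).1 (by
    rw [cl_tensor, pow_zero, SurfRR.cl_idealMod_of_support_empty
      (D := (1 : (CohB1.ProjSpace n k).IdealSheafData)) rfl, mul_one])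
  exact (e.trans (PnEuler.hhIso k e' q)).toEquiv.subsingleton

theorem subsingleton_twA_high (c : ℤ) (d q : ℕ)
    (h : Subsingleton (Coh.HH (CohB1.ProjSpace n k) (Twist.twistProjSpace n k c) (q + 2))) :
    Subsingleton (Coh.HH X (twA π Z c d) (q + 2)) := by
  rcases Nat.eq_zero_or_pos d with rfl | hd
  · exact subsingleton_twA_zero π Z hπ hπk hn hZf hZc c (q + 2) h
  obtain ⟨e⟩ := nonempty_twA_equiv π Z hπ hπk hn hZf hZc c d (q + 2)
  haveI := subsingleton_ideal_pow_high Z hZc c (by omega : d ≠ 0) q h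
  exact e.toEquiv.subsingleton

/-- `H^i(π^*O(c) ⊗ I_E^d) = 0` for `i ≥ 1` when this holds on projective space and `d ≤ c + 1` if `i = 1`. -/
theorem subsingleton_twA (hsub : (Z : Set ↥(CohB1.ProjSpace n k)).Subsingleton) (c : ℤ) (d i : ℕ) (hi : 1 ≤ i)
    (hd : i = 1 → d = 0 ∨ (d : ℤ) ≤ c + 1)
    (h : Subsingleton (Coh.HH (CohB1.ProjSpace n k) (Twist.twistProjSpace n k c) i)) :
    Subsingleton (Coh.HH X (twA π Z c d) i) := by
  rcases Nat.lt_or_ge 1 i with hi' | hi'
  · obtain ⟨q, rfl⟩ := Nat.exists_eq_add_of_le' hi'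
    exact subsingleton_twA_high π Z hπ hπk hn hZf hZc c d q h
  obtain rfl : i = 1 := by omega
  rcases hd rfl with rfl | hd
  · exact subsingleton_twA_zero π Z hπ hπk hn hZf hZc c 1 h
  rcases hsub.eq_empty_or_singleton with hZ0 | ⟨p, hZ1⟩
  · have hI : PicF.cl (excMod π Z) = 1 := by
      refine SurfRR.cl_idealMod_of_support_empty ?_
      rw [Scheme.IdealSheafData.support_comap, TopologicalSpace.Closeds.coe_preimage,
        Scheme.IdealSheafData.coe_support_vanishingIdeal, hZ0, Set.preimage_empty]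
    obtain ⟨e⟩ := (cl_eq_iff (A := twA π Z c d) (B := twA π Z c 0)).1 (by
      rw [cl_twA, cl_twA, hI, one_pow, one_pow])
    haveI := subsingleton_twA_zero π Z hπ hπk hn hZf hZc c 1 h
    exact (PnEuler.hhIso k e 1).toEquiv.subsingleton
  · have hp : IsClosed ({p} : Set ↥(CohB1.ProjSpace n k)) := hZ1 ▸ Z.isClosed
    obtain rfl : Z = ⟨{p}, hp⟩ := Closeds.ext hZ1
    obtain ⟨e⟩ := nonempty_twA_equiv π ⟨{p}, hp⟩ hπ hπk hn hZf hZc c d 1
    haveI := finite_twIdeal hp c d 1
    haveI : Subsingleton (Coh.HH (CohB1.ProjSpace n k) (twIdeal hp c d) 1) :=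
      Module.finrank_zero_iff.1 (finrank_twIdeal_of_le hp hn hd).2
    exact e.toEquiv.subsingleton

theorem subsingleton_twB_small {L : X.Modules} (hL : ClSub.IsInverseOf L (excMod π Z)) (c : ℤ) {b : ℕ}
    (hb : b < n) (q : ℕ) (h : Subsingleton (Coh.HH (CohB1.ProjSpace n k) (Twist.twistProjSpace n k c) q)) :
    Subsingleton (Coh.HH X (twB π L c b) q) := by
  have hg := hasGood_Pn_points (show 0 < n by omega) Z hZf hZc
  have h1 : PicF.cl L * PicF.cl (excMod π Z) = 1 := by
    rw [← cl_tensor, one_def]; exact cl_eq_iff.2 hL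
  have hLb : ClSub.IsInverseOf (CohB1.tensorPow L b)
      (ClSub.idealMod ((BlowUp.exceptional π (Scheme.IdealSheafData.vanishingIdeal Z)) ^ b)) :=
    cl_eq_iff.1 (by rw [cl_tensor, cl_tensorPow, cl_exc_pow π Z hπ, ← mul_pow, h1, one_pow, one_def])
  obtain ⟨e⟩ := PnCoh.nonempty_linearEquiv_of_natPushEquiv k π hπk _ q
    (natPushEquiv_inverse hg hπ (show 0 < n by omega) hLb hb (isInvertible_Tw (n := n) c) q)
  obtain ⟨e'⟩ := nonempty_pushforward_inverse_twist hg hπ (show 0 < n by omega) hLb hb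
    (isInvertible_Tw (n := n) (k := k) c)
  exact (e.trans (PnEuler.hhIso k e' q)).toEquiv.subsingleton

omit hπk hn hZf hZc in
theorem exists_gen_point {p : ↥(CohB1.ProjSpace n k)} (hp : IsClosed ({p} : Set ↥(CohB1.ProjSpace n k)))
    (hZ : Z = ⟨{p}, hp⟩) :
    ∃ ψ : FlatMod.freeMod X n ⟶ twA π Z 1 1, Epi ψ := by
  subst hZ
  obtain ⟨ψ, hψ⟩ := exists_epi_linear (n := n) hp
  obtain ⟨β, hβ⟩ := exists_epi_idealPull π (ptPow hp 1)
  obtain ⟨q⟩ := AVPoinc.nonempty_pullback_freeMod π n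
  obtain ⟨t⟩ := H23.PicMul.pull π (Twist.twistProjSpace n k ((1 : ℕ) : ℤ)) (ClSub.idealMod (ptPow hp 1))
  obtain ⟨e⟩ := (cl_eq_iff (A := (DCoh.tensorBi.obj ((Scheme.Modules.pullback π).obj
      (Twist.twistProjSpace n k ((1 : ℕ) : ℤ)))).obj (ClSub.idealMod ((ptPow hp 1).comap π)))
      (B := twA π ⟨{p}, hp⟩ 1 1)).1 (by
    rw [cl_twA, pow_one, ← cl_pullTw, ← cl_tensor]
    exact cl_eq_iff.2 ⟨(Jets.tbiIso _ _).symm ≪≫ eqToIso (by simp [ptPow, excMod, pow_one, Nat.cast_one])⟩)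
  haveI : Epi ((Scheme.Modules.pullback π).map ψ) := inferInstance
  haveI : Epi ((DCoh.tensorBi.obj ((Scheme.Modules.pullback π).obj
    (Twist.twistProjSpace n k ((1 : ℕ) : ℤ)))).map β) := inferInstance
  exact ⟨q.inv ≫ (Scheme.Modules.pullback π).map ψ ≫ ((Scheme.Modules.pullback π).mapIso
    (Jets.tbiIso _ _).symm ≪≫ t ≪≫ Jets.tbiIso _ _).hom ≫
    (DCoh.tensorBi.obj ((Scheme.Modules.pullback π).obj (Twist.twistProjSpace n k ((1 : ℕ) : ℤ)))).map β ≫ e.hom,
    inferInstance⟩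

omit hn hZc in
theorem isLocallyNoetherian_blow : IsLocallyNoetherian X := by
  haveI : IsProper π := BlowUpLib.isProper_of_isBlowUp _ hπ fun U => by
    haveI := IsLocallyNoetherian.component_noetherian (X := CohB1.ProjSpace n k) U
    exact IsNoetherian.noetherian _
  exact LocallyOfFiniteType.isLocallyNoetherian π

/-- `H^j(π^*O(c) ⊗ L^b) = 0` for `j < n` and `c + b < 0`, `L` inverse to the exceptional ideal. -/
theorem subsingleton_twB (hsub : (Z : Set ↥(CohB1.ProjSpace n k)).Subsingleton) {L : X.Modules}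
    (hLi : PicF.IsInvertible L) (hL : ClSub.IsInverseOf L (excMod π Z)) (b : ℕ) :
    ∀ (c : ℤ), c + b < 0 → ∀ j < n, Subsingleton (Coh.HH X (twB π L c b) j) := by
  have h1 : PicF.cl L * PicF.cl (excMod π Z) = 1 := by
    rw [← cl_tensor, one_def]; exact cl_eq_iff.2 hL
  have hPn : ∀ (c : ℤ), c < 0 → ∀ j < n,
      Subsingleton (Coh.HH (CohB1.ProjSpace n k) (Twist.twistProjSpace n k c) j) := fun c hc j hj =>
    subsingleton_Tw c j (fun h => by omega) (fun h => by omega)
  rcases hsub.eq_empty_or_singleton with hZ0 | ⟨p, hZ1⟩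
  · intro c hc j hj
    have hI : PicF.cl (excMod π Z) = 1 := by
      refine SurfRR.cl_idealMod_of_support_empty ?_
      rw [Scheme.IdealSheafData.support_comap, TopologicalSpace.Closeds.coe_preimage,
        Scheme.IdealSheafData.coe_support_vanishingIdeal, hZ0, Set.preimage_empty]
    have hL1 : PicF.cl L = 1 := by rwa [hI, mul_one] at h1
    obtain ⟨e⟩ := (cl_eq_iff (A := twB π L c b) (B := twB π L c 0)).1 (by
      rw [cl_twB, cl_twB, hL1, one_pow, one_pow])
    haveI := subsingleton_twB_small π Z hπ hπk hn hZf hZc hL c (b := 0) (by omega) j (hPn c (by omega) j hj)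
    exact (PnEuler.hhIso k e j).toEquiv.subsingleton
  have hp : IsClosed ({p} : Set ↥(CohB1.ProjSpace n k)) := hZ1 ▸ Z.isClosed
  obtain ⟨ψ, hψ⟩ := exists_gen_point π Z hπ hp (Closeds.ext hZ1)
  haveI := isLocallyNoetherian_blow π Z hπ hπk hZf
  induction b using Nat.strong_induction_on with
  | _ b ih =>
    intro c hc j hj
    rcases Nat.lt_or_ge b n with hb | hb
    · exact subsingleton_twB_small π Z hπ hπk hn hZf hZc hL c hb j (hPn c (by omega) j hj)
    obtain ⟨n', rfl⟩ := Nat.exists_eq_add_of_le' (show 1 ≤ n by omega)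
    have hG : PicF.cl (twA π Z 1 1) * PicF.cl (twB π L (-1) 1) = 1 := by
      rw [cl_twA, cl_twB, mul_mul_mul_comm, ← clT_add, add_neg_cancel, clT_zero, one_mul, pow_one, pow_one,
        mul_comm, h1]
    have hinv : ClSub.IsInverseOf (twA π Z 1 1) (twB π L (-1) 1) :=
      cl_eq_iff.1 (by rw [cl_tensor, hG, one_def])
    have hN : PicF.IsInvertible (twB π L (c + (n' + 1 : ℕ)) (b - (n' + 1))) :=
      H23.PicMul.isInvertible_tensor (PicClLib.isInvertible_pullback π (isInvertible_Tw (n := n' + 1) _))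
        (H23.PicMul.isInvertible_tensorPow hLi _)
    have hcl : ∀ m : ℕ, PicF.cl (CohB1.tensorMod (twB π L (c + (n' + 1 : ℕ)) (b - (n' + 1)))
        (CohB1.tensorPow (twB π L (-1) 1) m)) =
          PicF.cl (twB π L (c + (n' + 1 : ℕ) - m) (b - (n' + 1) + m)) := fun m => by
      rw [cl_tensor, cl_tensorPow, cl_twB, cl_twB, cl_twB, mul_pow, pow_clT, mul_mul_mul_comm, ← clT_add,
        ← pow_mul, one_mul, ← pow_add]
      congr 2
      ring
    have h := koszul_vanishing k (AmpleNeg.isInvertible_inverse (isInvertible_twA π Z hπ 1 1) hinv) hinv ψ hN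
      (fun m hm j hj => by
        obtain ⟨e⟩ := cl_eq_iff.1 (hcl m)
        haveI := ih (b - (n' + 1) + m) (by omega) (c + (n' + 1 : ℕ) - m) (by omega) j (by omega)
        exact (PnEuler.hhIso k e j).toEquiv.subsingleton) j (by omega)
    obtain ⟨e⟩ := cl_eq_iff.1 ((hcl (n' + 1)).trans (congrArg₂ (fun (x : ℤ) y => PicF.cl (twB π L x y))
      (show c + (n' + 1 : ℕ) - (n' + 1 : ℕ) = c by omega) (show b - (n' + 1) + (n' + 1) = b by omega)))
    exact (PnEuler.hhIso k e j).symm.toEquiv.subsingleton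

end Groth.Agent.BlowCoh
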