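import Groth.Agent.BlowCoh.LocFree
import Groth.Agent.RelTildeX.SheafCrit
import Groth.Agent.QCoh.HHExact

/-!
# Direct images of pullbacks of modules with a two-term locally free resolution
-/

set_option autoImplicit false
set_option linter.style.haveILetI false
set_option linter.unusedSectionVars false
set_option backward.isDefEq.respectTransparency false
set_option backward.isDefEq.respectTransparency.types false
set_option maxHeartbeats 400000

universe u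

open CategoryTheory CategoryTheory.Limits AlgebraicGeometry TopologicalSpace Opposite
open Groth.Agent.AModX

noncomputable section

namespace Groth.Agent.BlowCoh

open Groth.Agent

/-- The third component is invertible if the first two are. -/
theorem isIso_of_shortExact {C : Type*} [Category C] [Abelian C] {S T : ShortComplex C} (φ : S ⟶ T)
    (hS : S.ShortExact) (hT : T.ShortExact) [IsIso φ.τ₁] [IsIso φ.τ₂] : IsIso φ.τ₃ := by
  haveI := hS.epi_g
  haveI := hT.epi_g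
  have w : T.f ≫ inv φ.τ₂ ≫ S.g = 0 := by
    have h : T.f ≫ inv φ.τ₂ = inv φ.τ₁ ≫ S.f := by
      rw [IsIso.comp_inv_eq, Category.assoc, ← φ.comm₁₂, IsIso.inv_hom_id_assoc]
    rw [reassoc_of% h, S.zero, comp_zero]
  refine ⟨hT.gIsCokernel.desc (CokernelCofork.ofπ _ w), ?_, ?_⟩
  · rw [← cancel_epi S.g, ← Category.assoc, ← φ.comm₂₃, Category.assoc]
    erw [hT.gIsCokernel.fac (CokernelCofork.ofπ _ w) WalkingParallelPair.one]
    simp
  · rw [← cancel_epi T.g, ← Category.assoc]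
    erw [hT.gIsCokernel.fac (CokernelCofork.ofπ _ w) WalkingParallelPair.one]
    simp [φ.comm₂₃]

variable {X Y : Scheme.{u}} {σ : X ⟶ Y} {I : Y.IdealSheafData} {d : ℕ}
  (hI : HasGood I d) (hσ : BlowUp.IsBlowUp σ I) (hd : 0 < d)
  (T : ShortComplex Y.Modules) (hT : T.ShortExact) (h₁ : FlatMod.IsFinLocFree T.X₁)
  (h₂ : FlatMod.IsFinLocFree T.X₂) (hpull : (T.map (Scheme.Modules.pullback σ)).ShortExact)

include hI h₁ h₂ in
theorem exists_good_trivial (V : Y.Opens) (y : Y) (hy : y ∈ V) :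
    ∃ U : Y.affineOpens, y ∈ U.1 ∧ U.1 ≤ V ∧ Nonempty (Good I U d) ∧
      (∃ (U₀ : Y.Opens) (n : ℕ), U.1 ≤ U₀ ∧ Nonempty (T.X₁.restrict U₀.ι ≅ FlatMod.freeMod U₀.toScheme n)) ∧
      (∃ (U₀ : Y.Opens) (n : ℕ), U.1 ≤ U₀ ∧ Nonempty (T.X₂.restrict U₀.ι ≅ FlatMod.freeMod U₀.toScheme n)) := by
  obtain ⟨A, n, hyA, hA⟩ := h₁ y
  obtain ⟨B, m, hyB, hB⟩ := h₂ y
  obtain ⟨U, hyU, hUV, hG⟩ := hI (V ⊓ A ⊓ B) y ⟨⟨hy, hyA⟩, hyB⟩
  exact ⟨U, hyU, hUV.trans (inf_le_left.trans inf_le_left), hG,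
    ⟨A, n, hUV.trans (inf_le_left.trans inf_le_right), hA⟩, ⟨B, m, hUV.trans inf_le_right, hB⟩⟩

include hI hσ hd h₁ h₂ hpull

theorem isZero_RpushAb_presented (p : ℕ) (hp : 1 ≤ p) :
    IsZero ((Coh.RpushAb σ p).obj (Coh.toAb ((Scheme.Modules.pullback σ).obj T.X₃))) := by
  refine QCoh.Ab.Rpush_isZero_of_bound σ.base
    (fun W : Opens Y => ∃ U : Y.affineOpens, U.1 = W ∧ Nonempty (Good I U d) ∧
      (∃ (U₀ : Y.Opens) (n : ℕ), U.1 ≤ U₀ ∧ Nonempty (T.X₁.restrict U₀.ι ≅ FlatMod.freeMod U₀.toScheme n)) ∧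
      (∃ (U₀ : Y.Opens) (n : ℕ), U.1 ≤ U₀ ∧ Nonempty (T.X₂.restrict U₀.ι ≅ FlatMod.freeMod U₀.toScheme n)))
    (fun V y hy => by
      obtain ⟨U, hyU, hUV, h⟩ := exists_good_trivial hI T h₁ h₂ V y hy
      exact ⟨U.1, hUV, hyU, U, rfl, h⟩)
    0 (QCoh.abSheaf ((Scheme.Modules.pullback σ).obj T.X₃)) (fun W hW q hq => ?_) p hp
  obtain ⟨U, rfl, ⟨G⟩, ⟨A, n, hA, ⟨a⟩⟩, ⟨B, m, hB, ⟨b⟩⟩⟩ := hW
  obtain ⟨q, rfl⟩ := Nat.exists_eq_add_of_le' hq
  exact SiteBase.subsingleton_HU_X₃ (QCoh.toAb_shortExact hpull) (σ ⁻¹ᵁ U.1) (q + 1)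
    (subsingleton_HU_pullback hσ hd G hA a (q + 1)) (subsingleton_HU_pullback hσ hd G hB b q)

include hT

theorem isIso_unit_presented : IsIso ((Scheme.Modules.pullbackPushforwardAdjunction σ).unit.app T.X₃) := by
  let adj := Scheme.Modules.pullbackPushforwardAdjunction σ
  let F := Scheme.Modules.pushforward σ
  let T' := (T.map (Scheme.Modules.pullback σ)).map F
  haveI := adj.rightAdjoint_preservesLimits
  haveI := hpull.mono_f
  haveI hmono : Mono T'.f := inferInstanceAs (Mono (F.map _))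
  have hepi : Epi T'.g := by
    refine RelTildeX.epi_of_locally T'.g fun W t x hx => ?_
    obtain ⟨U, hxU, hUW, ⟨G⟩, ⟨A, n, hA, ⟨a⟩⟩, -⟩ := exists_good_trivial hI T h₁ h₂ W x hx
    exact ⟨U.1, hUW, hxU,
      SiteBase.surjective_sections_of_HU_one (QCoh.toAb_shortExact hpull) (σ ⁻¹ᵁ U.1)
        (subsingleton_HU_pullback hσ hd G hA a 0) _⟩
  have hT' : T'.ShortExact :=
    { exact := ShortComplex.exact_of_f_is_kernel _
        (KernelFork.mapIsLimit _ hpull.fIsKernel F)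
      mono_f := hmono
      epi_g := hepi }
  let φ : T ⟶ T' := ShortComplex.Hom.mk (adj.unit.app T.X₁) (adj.unit.app T.X₂) (adj.unit.app T.X₃)
    (adj.unit.naturality T.f).symm (adj.unit.naturality T.g).symm
  haveI : IsIso φ.τ₁ := isIso_unit hI hσ hd h₁
  haveI : IsIso φ.τ₂ := isIso_unit hI hσ hd h₂
  exact isIso_of_shortExact φ hT hT'

end Groth.Agent.BlowCoh
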