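import Groth.Agent.BlowCoh.Global
import Groth.Agent.BlowCoh.Canon

/-!
# The direct images of the structure sheaf and of the inverse of the exceptional ideal
-/

set_option autoImplicit false
set_option linter.style.haveILetI false
set_option linter.unusedSectionVars false
set_option backward.isDefEq.respectTransparency false
set_option backward.isDefEq.respectTransparency.types false
set_option maxHeartbeats 400000

universe u

open CategoryTheory CategoryTheory.Limits AlgebraicGeometry TopologicalSpace Opposite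
open Groth.Agent.BlowUpLib Groth.Agent.AModX

noncomputable section

namespace Groth.Agent.BlowCoh

open Groth.Agent

/-- A map of modules bijective on a basis is bijective on all opens. -/
theorem app_bijective_of_basis {Y : Scheme.{u}} {M N : Y.Modules} (φ : M ⟶ N)
    (h : ∀ (V : Y.Opens) (y : Y), y ∈ V → ∃ W ≤ V, y ∈ W ∧ Function.Bijective (φ.app W)) (V : Y.Opens) :
    Function.Bijective (φ.app V) := by
  have hinj : ∀ V : Y.Opens, Function.Injective (φ.app V) := fun V x x' hx => eq_of_locally _ _ fun p hp => by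
    obtain ⟨W, hWV, hpW, hb⟩ := h V p hp
    exact ⟨W, hWV, hpW, hb.1 (by rw [app_res, app_res, hx])⟩
  refine ⟨hinj V, fun y => ?_⟩
  choose W hWV hpW hb using fun p : V => h V p.1 p.2
  choose x hx using fun p => (hb p).2 (res N (hWV p) y)
  obtain ⟨s, hs, -⟩ := existsUnique_glue (M := M) W hWV (fun p hp => ⟨⟨p, hp⟩, hpW ⟨p, hp⟩⟩) x fun p q => by
    refine hinj _ ?_
    rw [app_res, app_res, hx, hx, res_res, res_res]
  refine ⟨s, eq_of_locally _ _ fun p hp => ⟨W ⟨p, hp⟩, hWV _, hpW _, ?_⟩⟩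
  rw [← app_res, hs, hx]

section Chart

variable {A : Type u} [CommRing A] [IsNoetherianRing A] {d : ℕ} {a : Fin d → A} {Y : Scheme.{u}}
  {f : Y ⟶ Spec (CommRingCat.of A)} (Cd : Charts a f) (ha : ∀ i, a i ∈ nonZeroDivisors A)
  (hE : BlowUp.IsEffCartierIdeal (exc a f)) (hq : CAlgX.IsQuasiRegular a) [Nonempty (Fin d)]

include Cd ha hE hq in
theorem strHom_top_bijective (hd : 0 < d) : Function.Bijective (strHom f ⊤) := by
  refine ⟨fun r r' h => ?_, fun v => ?_⟩
  · obtain ⟨i⟩ := ‹Nonempty (Fin d)›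
    refine Cd.inj i ?_
    rw [← strHom_res f (le_top : (Cd.U i).1 ≤ ⊤), ← strHom_res f (le_top : (Cd.U i).1 ≤ ⊤), h]
  · obtain ⟨x, -, hx⟩ := (range_map_top (embO Cd ha hE) ha hq (Or.inl (by omega)) le_top _).1 ⟨v, rfl⟩
    exact ⟨x, map_top_injective (embO Cd ha hE) le_top
      (show psi Cd ha le_top (strHom f ⊤ x) = psi Cd ha le_top v from (psi_strHom Cd ha le_top x).trans hx)⟩

variable {M : Y.Modules} (m : ℕ) (e : CohB1.tensorMod M (ClSub.idealMod (exc a f ^ m)) ≅ Coh.structureModule Y)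

omit [IsNoetherianRing A] [Nonempty (Fin d)] in
theorem pair_smul (i : Fin d) {V : Y.Opens} (hV : V ≤ (Cd.U i).1) (r : Γ(Y, V)) (s : Γ(M, V)) :
    pair Cd m e i hV (r • s) = r * pair Cd m e i hV s := by
  show e.hom.app V (InvX.tmul (r • s) _) = _
  rw [InvX.tmul_smul_left, Scheme.Modules.Hom.app_smul]
  rfl

omit [IsNoetherianRing A] in
theorem tw_smul (i : Fin d) (r : Γ(Y, W0 a f)) (s : Γ(M, W0 a f)) :
    tw Cd ha m e i (r • s) = psi Cd ha le_rfl r * tw Cd ha m e i s := by
  show mon a _ * psi Cd ha _ (pair Cd m e i _ (r • s)) = _ * (mon a _ * psi Cd ha _ (pair Cd m e i _ s))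
  rw [pair_smul, map_mul, mul_left_comm]

include Cd ha hE hq in
/-- The canonical section is a basis of the sections. -/
theorem canonical_bijective (hm : m < d ∨ 1 < d) (hMq : Coh.IsQCoh M)
    (hMJ : CohB1.tensorMod M (ClSub.idealMod (exc a f ^ m)) ≅ Coh.structureModule Y)
    {s : Γ(M, ⊤)} (hs : IsCanonical (exc a f ^ m) s) :
    Function.Bijective fun r : A => strHom f ⊤ r • s := by
  let Em := embTwist Cd ha hE m hMJ hMq
  let i₀ : Fin d := Classical.arbitrary _
  have hW : W0 a f ≤ ⊤ := le_top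
  have hn : -(d : ℤ) < -(m : ℤ) ∨ 1 < d := hm.imp (fun h => by omega) id
  have hd0 : 0 < d := by omega
  have hsmul : ∀ r : A, Em.map ⊤ hW (strHom f ⊤ r • s) = algebraMap A (Lau a) r * Em.map ⊤ hW s := fun r => by
    show tw Cd ha m hMJ i₀ (res M hW (strHom f ⊤ r • s)) = _ * tw Cd ha m hMJ i₀ (res M hW s)
    rw [res_smul, tw_smul, strHom_res, psi_strHom]
  obtain ⟨r₀, -, hr₀⟩ := (range_map_top Em ha hq hn hW _).1 ⟨s, rfl⟩
  have hloc : ∀ y : Y, ∃ (V : Y.Opens) (_ : y ∈ V), IsUnit (strHom f V r₀) := fun y => by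
    obtain ⟨i, hi⟩ := Cd.cover y
    obtain ⟨W, hWi, hyW, ℓ, h, hℓ, hh, hsh⟩ := hs y (Cd.U i).1 hi
    refine ⟨W.1, hyW, ?_⟩
    have hgen := ideal_pow_eq Cd i m hWi
    rw [hgen] at hh
    have ha' := ModPairLib.generator_mem_nonZeroDivisors (isEffCartierIdeal_pow hE m) hgen
    obtain ⟨c, hc⟩ := Ideal.mem_span_singleton'.1 (hh.le (Ideal.mem_span_singleton_self _))
    obtain ⟨c', hc'⟩ := Ideal.mem_span_singleton'.1 (hh.ge (Ideal.mem_span_singleton_self h))
    have hc'u : IsUnit c' := by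
      refine IsUnit.of_mul_eq_one c (sub_eq_zero.1 ((mem_nonZeroDivisors_iff_right.1 ha') _ ?_))
      rw [sub_mul, one_mul, sub_eq_zero, mul_comm c' c, mul_assoc, hc', hc]
    have hframe : InvX.IsFrame (hMJ.hom.app W.1 (InvX.tmul ℓ (res _ hWi (genSect Cd m i)))) := by
      refine fun V hV => ?_
      have h1 := InvX.isFrame_tmul hℓ ((isFrame_genSect Cd hE m i).res hWi) V hV
      have : (fun r : Γ(Y, V) => r • res (Coh.structureModule Y) hV
          (hMJ.hom.app W.1 (InvX.tmul ℓ (res _ hWi (genSect Cd m i))))) =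
          (hMJ.hom.app V) ∘ fun r => r • res _ hV (InvX.tmul ℓ (res _ hWi (genSect Cd m i))) := funext fun r => by
        show _ = hMJ.hom.app V _
        rw [Scheme.Modules.Hom.app_smul, app_res]
      exact this ▸ (ConcreteCategory.bijective_of_isIso (hMJ.hom.app V)).comp h1
    obtain ⟨v, hv⟩ := (hframe W.1 le_rfl).2 (show Γ(Coh.structureModule Y, W.1) from (1 : Γ(Y, W.1)))
    have hvu : IsUnit (pair Cd m hMJ i hWi ℓ) := by
      refine IsUnit.of_mul_eq_one v ?_
      rw [mul_comm]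
      dsimp only at hv
      rw [res_self] at hv
      exact hv
    have hpair : pair Cd m hMJ i hWi (res M le_top s) = strHom f W.1 r₀ * strHom f W.1 (a i) ^ m := by
      let σ : Fin 1 → Fin d := fun _ => i
      have hUs : Us Cd σ ≤ (Cd.U i).1 := Us_le Cd σ 0
      have h1 : pair Cd m hMJ i hUs (res M le_top s) = strHom f (Us Cd σ) r₀ * strHom f (Us Cd σ) (a i) ^ m := by
        refine psi_injective Cd ha hE σ ?_
        rw [map_mul, map_pow, psi_strHom, psi_strHom, ← map_pow, hr₀]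
        show _ = tw Cd ha m hMJ i₀ (res M hW s) * _
        rw [tw_indep Cd ha m hMJ i₀ i, ← res_res (le_top : Us Cd σ ≤ ⊤) (W0_le_Us Cd σ) s]
        show _ = mon a _ * psi Cd ha _ (pair Cd m hMJ i _ (res M _ (res M _ s))) * _
        rw [pair_res Cd m hMJ i hUs (W0_le_Us Cd σ), psi_res, mul_comm (mon a _), mul_assoc, smul_dlt_sub, mul_one]
      have hWU : W.1 ≤ Us Cd σ := le_iInf fun _ => hWi
      have h2 := congrArg (resR hWU) h1
      rw [← pair_res Cd m hMJ i hUs hWU, res_res, map_mul, map_pow, strHom_res, strHom_res] at h2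
      exact h2
    rw [hsh, pair_smul, ← hc'] at hpair
    have h3 : strHom f W.1 r₀ = c' * pair Cd m hMJ i hWi ℓ := sub_eq_zero.1
      ((mem_nonZeroDivisors_iff_right.1 ha') _ (by rw [sub_mul, sub_eq_zero, ← hpair]; ring))
    rw [h3]
    exact hc'u.mul hvu
  have hu : IsUnit (strHom f ⊤ r₀) := by
    refine RingedSpace.isUnit_of_isUnit_germ Y.toRingedSpace ⊤ _ fun y _ => ?_
    obtain ⟨V, hyV, hV⟩ := hloc y
    rw [← strHom_res f (le_top : V ≤ ⊤)] at hV
    have h := hV.map (Y.presheaf.germ V y hyV).hom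
    rw [InvX.germ_resR'] at h
    exact h
  have hru : IsUnit r₀ := by
    obtain ⟨w, hw⟩ := (strHom_top_bijective Cd ha hE hq (by omega)).2 (↑hu.unit⁻¹)
    refine IsUnit.of_mul_eq_one w ((strHom_top_bijective Cd ha hE hq (by omega)).1 ?_)
    rw [map_mul, hw, map_one, IsUnit.mul_val_inv]
  refine ⟨fun r r' h => ?_, fun v => ?_⟩
  · have h1 := congrArg (Em.map ⊤ hW) h
    dsimp only at h1
    rw [hsmul, hsmul, ← hr₀, ← map_mul, ← map_mul] at h1
    exact hru.mul_left_inj.1 (algebraMap_injective a ha h1)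
  · obtain ⟨x, -, hx⟩ := (range_map_top Em ha hq hn hW _).1 ⟨v, rfl⟩
    refine ⟨x * ↑hru.unit⁻¹, map_top_injective Em hW ?_⟩
    rw [hsmul, ← hr₀, ← map_mul, mul_assoc, IsUnit.val_inv_mul, mul_one, hx]

end Chart

end Groth.Agent.BlowCoh
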