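import Groth.Agent.BlowCoh.LocFree
import Groth.Agent.S0927
import Groth.Agent.KFlatLib.Scheme.RpushQCoh
import Groth.Agent.Big.Comap

/-!
# Pullbacks of invertible modules twisted by powers of the exceptional ideal
-/

set_option autoImplicit false
set_option linter.style.haveILetI false
set_option linter.unusedSectionVars false
set_option backward.isDefEq.respectTransparency false
set_option backward.isDefEq.respectTransparency.types false
set_option maxHeartbeats 400000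

universe u

open CategoryTheory CategoryTheory.Limits AlgebraicGeometry TopologicalSpace Opposite
open Groth.Agent.BlowUpLib Groth.Agent.AModX Groth.Agent.QCoh.Ab

noncomputable section

namespace Groth.Agent.BlowCoh

open Groth.Agent

section Chart

variable {A : Type u} [CommRing A] [IsNoetherianRing A] {d : ℕ} {a : Fin d → A} {Y : Scheme.{u}}
  {f : Y ⟶ Spec (CommRingCat.of A)} (Cd : Charts a f) (ha : ∀ i, a i ∈ nonZeroDivisors A)
  (hE : BlowUp.IsEffCartierIdeal (exc a f)) (hq : CAlgX.IsQuasiRegular a) [Nonempty (Fin d)]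

include Cd ha hE hq in
/-- A function in the power of the exceptional ideal lies in the power of the centre. -/
theorem mem_ctr_pow (m : ℕ) (r : A) (h : ∀ i, strHom f (Cd.U i).1 r ∈ (exc a f ^ m).ideal (Cd.U i)) :
    r ∈ ctr a ^ m := by
  have hsupp : ∀ i, ∃ k, algebraMap A (Lau a) r ∈ Lev a k (m : ℤ) (rng fun _ : Fin 1 => i) := fun i => by
    have hUs : Us Cd (fun _ : Fin 1 => i) ≤ (Cd.U i).1 := Us_le Cd _ 0
    have h1 := h i
    rw [ideal_pow_eq Cd i m le_rfl, Ideal.mem_span_singleton'] at h1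
    obtain ⟨w, hw⟩ := h1
    obtain ⟨k, hk⟩ := psi_mem Cd ha hE (fun _ : Fin 1 => i) (resR hUs w)
    refine ⟨k, ?_⟩
    have h2 := smul_dlt_mem i m hk
    rw [zero_add, psi_res Cd ha (W0_le_Us Cd _) hUs, mon_smul_dlt, mul_comm, map_pow,
      ← psi_strHom Cd ha (W0_le Cd i) (a i), ← map_pow, ← map_mul, hw, psi_strHom] at h2
    exact h2
  choose k hk using hsupp
  let i₁ : Fin d := Classical.arbitrary _
  have hK : Supp a (Finset.univ.sup k) (m : ℤ) (fun _ : Fin 1 → Fin d => algebraMap A (Lau a) r) := fun σ => by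
    obtain ⟨i, rfl⟩ : ∃ i, σ = fun _ => i := ⟨σ 0, funext fun b => congrArg σ (Subsingleton.elim b 0)⟩
    exact Lev_mono_level a (Finset.le_sup (Finset.mem_univ i)) (hk i)
  obtain ⟨w, hw, hwe⟩ := exists_primitive a ha hq (by have := Fin.pos i₁; omega) (fun _ : Fin 1 → Fin d => algebraMap A (Lau a) r) hK
    fun τ => by simp [delta, Fin.sum_univ_two]
  obtain ⟨i⟩ := ‹Nonempty (Fin d)›
  have h1 := hwe fun _ => i
  have h2 := hw Fin.elim0
  rw [rng_eq_empty, mem_Lev_empty] at h2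
  obtain ⟨x, hx, hxw⟩ := h2
  have h3 : algebraMap A (Lau a) x = algebraMap A (Lau a) r := by
    refine hxw.trans ?_
    rw [← h1, delta, Fin.sum_univ_one]
    simp only [Fin.val_zero, pow_zero, one_smul]
    exact congrArg w (funext fun b => b.elim0)
  rw [← algebraMap_injective a ha h3]
  rwa [Int.toNat_natCast] at hx

end Chart

variable {X Y : Scheme.{u}} {σ : X ⟶ Y} {I : Y.IdealSheafData} {d : ℕ}
  (hI : HasGood I d) (hσ : BlowUp.IsBlowUp σ I) (hd : 0 < d)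

theorem resR_idealSect_mem (K : X.IdealSheafData) {V : X.Opens} (k : Γ(ClSub.idealMod K, V)) (W : X.affineOpens)
    (hW : W.1 ≤ V) : resR hW (OmegaSh.idealSect K V k) ∈ K.ideal W := by
  have h := OmegaLib.idealSect_map K hW k
  have h1 := OmegaLib.idealSect_mem K W ((ClSub.idealMod K).presheaf.map (homOfLE hW).op k)
  rw [h] at h1
  exact h1

theorem bijective_idealPush {J : Y.IdealSheafData} {K : X.IdealSheafData}
    (α : ClSub.idealMod J ⟶ (Scheme.Modules.pushforward σ).obj (ClSub.idealMod K))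
    (hα : ∀ (U : Y.Opens) (s : Γ(ClSub.idealMod J, U)),
      OmegaSh.idealSect K (σ ⁻¹ᵁ U) (α.app U s) = σ.app U (OmegaSh.idealSect J U s))
    (U : Y.affineOpens) (hσb : Function.Bijective (σ.app U.1))
    (hmem : ∀ r : Γ(Y, U.1), (∀ (W : X.affineOpens) (hW : W.1 ≤ σ ⁻¹ᵁ U.1),
      resR hW (σ.app U.1 r) ∈ K.ideal W) → r ∈ J.ideal U) :
    Function.Bijective (α.app U.1) := by
  refine ⟨fun s t hst => ?_, fun k => ?_⟩
  · exact OmegaLib.idealSect_injective J U.1 (hσb.1 ((hα U.1 s).symm.trans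
      ((congrArg (OmegaSh.idealSect K (σ ⁻¹ᵁ U.1)) hst).trans (hα U.1 t))))
  · let k' : Γ(ClSub.idealMod K, σ ⁻¹ᵁ U.1) := k
    obtain ⟨r, hr⟩ := hσb.2 (OmegaSh.idealSect K (σ ⁻¹ᵁ U.1) k')
    have hr' : r ∈ J.ideal U := hmem r fun W hW => by rw [hr]; exact resR_idealSect_mem K k' W hW
    obtain ⟨s, hs⟩ := OmegaLib.exists_of_mem J U r hr'
    have h : OmegaSh.idealSect K (σ ⁻¹ᵁ U.1) (α.app U.1 s) = OmegaSh.idealSect K (σ ⁻¹ᵁ U.1) k' := by
      rw [hα, hs, hr]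
    exact ⟨s, OmegaLib.idealSect_injective K (σ ⁻¹ᵁ U.1) h⟩

theorem strHom_chart (U : Y.affineOpens) (V : (σ ⁻¹ᵁ U.1).toScheme.Opens) {W : X.Opens} (hW : W ≤ σ ⁻¹ᵁ U.1)
    (hV : V ≤ (σ ⁻¹ᵁ U.1).ι ⁻¹ᵁ W) (r : Γ(Y, U.1)) :
    strHom (fU σ U) V r = ((σ ⁻¹ᵁ U.1).ι.appLE W V hV).hom (resR hW (σ.app U.1 r)) := by
  rw [← strHom_res (fU σ U) (le_top : V ≤ ⊤), strHom_fU, Scheme.Opens.ι_appLE]
  generalize σ.app U.1 r = g
  exact (ConcreteCategory.congr_hom (X.presheaf.map_comp _ _).symm g).trans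
    ((congrArg (fun q => X.presheaf.map q g) (Subsingleton.elim _ _)).trans
      (ConcreteCategory.congr_hom (X.presheaf.map_comp (homOfLE hW).op _) g))

theorem nonempty_restrict_twist {M : Y.Modules} {U₀ : Y.Opens}
    (e : M.restrict U₀.ι ≅ Coh.structureModule U₀.toScheme) {U : Y.Opens} (h : U ≤ U₀) (N : X.Modules) :
    Nonempty ((CohB1.tensorMod ((Scheme.Modules.pullback σ).obj M) N).restrict (σ ⁻¹ᵁ U).ι ≅
      N.restrict (σ ⁻¹ᵁ U).ι) := by
  let j := (σ ⁻¹ᵁ U).ι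
  let u₀ : Coh.structureModule U₀.toScheme ≅ FlatMod.freeMod U₀.toScheme 1 :=
    (coproductUniqueIso fun _ : Fin 1 => Coh.structureModule U₀.toScheme).symm
  obtain ⟨r⟩ := nonempty_restrict_pullback (σ := σ) (n := 1) (e ≪≫ u₀) h
  let u₁ : FlatMod.freeMod (σ ⁻¹ᵁ U).toScheme 1 ≅ Coh.structureModule (σ ⁻¹ᵁ U).toScheme :=
    coproductUniqueIso fun _ : Fin 1 => Coh.structureModule (σ ⁻¹ᵁ U).toScheme
  obtain ⟨t⟩ := H23.PicMul.pull j ((Scheme.Modules.pullback σ).obj M) N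
  obtain ⟨c⟩ := H23.PicMul.comm (Coh.structureModule (σ ⁻¹ᵁ U).toScheme) ((Scheme.Modules.pullback j).obj N)
  obtain ⟨v⟩ := H23.PicMul.unit ((Scheme.Modules.pullback j).obj N)
  let P := Scheme.Modules.restrictFunctorIsoPullback j
  exact ⟨P.app _ ≪≫ t ≪≫ PicGrp.tensorModIso ((P.app _).symm ≪≫ r ≪≫ u₁) (Iso.refl _) ≪≫ c ≪≫ v ≪≫
    (P.app N).symm⟩

include hI hσ hd

theorem natPushEquiv_twist {M : Y.Modules} (hM : PicF.IsInvertible M) (m : ℕ) (q : ℕ) :
    PnCoh.NatPushEquiv (Y := Y.toPresheafedSpace.carrier) σ.base (QCoh.abSheaf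
      (CohB1.tensorMod ((Scheme.Modules.pullback σ).obj M) (ClSub.idealMod ((I.comap σ) ^ m)))) q :=
  PnCoh.H_push_equiv_natural_of_HU σ.base
    (fun W : Opens Y => ∃ U : Y.affineOpens, U.1 = W ∧ Nonempty (Good I U d) ∧
      ∃ U₀ : Y.Opens, U.1 ≤ U₀ ∧ Nonempty (M.restrict U₀.ι ≅ Coh.structureModule U₀.toScheme))
    (fun V y hy => by
      obtain ⟨U₀, hy₀, he⟩ := hM y
      obtain ⟨U, hyU, hUV, hG⟩ := hI (V ⊓ U₀) y ⟨hy, hy₀⟩
      exact ⟨U.1, hUV.trans inf_le_left, hyU, U, rfl, hG, U₀, hUV.trans inf_le_right, he⟩)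
    _ (fun W hW q => by
      obtain ⟨U, rfl, ⟨G⟩, U₀, hU, ⟨e⟩⟩ := hW
      haveI : Nonempty (Fin d) := ⟨⟨0, hd⟩⟩
      obtain ⟨Cd⟩ := exists_chartsU G hσ
      obtain ⟨r⟩ := nonempty_restrict_twist (σ := σ) e hU (ClSub.idealMod ((I.comap σ) ^ m))
      obtain ⟨r'⟩ := nonempty_restrict_pow (σ := σ) G m
      exact subsingleton_HU_preimage G hσ Cd
        (KFlatLib.isQCoh_tensor (ProjUPX.isQCoh_of_isInvertible (PicClLib.isInvertible_pullback σ hM))
          (PPSheaf.GrCoh.isQCoh_idealMod _)) (r ≪≫ r') (embIdeal Cd G.regular (isEff_excU G hσ) m) (by omega) q) q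

omit hI in
theorem mem_pow_of_app (m : ℕ) {U : Y.affineOpens} (G : Good I U d) (r : Γ(Y, U.1))
    (h : ∀ (W : X.affineOpens) (hW : W.1 ≤ σ ⁻¹ᵁ U.1), resR hW (σ.app U.1 r) ∈ ((I ^ m).comap σ).ideal W) :
    r ∈ (I ^ m).ideal U := by
  haveI := G.noeth
  haveI : Nonempty (Fin d) := ⟨⟨0, hd⟩⟩
  obtain ⟨Cd⟩ := exists_chartsU G hσ
  rw [Scheme.IdealSheafData.ideal_pow, Pi.pow_apply, G.eq]
  refine mem_ctr_pow Cd G.regular (isEff_excU G hσ) G.quasi m r fun i => ?_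
  let Z := σ ⁻¹ᵁ U.1
  let W : X.affineOpens := ⟨Z.ι ''ᵁ (Cd.U i).1, (Cd.U i).2.image_of_isOpenImmersion Z.ι⟩
  have hWZ : W.1 ≤ Z := Z.ι_image_le _
  have hVW : (Cd.U i).1 ≤ Z.ι ⁻¹ᵁ W.1 := fun z hz => ⟨z, hz, rfl⟩
  have h2 := Ideal.mem_map_of_mem (Z.ι.appLE W.1 (Cd.U i).1 hVW).hom (h W hWZ)
  rw [← ModPairLib.ideal_comap _ Z.ι W (Cd.U i) hVW, FComplLib.comap_pow, FComplLib.comap_pow,
    ← exc_fU G] at h2
  rw [strHom_chart U (Cd.U i).1 hWZ hVW r]
  exact h2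

/-- The direct image of a power of the exceptional ideal. -/
theorem nonempty_pushforward_idealMod (m : ℕ) :
    Nonempty ((Scheme.Modules.pushforward σ).obj (ClSub.idealMod ((I.comap σ) ^ m)) ≅ ClSub.idealMod (I ^ m)) := by
  obtain ⟨α, hα⟩ := Big.exists_idealPush σ (I ^ m)
  have hσb := app_bijective hI hσ hd
  have hb : ∀ (U : Y.affineOpens), Nonempty (Good I U d) → Function.Bijective (α.app U.1) := fun U ⟨G⟩ =>
    bijective_idealPush α hα U (hσb U.1) (mem_pow_of_app hσ hd m G)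
  have hbij := app_bijective_of_basis α fun V y hy => by
    obtain ⟨U, hyU, hUV, hG⟩ := hI V y hy
    exact ⟨U.1, hUV, hyU, hb U hG⟩
  haveI : IsIso α := Scheme.Modules.Hom.isIso_iff_isIso_app.2 fun V =>
    (ConcreteCategory.isIso_iff_bijective _).2 (hbij V)
  have e : (I ^ m).comap σ = (I.comap σ) ^ m := FComplLib.comap_pow σ I m
  exact ⟨(Scheme.Modules.pushforward σ).mapIso (eqToIso (congrArg ClSub.idealMod e.symm)) ≪≫ (asIso α).symm⟩

/-- The direct image of a twist. -/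
theorem nonempty_pushforward_twist {M : Y.Modules} (hM : PicF.IsInvertible M) (m : ℕ) :
    Nonempty ((Scheme.Modules.pushforward σ).obj
      (CohB1.tensorMod ((Scheme.Modules.pullback σ).obj M) (ClSub.idealMod ((I.comap σ) ^ m))) ≅
        CohB1.tensorMod M (ClSub.idealMod (I ^ m))) := by
  haveI : HasInjectiveResolutions X.Modules := KFlatLib.hasInjectiveResolutions_modules
  obtain ⟨e⟩ := S0927.result σ (ClSub.idealMod ((I.comap σ) ^ m)) M (H23.PullPush.isFinLocFree_of_isInvertible hM) 0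
  obtain ⟨p⟩ := nonempty_pushforward_idealMod hI hσ hd m
  let z := (Scheme.Modules.pushforward σ).rightDerivedZeroIsoSelf
  exact ⟨(z.app _).symm ≪≫ e.symm ≪≫ PicGrp.tensorModIso (Iso.refl M) (z.app _ ≪≫ p)⟩

end Groth.Agent.BlowCoh
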