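import Groth.Agent.BlowCoh.Cover
import Groth.Agent.QCoh.CechComparison
import Groth.Agent.QCoh.Ab.CechBridge

/-!
# Vanishing of the higher cohomology of the exceptional twists over an affine base
-/

set_option autoImplicit false
set_option linter.style.haveILetI false
set_option linter.unusedSectionVars false
set_option backward.isDefEq.respectTransparency false
set_option maxHeartbeats 400000

universe u

open CategoryTheory AlgebraicGeometry TopologicalSpace Opposite
open Groth.Agent.BlowUpLib Groth.Agent.AModX Groth.Agent.QCoh.Ab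

noncomputable section

namespace Groth.Agent.BlowCoh

open Groth.Agent

theorem Lev_mono_level {A : Type u} [CommRing A] {d : ℕ} (a : Fin d → A) {k K : ℕ} (h : k ≤ K) {n : ℤ}
    {S : Finset (Fin d)} : Lev a k n S ≤ Lev a K n S := by
  intro u hu
  obtain ⟨x, hx, rfl⟩ := (mem_Lev a).1 hu
  refine mon_mem a (fun i _ => ?_) (fun i hi => ?_) ?_ hx
  · simp only [negOn]; split_ifs <;> omega
  · simp [negOn, hi]
  · rw [sum_negOn]; omega

variable {A : Type u} [CommRing A] {d : ℕ} {a : Fin d → A} {Y : Scheme.{u}} {f : Y ⟶ Spec (CommRingCat.of A)}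

/-- A module whose sections over the intersections of the charts are the elements of degree `n`. -/
structure Emb (Cd : Charts a f) (N : Y.Modules) (n : ℤ) where
  map : ∀ U : Y.Opens, W0 a f ≤ U → Γ(N, U) →+ Lau a
  map_res : ∀ (U V : Y.Opens) (h : W0 a f ≤ V) (hVU : V ≤ U) (v : Γ(N, U)),
    map V h (res N hVU v) = map U (h.trans hVU) v
  inj : ∀ (q : ℕ) (σ : Fin (q + 1) → Fin d), Function.Injective (map (Us Cd σ) (W0_le_Us Cd σ))
  mem : ∀ (q : ℕ) (σ : Fin (q + 1) → Fin d) (v : Γ(N, Us Cd σ)),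
    ∃ k, map (Us Cd σ) (W0_le_Us Cd σ) v ∈ Lev a k n (rng σ)
  surj : ∀ (q : ℕ) (σ : Fin (q + 1) → Fin d) (k : ℕ) (u : Lau a), u ∈ Lev a k n (rng σ) →
    ∃ v, map (Us Cd σ) (W0_le_Us Cd σ) v = u

variable {Cd : Charts a f} {N : Y.Modules} {n : ℤ} (Em : Emb Cd N n)

variable (Cd) in
/-- The covering, indexed in the universe of the scheme. -/
abbrev cov : ULift.{u} (Fin d) → Y.Opens := fun i => (Cd.U i.down).1

theorem le_Us {q : ℕ} {σ : Fin (q + 1) → Fin d} {W : Y.Opens}
    (h : Le (X := Y.toPresheafedSpace.carrier) (cov Cd) (fun b => (⟨σ b⟩ : ULift.{u} (Fin d))) W) :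
    W ≤ Us Cd σ :=
  le_iInf h

theorem Us_le_tuple {q : ℕ} (σ : Fin (q + 1) → Fin d) :
    Le (X := Y.toPresheafedSpace.carrier) (cov Cd) (fun b => (⟨σ b⟩ : ULift.{u} (Fin d))) (Us Cd σ) :=
  fun b => Us_le Cd σ b

/-- The values of a cochain in the localisation. -/
def coch {p : ℕ} (c : Cochain (X := Y.toPresheafedSpace.carrier) N.presheaf (cov Cd) (p + 1))
    (σ : Fin (p + 1) → Fin d) : Lau a :=
  Em.map (Us Cd σ) (W0_le_Us Cd σ) (c (fun b => ⟨σ b⟩) ⟨Us Cd σ, Us_le_tuple σ⟩ : Γ(N, Us Cd σ))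

theorem coch_d {p : ℕ} (c : Cochain (X := Y.toPresheafedSpace.carrier) N.presheaf (cov Cd) (p + 1))
    (hc : IsNatural c) (τ : Fin (p + 2) → Fin d) :
    coch Em (Groth.Agent.QCoh.Ab.d c) τ = delta (coch Em c) τ := by
  refine (map_sum (Em.map (Us Cd τ) (W0_le_Us Cd τ)) _ _).trans (Finset.sum_congr rfl fun b _ => ?_)
  refine (map_zsmul _ _ _).trans (congrArg _ ?_)
  have hle : Us Cd τ ≤ Us Cd (fun i => τ (b.succAbove i)) := le_iInf fun i => Us_le Cd τ (b.succAbove i)
  refine Eq.trans ?_ (Em.map_res _ _ (W0_le_Us Cd τ) hle _)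
  exact congrArg _ (hc _ _ _ (Us_le_tuple _) _ (homOfLE hle)).symm

theorem exists_level {p : ℕ} (z : (Fin (p + 1) → Fin d) → Lau a) (h : ∀ σ, ∃ k, z σ ∈ Lev a k n (rng σ)) :
    ∃ K, Supp a K n z := by
  choose k hk using h
  exact ⟨Finset.univ.sup k, fun σ => Lev_mono_level a (Finset.le_sup (Finset.mem_univ σ)) (hk σ)⟩

include Em in
theorem acyclic [IsNoetherianRing A] (ha : ∀ i, a i ∈ nonZeroDivisors A) (hq : CAlgX.IsQuasiRegular a)
    (hn : -(d : ℤ) < n) [Nonempty (Fin d)] :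
    Acyclic (X := Y.toPresheafedSpace.carrier) N.presheaf (cov Cd) := by
  intro p c hc hd
  obtain ⟨K, hK⟩ := exists_level (coch Em c) fun σ => Em.mem _ σ _
  obtain ⟨w, hw, hwe⟩ := exists_primitive a ha hq hn (coch Em c) hK fun τ => by
    rw [← coch_d Em c hc τ]
    refine (congrArg (Em.map (Us Cd τ) (W0_le_Us Cd τ)) ?_).trans (map_zero _)
    exact congrFun (congrFun hd _) _
  choose x hx using fun σ => Em.surj _ σ K _ (hw σ)
  let h : Cochain (X := Y.toPresheafedSpace.carrier) N.presheaf (cov Cd) (p + 1) := fun σ W =>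
    N.presheaf.map (homOfLE (le_Us (σ := fun b => (σ b).down) W.2)).op (x fun b => (σ b).down : _)
  have hh : IsNatural h := fun σ W W' hW hW' i => map_map'' _ _ _ _ _
  have hhL : coch Em h = w := funext fun σ => by
    rw [← hx σ]
    exact congrArg (Em.map (Us Cd σ) (W0_le_Us Cd σ)) (map_self _ _ _)
  refine ⟨h, hh, funext fun σ => funext fun W => ?_⟩
  rw [← (d_natural hh) σ (Us Cd fun b => (σ b).down) W.1 (Us_le_tuple _) W.2 (homOfLE (le_Us W.2)),
    ← hc σ (Us Cd fun b => (σ b).down) W.1 (Us_le_tuple _) W.2 (homOfLE (le_Us W.2))]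
  refine congrArg _ ?_
  refine Em.inj _ (fun b => (σ b).down) ?_
  have h1 := coch_d Em h hh (fun b => (σ b).down)
  rw [hhL, hwe] at h1
  exact h1

theorem iSup_cov : ⨆ i, cov Cd i = ⊤ :=
  eq_top_iff.2 fun y _ => Opens.mem_iSup.2 (let ⟨i, hi⟩ := Cd.cover y; ⟨⟨i⟩, hi⟩)

include Em in
/-- Higher cohomology vanishes. -/
theorem subsingleton_HH [IsNoetherianRing A] (hE : BlowUp.IsEffCartierIdeal (exc a f))
    (ha : ∀ i, a i ∈ nonZeroDivisors A) (hq : CAlgX.IsQuasiRegular a) (hn : -(d : ℤ) < n) [Nonempty (Fin d)]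
    (hN : Coh.IsQCoh N) (q : ℕ) : Subsingleton (Coh.HH Y N (q + 1)) := by
  obtain ⟨e⟩ := QCoh.cechH_equiv_HH (cov Cd) iSup_cov
    (fun σ => isAffineOpen_Us Cd hE (fun b => (σ b).down)) hN (q + 1)
  have h := ((exactAt_iff_acyclic (X := Y.toPresheafedSpace.carrier) _ _).2 (acyclic Em ha hq hn) q).isZero_homology
  have : Subsingleton ↑(CohB1.cechH (cov Cd) N (q + 1)) := AddCommGrpCat.subsingleton_of_isZero h
  exact e.symm.subsingleton

include Em in
/-- Global sections are determined by their value in the localisation. -/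
theorem map_top_injective (h : W0 a f ≤ ⊤) : Function.Injective (Em.map ⊤ h) := fun s t hst => by
  refine eq_of_locally _ _ fun y _ => ?_
  obtain ⟨i, hi⟩ := Cd.cover y
  refine ⟨Us Cd (fun _ : Fin 1 => i), le_top, ?_, Em.inj 0 _ ?_⟩
  · show y ∈ (↑(⨅ _b : Fin 1, (Cd.U i).1) : Set Y)
    rw [Opens.coe_iInf]
    exact Set.mem_iInter.2 fun _ => hi
  · rw [Em.map_res, Em.map_res, hst]

include Em in
/-- Global sections are the elements of the power of the centre. -/
theorem range_map_top [IsNoetherianRing A] (ha : ∀ i, a i ∈ nonZeroDivisors A) (hq : CAlgX.IsQuasiRegular a)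
    (hn : -(d : ℤ) < n ∨ 1 < d) [Nonempty (Fin d)] (h : W0 a f ≤ ⊤) (u : Lau a) :
    (∃ s, Em.map ⊤ h s = u) ↔ ∃ x ∈ ctr a ^ n.toNat, algebraMap A (Lau a) x = u := by
  constructor
  · rintro ⟨s, rfl⟩
    obtain ⟨K, hK⟩ := exists_level (fun _ : Fin 1 → Fin d => Em.map ⊤ h s) fun σ => by
      obtain ⟨k, hk⟩ := Em.mem 0 σ (res N le_top s)
      exact ⟨k, by rwa [Em.map_res] at hk⟩
    obtain ⟨w, hw, hwe⟩ := exists_primitive' a ha hq (q := 0) hn (fun _ : Fin 1 → Fin d => Em.map ⊤ h s) hK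
      fun τ => by simp [delta, Fin.sum_univ_two]
    obtain ⟨i⟩ := ‹Nonempty (Fin d)›
    have h1 := hwe fun _ => i
    have h2 := hw Fin.elim0
    rw [rng_eq_empty, mem_Lev_empty] at h2
    obtain ⟨x, hx, hxw⟩ := h2
    refine ⟨x, hx, hxw.trans ?_⟩
    rw [← h1, delta, Fin.sum_univ_one]
    simp only [Fin.val_zero, pow_zero, one_smul]
    exact congrArg w (funext fun b => b.elim0)
  · rintro ⟨x, hx, rfl⟩
    have hmem : ∀ σ : Fin 1 → Fin d, algebraMap A (Lau a) x ∈ Lev a 0 n (rng σ) := fun σ => by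
      have := mon_mem a (k := 0) (n := n) (S := rng σ) (e := 0) (fun _ _ => by simp) (fun _ _ => by simp)
        (j := n.toNat) (by simp) hx
      rwa [mon_zero, one_mul] at this
    choose v hv using fun i : Fin d => Em.surj 0 (fun _ => i) 0 _ (hmem fun _ => i)
    have hU : ∀ i : Fin d, Us Cd (fun _ : Fin 1 => i) = (Cd.U i).1 := fun i =>
      le_antisymm (Us_le Cd _ 0) (le_iInf fun _ => le_rfl)
    obtain ⟨s, hs, -⟩ := existsUnique_glue (M := N) (V := ⊤) (fun i : ULift.{u} (Fin d) => Us Cd (fun _ : Fin 1 => i.down))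
      (fun _ => le_top) (fun y _ => by
        obtain ⟨i, hi⟩ := Cd.cover y
        exact ⟨⟨i⟩, (hU i).ge hi⟩) (fun i => v i.down) fun i j => by
      let σ : Fin 2 → Fin d := ![i.down, j.down]
      have h1 : Us Cd σ ≤ Us Cd (fun _ : Fin 1 => i.down) := le_iInf fun _ => Us_le Cd σ 0
      have h2 : Us Cd σ ≤ Us Cd (fun _ : Fin 1 => j.down) := le_iInf fun _ => Us_le Cd σ 1
      have h3 : res N h1 (v i.down) = res N h2 (v j.down) := Em.inj 1 σ (by
        rw [Em.map_res, Em.map_res, hv, hv])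
      have h4 : Us Cd (fun _ : Fin 1 => i.down) ⊓ Us Cd (fun _ : Fin 1 => j.down) ≤ Us Cd σ :=
        le_iInf fun b => by
          fin_cases b
          · exact inf_le_left.trans (Us_le Cd (fun _ : Fin 1 => i.down) 0)
          · exact inf_le_right.trans (Us_le Cd (fun _ : Fin 1 => j.down) 0)
      have h5 := congrArg (res N h4) h3
      rw [res_res, res_res] at h5
      exact h5
    obtain ⟨i⟩ := ‹Nonempty (Fin d)›
    refine ⟨s, ?_⟩
    rw [← hv i, ← hs ⟨i⟩, Em.map_res]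

end Groth.Agent.BlowCoh
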